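/-
Offenders on modules over the field with two elements: basic notions.
-/
import Mathlib.LinearAlgebra.Dual.Lemmas
import Mathlib.LinearAlgebra.FiniteDimensional.Lemmas
import Mathlib.FieldTheory.Finiteness
import Mathlib.GroupTheory.Sylow
import Cfsg.Prelude.Def_Local

set_option autoImplicit false
set_option linter.unusedSectionVars false
set_option linter.style.haveILetI false

namespace Cfsg.Agent.S3Free

open Module

universe u

instance factTwo : Fact (Nat.Prime 2) := ⟨Nat.prime_two⟩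

variable {X : Type u} [Group X] {V : Type u} [AddCommGroup V] [Module (ZMod 2) V]
variable (ρ : X →* (V ≃ₗ[ZMod 2] V))

/-- Fixed vectors of a subgroup. -/
def fx (H : Subgroup X) : Submodule (ZMod 2) V where
  carrier := {v | ∀ h ∈ H, ρ h v = v}
  add_mem' := fun {a b} ha hb h hh => by rw [map_add, ha h hh, hb h hh]
  zero_mem' := fun h _ => map_zero _
  smul_mem' := fun c v hv h hh => by rw [map_smul, hv h hh]

theorem mem_fx {H : Subgroup X} {v : V} : v ∈ fx ρ H ↔ ∀ h ∈ H, ρ h v = v := Iff.rfl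

/-- Elementary abelian of exponent two. -/
def El (A : Subgroup X) : Prop := ∀ a ∈ A, a * a = 1

/-- The exponent of the order. -/
noncomputable def dA (A : Subgroup X) : ℕ := Nat.log 2 (Nat.card A)

/-- An offender. -/
def Off (A : Subgroup X) : Prop :=
  El A ∧ A ≠ ⊥ ∧ finrank (ZMod 2) V ≤ dA A + finrank (ZMod 2) (fx ρ A)

/-- An offender none of whose proper nontrivial subgroups is one. -/
structure Tight (A : Subgroup X) : Prop where
  off : Off ρ A
  min : ∀ D, D ≤ A → D ≠ ⊥ → D ≠ A → dA D + finrank (ZMod 2) (fx ρ D) < finrank (ZMod 2) V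

/-- No element of order three inverted by a `2`-element. -/
def NoS3 (X : Type u) [Group X] : Prop :=
  ∀ b y : X, (∃ n, b ^ (2 ^ n) = 1) → y ^ 3 = 1 → b * y * b⁻¹ = y⁻¹ → y = 1

/-- Conjugate of a subgroup. -/
def cjS (g : X) (A : Subgroup X) : Subgroup X := A.map (MulAut.conj g).toMonoidHom

theorem mem_cjS {g x : X} {A : Subgroup X} : x ∈ cjS g A ↔ g⁻¹ * x * g ∈ A := by
  rw [cjS, Subgroup.mem_map_equiv]
  simp [MulAut.conj_symm_apply]

theorem conj_mem_cjS {g x : X} {A : Subgroup X} (h : x ∈ A) : g * x * g⁻¹ ∈ cjS g A :=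
  ⟨x, h, rfl⟩

theorem cjS_mul (g h : X) (A : Subgroup X) : cjS (g * h) A = cjS g (cjS h A) := by
  ext x
  simp only [mem_cjS, mul_inv_rev, mul_assoc]

theorem cjS_one (A : Subgroup X) : cjS 1 A = A := by
  ext x; simp [mem_cjS]

theorem cjS_mono (g : X) {A B : Subgroup X} (h : A ≤ B) : cjS g A ≤ cjS g B := Subgroup.map_mono h

theorem cjS_le_iff {g : X} {A B : Subgroup X} : cjS g A ≤ B ↔ A ≤ cjS g⁻¹ B := by
  constructor
  · intro h x hx
    rw [mem_cjS, inv_inv]
    exact h (conj_mem_cjS hx)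
  · intro h x hx
    have := h (mem_cjS.1 hx)
    rw [mem_cjS, inv_inv, show g * (g⁻¹ * x * g) * g⁻¹ = x by group] at this
    exact this

theorem El.mono {A B : Subgroup X} (h : El A) (hle : B ≤ A) : El B := fun b hb => h b (hle hb)

theorem El.comm {A : Subgroup X} (h : El A) {a b : X} (ha : a ∈ A) (hb : b ∈ A) : a * b = b * a := by
  have h1 : ∀ c ∈ A, c⁻¹ = c := fun c hc => inv_eq_of_mul_eq_one_right (h c hc)
  calc a * b = (a * b)⁻¹ := (h1 _ (A.mul_mem ha hb)).symm
    _ = b * a := by rw [mul_inv_rev, h1 a ha, h1 b hb]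

theorem El.isPGroup {A : Subgroup X} (h : El A) : IsPGroup 2 A := fun x =>
  ⟨1, Subtype.ext (by rw [pow_one, SubmonoidClass.coe_pow, pow_two]; exact h x x.2)⟩

theorem El.cjS {A : Subgroup X} (h : El A) (g : X) : El (cjS g A) := by
  rintro _ ⟨a, ha, rfl⟩
  rw [← map_mul, h a ha, map_one]

theorem apply_inv_apply (g : X) (v : V) : ρ g⁻¹ (ρ g v) = v := by
  rw [← LinearEquiv.mul_apply, ← map_mul, inv_mul_cancel, map_one]; rfl

theorem apply_apply_inv (g : X) (v : V) : ρ g (ρ g⁻¹ v) = v := by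
  rw [← LinearEquiv.mul_apply, ← map_mul, mul_inv_cancel, map_one]; rfl

theorem apply_mul (g h : X) (v : V) : ρ (g * h) v = ρ g (ρ h v) := by
  rw [map_mul]; rfl

theorem add_self (v : V) : v + v = 0 := by
  have h : (2 : ZMod 2) = 0 := by decide
  rw [← two_smul (ZMod 2) v, h, zero_smul]

theorem neg_eq (v : V) : -v = v := neg_eq_of_add_eq_zero_left (add_self v)

theorem sub_eq_add (v w : V) : v - w = v + w := by rw [sub_eq_add_neg, neg_eq]

theorem fx_anti {A B : Subgroup X} (h : A ≤ B) : fx ρ B ≤ fx ρ A := fun _ hv a ha => hv a (h ha)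

theorem fx_cjS (g : X) (A : Subgroup X) :
    fx ρ (cjS g A) = (fx ρ A).map (ρ g).toLinearMap := by
  ext v
  constructor
  · intro hv
    refine ⟨ρ g⁻¹ v, fun a ha => ?_, apply_apply_inv ρ g v⟩
    have h1 := hv _ (conj_mem_cjS (g := g) ha)
    rw [apply_mul, apply_mul] at h1
    conv_rhs => rw [← h1]
    rw [apply_inv_apply]
  · rintro ⟨w, hw, rfl⟩ x hx
    have h1 := hw _ (mem_cjS.1 hx)
    rw [apply_mul, apply_mul] at h1
    change ρ x (ρ g w) = ρ g w
    conv_rhs => rw [← h1]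
    rw [apply_apply_inv]

theorem fx_sup_closure {s : Set X} {v : V} (h : ∀ x ∈ s, ρ x v = v) :
    v ∈ fx ρ (Subgroup.closure s) := by
  intro x hx
  induction hx using Subgroup.closure_induction with
  | mem x hx => exact h x hx
  | one => simp
  | mul a b _ _ ha hb => rw [apply_mul, hb, ha]
  | inv a _ ha => conv_lhs => rw [← ha]
                  rw [apply_inv_apply]

theorem fx_sup (A B : Subgroup X) : fx ρ (A ⊔ B) = fx ρ A ⊓ fx ρ B := by
  refine le_antisymm (le_inf (fx_anti ρ le_sup_left) (fx_anti ρ le_sup_right)) ?_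
  rintro v ⟨h1, h2⟩
  rw [← Subgroup.closure_eq A, ← Subgroup.closure_eq B, ← Subgroup.closure_union]
  exact fx_sup_closure ρ fun x hx => hx.elim (h1 x) (h2 x)

/-- The set stabilizer of a subspace. -/
def stab (c : Submodule (ZMod 2) V) : Subgroup X where
  carrier := {g | c.map (ρ g).toLinearMap = c}
  one_mem' := by
    change c.map (ρ 1).toLinearMap = c
    rw [map_one]; exact Submodule.map_id c
  mul_mem' := fun {a b} ha hb => by
    change c.map (ρ (a * b)).toLinearMap = c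
    rw [map_mul, show (ρ a * ρ b).toLinearMap = (ρ a).toLinearMap ∘ₗ (ρ b).toLinearMap from rfl,
      Submodule.map_comp, hb, ha]
  inv_mem' := fun {a} ha => by
    change c.map (ρ a⁻¹).toLinearMap = c
    conv_lhs => rw [← ha]
    rw [← Submodule.map_comp, show (ρ a⁻¹).toLinearMap ∘ₗ (ρ a).toLinearMap = LinearMap.id from
      LinearMap.ext fun v => apply_inv_apply ρ a v, Submodule.map_id]

theorem mem_stab {c : Submodule (ZMod 2) V} {g : X} :
    g ∈ stab ρ c ↔ c.map (ρ g).toLinearMap = c := Iff.rfl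

theorem apply_mem_of_stab {c : Submodule (ZMod 2) V} {g : X} (hg : g ∈ stab ρ c) {v : V}
    (hv : v ∈ c) : ρ g v ∈ c := by
  rw [← mem_stab ρ |>.1 hg]; exact ⟨v, hv, rfl⟩

theorem mem_stab_of_mem [Finite V] {c : Submodule (ZMod 2) V} {g : X}
    (h : ∀ v ∈ c, ρ g v ∈ c) : g ∈ stab ρ c := by
  refine Submodule.eq_of_le_of_finrank_eq ?_ ?_
  · rintro _ ⟨v, hv, rfl⟩; exact h v hv
  · exact LinearEquiv.finrank_map_eq (ρ g) c

theorem mem_stab_map {c : Submodule (ZMod 2) V} {g h : X} :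
    h ∈ stab ρ (c.map (ρ g).toLinearMap) ↔ g⁻¹ * h * g ∈ stab ρ c := by
  have he : ∀ a b : X, ∀ d : Submodule (ZMod 2) V,
      (d.map (ρ b).toLinearMap).map (ρ a).toLinearMap = d.map (ρ (a * b)).toLinearMap := by
    intro a b d
    rw [← Submodule.map_comp, map_mul]; rfl
  rw [mem_stab, mem_stab, he]
  constructor
  · intro h1
    rw [mul_assoc, ← he g⁻¹ (h * g) c, h1, he, inv_mul_cancel, map_one]
    exact Submodule.map_id c
  · intro h1
    rw [show h * g = g * (g⁻¹ * h * g) by group, ← he, h1]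

theorem stab_map (c : Submodule (ZMod 2) V) (g : X) :
    stab ρ (c.map (ρ g).toLinearMap) = cjS g (stab ρ c) := by
  ext h; rw [mem_stab_map, mem_cjS]

/-- The pointwise stabilizer of a subspace. -/
def fixer (c : Submodule (ZMod 2) V) : Subgroup X where
  carrier := {g | ∀ v ∈ c, ρ g v = v}
  one_mem' := fun v _ => by rw [map_one]; rfl
  mul_mem' := fun {a b} ha hb v hv => by rw [apply_mul, hb v hv, ha v hv]
  inv_mem' := fun {a} ha v hv => by conv_lhs => rw [← ha v hv]
                                    rw [apply_inv_apply]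

theorem mem_fixer {c : Submodule (ZMod 2) V} {g : X} : g ∈ fixer ρ c ↔ ∀ v ∈ c, ρ g v = v := Iff.rfl

theorem le_fx_of_le_fixer {H : Subgroup X} {c : Submodule (ZMod 2) V} (h : H ≤ fixer ρ c) :
    c ≤ fx ρ H := fun v hv g hg => h hg v hv

theorem le_fixer_of_le_fx {H : Subgroup X} {c : Submodule (ZMod 2) V} (h : c ≤ fx ρ H) :
    H ≤ fixer ρ c := fun g hg v hv => h hv g hg

theorem fixer_le_stab [Finite V] (c : Submodule (ZMod 2) V) : fixer ρ c ≤ stab ρ c :=
  fun _ hg => mem_stab_of_mem ρ fun v hv => by rw [hg v hv]; exact hv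

/-- The action of a stabilizer on an invariant subspace. -/
def res (H : Subgroup X) (U : Submodule (ZMod 2) V) (h : H ≤ stab ρ U) : H →* (U ≃ₗ[ZMod 2] U) where
  toFun g := (ρ (g : X)).ofSubmodules U U ((mem_stab ρ).1 (h g.2))
  map_one' := LinearEquiv.ext fun v => Subtype.ext (by
    change ρ 1 (v : V) = v; rw [map_one]; rfl)
  map_mul' a b := LinearEquiv.ext fun v => Subtype.ext (by
    change ρ ((a : X) * b) (v : V) = ρ (a : X) (ρ (b : X) v); rw [apply_mul])

theorem res_apply (H : Subgroup X) (U : Submodule (ZMod 2) V) (h : H ≤ stab ρ U) (g : H) (v : U) :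
    ((res ρ H U h g v : U) : V) = ρ (g : X) v := rfl

/-- The action of a stabilizer on a quotient. -/
def quo (H : Subgroup X) (T : Submodule (ZMod 2) V) (h : H ≤ stab ρ T) :
    H →* ((V ⧸ T) ≃ₗ[ZMod 2] (V ⧸ T)) where
  toFun g := Submodule.Quotient.equiv T T (ρ (g : X)) ((mem_stab ρ).1 (h g.2))
  map_one' := LinearEquiv.ext fun q => Submodule.Quotient.induction_on T q fun v => by
    change Submodule.Quotient.mk (ρ 1 v) = Submodule.Quotient.mk v; rw [map_one]; rfl
  map_mul' a b := LinearEquiv.ext fun q => Submodule.Quotient.induction_on T q fun v => by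
    change Submodule.Quotient.mk (ρ ((a : X) * b) v) =
      Submodule.Quotient.mk (ρ (a : X) (ρ (b : X) v))
    rw [apply_mul]

theorem quo_mk (H : Subgroup X) (T : Submodule (ZMod 2) V) (h : H ≤ stab ρ T) (g : H) (v : V) :
    quo ρ H T h g (Submodule.Quotient.mk v) = Submodule.Quotient.mk (ρ (g : X) v) := rfl

section Finite

variable [Finite X] [Finite V]

theorem El.card {A : Subgroup X} (h : El A) : Nat.card A = 2 ^ dA A := by
  obtain ⟨k, hk⟩ := IsPGroup.iff_card.1 h.isPGroup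
  rw [dA, hk, Nat.log_pow (by norm_num)]

theorem dA_cjS (g : X) (A : Subgroup X) : dA (cjS g A) = dA A := by
  rw [dA, dA, cjS, Subgroup.card_map_of_injective (MulAut.conj g).injective]

theorem dA_mono {A B : Subgroup X} (h : A ≤ B) : dA A ≤ dA B :=
  Nat.log_mono_right (Subgroup.card_le_of_le h)

theorem El.dA_lt {A B : Subgroup X} (hB : El B) (h : A ≤ B) (hne : A ≠ B) : dA A < dA B := by
  by_contra hc
  refine hne (Subgroup.eq_of_le_of_card_ge h ?_)
  rw [hB.card, (hB.mono h).card]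
  exact Nat.pow_le_pow_right (by norm_num) (not_lt.1 hc)

theorem El.dA_pos {A : Subgroup X} (hA : El A) (h : A ≠ ⊥) : 0 < dA A := by
  have h0 : dA (⊥ : Subgroup X) = 0 := by simp [dA]
  have := hA.dA_lt bot_le (Ne.symm h)
  omega

theorem finrank_fx_cjS (g : X) (A : Subgroup X) :
    finrank (ZMod 2) (fx ρ (cjS g A)) = finrank (ZMod 2) (fx ρ A) := by
  rw [fx_cjS]; exact LinearEquiv.finrank_map_eq (ρ g) _

theorem Tight.cjS {A : Subgroup X} (h : Tight ρ A) (g : X) : Tight ρ (cjS g A) := by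
  refine ⟨⟨h.off.1.cjS g, fun hb => h.off.2.1 ?_, ?_⟩, fun D hD hD0 hDne => ?_⟩
  · rw [S3Free.cjS, Subgroup.map_eq_bot_iff_of_injective _ (MulAut.conj g).injective] at hb
    exact hb
  · rw [dA_cjS, finrank_fx_cjS]; exact h.off.2.2
  · have h1 : S3Free.cjS g⁻¹ D ≤ A := cjS_le_iff.2 (by rwa [inv_inv])
    have h2 := h.min _ h1 (fun hb => hD0 ?_) (fun he => hDne ?_)
    · rwa [dA_cjS, finrank_fx_cjS] at h2
    · rw [S3Free.cjS, Subgroup.map_eq_bot_iff_of_injective _ (MulAut.conj g⁻¹).injective] at hb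
      exact hb
    · rw [← he, ← cjS_mul, mul_inv_cancel, cjS_one]

/-- An offender contains a tight one. -/
theorem exists_tight {A : Subgroup X} (h : Off ρ A) : ∃ D ≤ A, Tight ρ D := by
  induction hn : dA A using Nat.strong_induction_on generalizing A with
  | _ n ih =>
    by_cases hm : ∀ D, D ≤ A → D ≠ ⊥ → D ≠ A → dA D + finrank (ZMod 2) (fx ρ D) < finrank (ZMod 2) V
    · exact ⟨A, le_rfl, h, hm⟩
    · push Not at hm
      obtain ⟨D, hD, hD0, hDA, hle⟩ := hm
      obtain ⟨D', h1, h2⟩ := ih (dA D) (hn ▸ h.1.dA_lt hD hDA) ⟨h.1.mono hD, hD0, hle⟩ rfl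
      exact ⟨D', h1.trans hD, h2⟩

/-- A `2`-group fixes a nonzero vector of every invariant subspace. -/
theorem exists_fixed {P : Subgroup X} (hP : IsPGroup 2 P) {U : Submodule (ZMod 2) V} (hU : U ≠ ⊥)
    (hinv : P ≤ stab ρ U) : ∃ v ∈ U, v ≠ 0 ∧ v ∈ fx ρ P := by
  classical
  letI : MulAction P U :=
    { smul := fun p v => ⟨ρ (p : X) v, apply_mem_of_stab ρ (hinv p.2) v.2⟩
      one_smul := fun v => Subtype.ext (by change ρ 1 (v : V) = v; rw [map_one]; rfl)
      mul_smul := fun p q v => Subtype.ext (apply_mul ρ _ _ _) }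
  have hdvd : 2 ∣ Nat.card U := by
    rw [Module.natCard_eq_pow_finrank (K := ZMod 2), Nat.card_zmod]
    have := Submodule.one_le_finrank_iff.2 hU
    exact dvd_pow_self 2 (by omega)
  have h1 := hP.card_modEq_card_fixedPoints U
  have h0 : (0 : U) ∈ MulAction.fixedPoints P U := fun p => Subtype.ext (map_zero _)
  obtain ⟨b, hb, hne⟩ := hP.exists_fixed_point_of_prime_dvd_card_of_fixed_point U hdvd h0
  exact ⟨b, b.2, fun h => hne (Subtype.ext h.symm), fun p hp => congrArg Subtype.val (hb ⟨p, hp⟩)⟩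

/-- A `2`-group fixes a vector of `S` modulo a smaller invariant subspace. -/
theorem exists_fixed_mod {P : Subgroup X} (hP : IsPGroup 2 P) {T S : Submodule (ZMod 2) V}
    (hTS : T < S) (hT : P ≤ stab ρ T) (hS : P ≤ stab ρ S) :
    ∃ s ∈ S, s ∉ T ∧ ∀ p ∈ P, ρ p s + s ∈ T := by
  have hfin : Finite (V ⧸ T) := Quotient.finite _
  have hU : S.map T.mkQ ≠ ⊥ := by
    intro hb
    refine not_le_of_gt hTS fun s hs => ?_
    have : T.mkQ s ∈ S.map T.mkQ := ⟨s, hs, rfl⟩
    rw [hb, Submodule.mem_bot] at this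
    exact (Submodule.Quotient.mk_eq_zero T).1 this
  obtain ⟨q, hq, hq0, hqf⟩ := exists_fixed (quo ρ P T hT) (P := (⊤ : Subgroup P))
    (hP.of_equiv Subgroup.topEquiv.symm) hU (fun p _ => mem_stab_of_mem _ (by
      rintro _ ⟨s, hs, rfl⟩
      exact ⟨ρ (p : X) s, apply_mem_of_stab ρ (hS p.2) hs, rfl⟩))
  obtain ⟨s, hs, rfl⟩ := hq
  refine ⟨s, hs, fun h => hq0 ((Submodule.Quotient.mk_eq_zero T).2 h), fun p hp => ?_⟩
  have h1 := hqf ⟨p, hp⟩ (Subgroup.mem_top _)
  rw [Submodule.mkQ_apply, quo_mk, Submodule.Quotient.eq, sub_eq_add] at h1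
  exact h1

end Finite

end Cfsg.Agent.S3Free
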