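/-
Tight offenders act quadratically, and are offenders on every subspace.
-/
import Cfsg.Agent.Lib.S3Free.Basic

set_option autoImplicit false
set_option linter.unusedSectionVars false

namespace Cfsg.Agent.S3Free

open Module

universe u

variable {X : Type u} [Group X] {V : Type u} [AddCommGroup V] [Module (ZMod 2) V]
variable {ρ : X →* (V ≃ₗ[ZMod 2] V)} [Finite X] [Finite V]

theorem cancel4 (x y z : V) : x + y + (y + z) = x + z := by
  rw [add_assoc, ← add_assoc y, add_self, zero_add]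

/-- The displacement subspace of `v` under `A`. -/
def disp (ρ : X →* (V ≃ₗ[ZMod 2] V)) (A : Subgroup X) (v : V) : Submodule (ZMod 2) V :=
  Submodule.span (ZMod 2) ((fun a : A => ρ (a : X) v + v) '' Set.univ)

theorem mem_disp (A : Subgroup X) (v : V) {a : X} (ha : a ∈ A) : ρ a v + v ∈ disp ρ A v :=
  Submodule.subset_span ⟨⟨a, ha⟩, Set.mem_univ _, rfl⟩

theorem disp_le {A : Subgroup X} {v : V} {W : Submodule (ZMod 2) V}
    (h : ∀ a ∈ A, ρ a v + v ∈ W) : disp ρ A v ≤ W := by
  refine Submodule.span_le.2 ?_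
  rintro _ ⟨a, -, rfl⟩
  exact h a a.2

theorem card_le_of_disp {A : Subgroup X} (hA : El A) (v : V) :
    dA A + finrank (ZMod 2) (fx ρ A) ≤
      dA (A ⊓ fixer ρ (disp ρ A v)) + finrank (ZMod 2) (fx ρ A ⊔ disp ρ A v : Submodule (ZMod 2) V) := by
  classical
  set W := fx ρ A ⊔ disp ρ A v with hW
  set F := (fx ρ A).submoduleOf W with hF
  set A₁ := A ⊓ fixer ρ (disp ρ A v) with hA₁
  let φ : A → W ⧸ F := fun a =>
    Submodule.Quotient.mk ⟨ρ (a : X) v + v, Submodule.mem_sup_right (mem_disp A v a.2)⟩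
  have hφ : ∀ a b : A, φ a = φ b → (a : X)⁻¹ * b ∈ A₁ := by
    intro a b hab
    have h0 := (Submodule.Quotient.eq F).1 hab
    have h1 : ρ (a : X) v + v - (ρ (b : X) v + v) ∈ fx ρ A := h0
    rw [sub_eq_add] at h1
    refine ⟨A.mul_mem (A.inv_mem a.2) b.2, ?_⟩
    have h2 : disp ρ A v ≤ fx ρ (Subgroup.zpowers ((a : X)⁻¹ * b)) := by
      refine disp_le fun c hc => ?_
      rw [Subgroup.zpowers_eq_closure]
      refine fx_sup_closure ρ ?_
      intro x hx
      rw [Set.mem_singleton_iff.1 hx, apply_mul]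
      have hkey : ∀ d : A, ρ (d : X) (ρ c v + v) = ρ c (ρ (d : X) v + v) + (ρ c v + ρ (d : X) v) := by
        intro d
        rw [map_add, map_add, ← apply_mul ρ (d : X) c, ← apply_mul ρ c (d : X), hA.comm d.2 hc]
        exact (cancel4 _ _ _).symm
      have h3 : ρ (b : X) (ρ c v + v) = ρ (a : X) (ρ c v + v) := by
        rw [← sub_eq_zero, sub_eq_add, hkey a, hkey b]
        have h4 := h1 c hc
        rw [map_add] at h4
        calc ρ c (ρ (b : X) v + v) + (ρ c v + ρ (b : X) v) + (ρ c (ρ (a : X) v + v) + (ρ c v + ρ (a : X) v))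
            = (ρ c (ρ (a : X) v + v) + ρ c (ρ (b : X) v + v)) + (ρ (a : X) v + ρ (b : X) v)
              + (ρ c v + ρ c v) := by abel
          _ = (ρ (a : X) v + v + (ρ (b : X) v + v)) + (ρ (a : X) v + ρ (b : X) v) := by
              rw [h4, add_self (ρ c v), add_zero]
          _ = (ρ (a : X) v + ρ (a : X) v) + (ρ (b : X) v + ρ (b : X) v) + (v + v) := by abel
          _ = 0 := by simp only [add_self, add_zero]
      rw [h3, apply_inv_apply]
    exact le_fixer_of_le_fx ρ h2 (Subgroup.mem_zpowers _)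
  rcases isEmpty_or_nonempty A with hA0 | hA0
  · exact (hA0.false 1).elim
  have hinj : Function.Injective
      (fun a : A => ((φ a, ⟨((Function.invFun φ (φ a) : A) : X)⁻¹ * (a : X),
        hφ _ _ (Function.invFun_eq ⟨a, rfl⟩)⟩) : (W ⧸ F) × A₁)) := by
    intro a b hab
    obtain ⟨h1, h2⟩ := Prod.ext_iff.1 hab
    have h2' := congrArg Subtype.val h2
    simp only at h1 h2'
    rw [h1] at h2'
    exact Subtype.ext (mul_left_cancel h2')
  haveI : Finite (W ⧸ F) := Quotient.finite _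
  have hcard := Nat.card_le_card_of_injective _ hinj
  rw [Nat.card_prod, hA.card, (hA.mono inf_le_left).card,
    Module.natCard_eq_pow_finrank (K := ZMod 2), Nat.card_zmod, ← pow_add,
    Nat.pow_le_pow_iff_right (by norm_num)] at hcard
  have hq := F.finrank_quotient_add_finrank
  have hFeq : finrank (ZMod 2) F = finrank (ZMod 2) (fx ρ A) :=
    (Submodule.submoduleOfEquivOfLe le_sup_left).finrank_eq
  have hA₁' : dA A₁ = dA (A ⊓ fixer ρ (disp ρ A v)) := rfl
  omega

/-- An `A`-invariant space equal to its own commutator with `A` is zero. -/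
theorem eq_bot_of_self_comm {A : Subgroup X} (hA : IsPGroup 2 A) {S : Submodule (ZMod 2) V}
    (hS : A ≤ stab ρ S)
    (h : ∀ W : Submodule (ZMod 2) V, (∀ a ∈ A, ∀ s ∈ S, ρ a s + s ∈ W) → S ≤ W) : S = ⊥ := by
  by_contra hne
  obtain ⟨T, ⟨hTS, hTA⟩, hmax⟩ := Set.Finite.exists_maximal
    (Set.toFinite {T : Submodule (ZMod 2) V | T < S ∧ A ≤ stab ρ T})
    ⟨⊥, bot_lt_iff_ne_bot.2 hne, fun a _ => mem_stab_of_mem ρ fun v hv => by
      rw [Submodule.mem_bot] at hv ⊢; rw [hv, map_zero]⟩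
  obtain ⟨s, hs, hsT, hsf⟩ := exists_fixed_mod ρ hA hTS hTA hS
  set T' := T ⊔ Submodule.span (ZMod 2) {s} with hT'
  have hs' : s ∈ T' := Submodule.mem_sup_right (Submodule.mem_span_singleton_self s)
  have hTT : T < T' := lt_of_le_of_ne le_sup_left fun he => hsT (he ▸ hs')
  have hgen : ∀ a ∈ A, ∀ v ∈ T', ρ a v ∈ T' := by
    intro a ha v hv
    obtain ⟨t, ht, w, hw, rfl⟩ := Submodule.mem_sup.1 hv
    obtain ⟨k, rfl⟩ := Submodule.mem_span_singleton.1 hw
    rw [map_add, map_smul]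
    refine T'.add_mem (Submodule.mem_sup_left (apply_mem_of_stab ρ (hTA ha) ht)) (T'.smul_mem _ ?_)
    rw [show ρ a s = (ρ a s + s) + s by rw [add_assoc, add_self, add_zero]]
    exact T'.add_mem (Submodule.mem_sup_left (hsf a ha)) hs'
  have hle : T' ≤ S := sup_le hTS.le ((Submodule.span_singleton_le_iff_mem _ _).2 hs)
  rcases hle.eq_or_lt with he | hlt
  · refine hTS.not_ge (h T fun a ha v hv => ?_)
    rw [← he] at hv
    obtain ⟨t, ht, w, hw, rfl⟩ := Submodule.mem_sup.1 hv
    obtain ⟨k, rfl⟩ := Submodule.mem_span_singleton.1 hw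
    rw [map_add, map_smul, add_add_add_comm, ← smul_add]
    exact T.add_mem (T.add_mem (apply_mem_of_stab ρ (hTA ha) ht) ht) (T.smul_mem _ (hsf a ha))
  · exact hTT.not_ge (hmax ⟨hlt, fun a ha => mem_stab_of_mem ρ (hgen a ha)⟩ hTT.le)

theorem Tight.quad {A : Subgroup X} (h : Tight ρ A) {a b : X} (ha : a ∈ A) (hb : b ∈ A) (v : V) :
    ρ b (ρ a v + v) = ρ a v + v := by
  obtain ⟨hEl, -, hoff⟩ := h.off
  set A₁ := A ⊓ fixer ρ (disp ρ A v) with hA₁
  have h1 : dA A + finrank (ZMod 2) (fx ρ A) ≤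
      dA A₁ + finrank (ZMod 2) (fx ρ A ⊔ disp ρ A v : Submodule (ZMod 2) V) := card_le_of_disp hEl v
  have h2 : fx ρ A ⊔ disp ρ A v ≤ fx ρ A₁ :=
    sup_le (fx_anti ρ inf_le_left) (le_fx_of_le_fixer ρ inf_le_right)
  by_cases hA : A₁ = A
  · exact (hA.symm.le hb).2 _ (mem_disp A v ha)
  by_cases h0 : A₁ = ⊥
  swap
  · have h3 := h.min A₁ inf_le_left h0 hA
    have h4 := Submodule.finrank_mono h2
    omega
  have hd : dA A₁ = 0 := by rw [h0]; simp [dA]
  have htop : fx ρ A ⊔ disp ρ A v = ⊤ := by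
    refine Submodule.eq_top_of_finrank_eq (le_antisymm (Submodule.finrank_le _) ?_)
    omega
  have hinv : A ≤ stab ρ (disp ρ A v) := fun c hc => mem_stab_of_mem ρ fun w hw => by
    induction hw using Submodule.span_induction with
    | mem x hx =>
      obtain ⟨d, -, rfl⟩ := hx
      change ρ c (ρ (d : X) v + v) ∈ _
      rw [map_add, ← apply_mul, show ρ (c * d) v + ρ c v = (ρ (c * d) v + v) + (ρ c v + v) by
        rw [add_add_add_comm, add_self, add_zero]]
      exact add_mem (mem_disp A v (A.mul_mem hc d.2)) (mem_disp A v hc)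
    | zero => simp
    | add x y _ _ hx hy => rw [map_add]; exact add_mem hx hy
    | smul k x _ hx => rw [map_smul]; exact Submodule.smul_mem _ k hx
  have hz : disp ρ A v = ⊥ := by
    refine eq_bot_of_self_comm hEl.isPGroup hinv fun W hW => disp_le fun c hc => ?_
    obtain ⟨f, hf, s, hs, hfs⟩ := Submodule.mem_sup.1 (htop.symm.le (Submodule.mem_top : v ∈ ⊤))
    rw [← hfs, map_add, hf c hc, add_add_add_comm, add_self, zero_add]
    exact hW c hc s hs
  have : ρ a v + v = 0 := by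
    have := mem_disp (ρ := ρ) A v ha
    rwa [hz, Submodule.mem_bot] at this
  rw [this, map_zero]

/-- A tight offender is an offender on every subspace. -/
theorem Tight.best {A : Subgroup X} (h : Tight ρ A) (Y : Submodule (ZMod 2) V) :
    finrank (ZMod 2) Y + dA (A ⊓ fixer ρ Y) ≤
      dA A + finrank (ZMod 2) (Y ⊓ fx ρ A : Submodule (ZMod 2) V) := by
  set D := A ⊓ fixer ρ Y with hD
  have h1 : Y ⊔ fx ρ A ≤ fx ρ D := sup_le (le_fx_of_le_fixer ρ inf_le_right) (fx_anti ρ inf_le_left)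
  have h2 := Submodule.finrank_sup_add_finrank_inf_eq Y (fx ρ A)
  have h3 := Submodule.finrank_mono h1
  obtain ⟨hEl, -, hoff⟩ := h.off
  by_cases hA : D = A
  · have h4 : Y ≤ fx ρ A := by
      calc Y ≤ fx ρ D := le_sup_left.trans h1
        _ = fx ρ A := by rw [hA]
    rw [inf_eq_left.2 h4, hA]; omega
  by_cases h0 : D = ⊥
  · have : dA D = 0 := by rw [h0]; simp [dA]
    have h5 := Submodule.finrank_le (Y ⊔ fx ρ A)
    omega
  · have := h.min D inf_le_left h0 hA
    omega

end Cfsg.Agent.S3Free
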