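/-
Images of stabilizers on invariant subspaces, and the induction hypothesis.
-/
import Cfsg.Agent.Lib.S3Free.Basic

set_option autoImplicit false
set_option linter.unusedSectionVars false
set_option linter.style.haveILetI false

namespace Cfsg.Agent.S3Free

open Module

universe u

variable {X : Type u} [Group X]

/-- No nontrivial normal `2`-subgroup. -/
def NoTwo (X : Type u) [Group X] : Prop :=
  ∀ N : Subgroup X, N.Normal → IsPGroup 2 N → N = ⊥

theorem NoS3.subgroup (h : NoS3 X) (H : Subgroup X) : NoS3 H := by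
  rintro b y ⟨n, hb⟩ hy hby
  exact Subtype.ext (h b y ⟨n, by rw [← SubmonoidClass.coe_pow, hb]; rfl⟩
    (by rw [← SubmonoidClass.coe_pow, hy]; rfl) (congrArg Subtype.val hby))

/-- A `2`-element normalizing a `3`-group centralizes it. -/
theorem NoS3.centralize [Finite X] (h : NoS3 X) {Q : Subgroup X} (hQ : IsPGroup 3 Q) {b : X} {n : ℕ}
    (hb : b ^ (2 ^ n) = 1) (hn : b ∈ Subgroup.normalizer (Q : Set X)) : ∀ q ∈ Q, b * q = q * b := by
  induction n generalizing b with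
  | zero => rw [pow_zero, pow_one] at hb; subst hb; simp
  | succ n ih =>
    have hb2 : (b * b) ^ (2 ^ n) = 1 := by rw [← pow_two, ← pow_mul, ← pow_succ']; exact hb
    have hc := ih hb2 (Subgroup.mul_mem _ hn hn)
    intro q hq
    set w := q⁻¹ * (b * q * b⁻¹) with hw
    have hwQ : w ∈ Q := Q.mul_mem (Q.inv_mem hq) ((Subgroup.mem_normalizer_iff.1 hn q).1 hq)
    have hbw : b * w * b⁻¹ = w⁻¹ := by
      rw [hw]
      calc b * (q⁻¹ * (b * q * b⁻¹)) * b⁻¹ = (b * q * b⁻¹)⁻¹ * ((b * b * q) * (b⁻¹ * b⁻¹)) := by group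
        _ = (b * q * b⁻¹)⁻¹ * q := by rw [hc q hq]; group
        _ = (q⁻¹ * (b * q * b⁻¹))⁻¹ := by group
    obtain ⟨m, hm⟩ := hQ ⟨w, hwQ⟩
    have hwm : w ^ 3 ^ m = 1 := congrArg Subtype.val hm
    have hall : ∀ j, w ^ 3 ^ j = 1 → w = 1 := by
      intro j
      induction j with
      | zero => simp
      | succ j ihj =>
        intro h0
        refine ihj (h b (w ^ 3 ^ j) ⟨_, hb⟩ (by rw [← pow_mul, ← pow_succ]; exact h0) ?_)
        rw [← conj_pow, hbw, inv_pow]
    have hw1 := hall m hwm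
    rw [hw, inv_mul_eq_one] at hw1
    conv_rhs => rw [hw1]
    group

theorem NoS3.surj [Finite X] (h : NoS3 X) {Y : Type u} [Group Y] {f : X →* Y}
    (hf : Function.Surjective f) : NoS3 Y := by
  haveI : Fact (Nat.Prime 3) := ⟨Nat.prime_three⟩
  rintro b₀ y₀ ⟨n, hb₀⟩ hy₀ hby
  by_contra hy1
  haveI : Finite Y := Finite.of_surjective f hf
  set P := (Subgroup.zpowers y₀).comap f with hP
  obtain ⟨S⟩ : Nonempty (Sylow 3 P) := inferInstance
  set Q := (S : Subgroup P).map P.subtype with hQ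
  have hQP : Q ≤ P := Subgroup.map_subtype_le _
  -- the image of the Sylow subgroup is everything
  let g : P →* Subgroup.zpowers y₀ := (f.comp P.subtype).codRestrict _ fun x => x.2
  have hg : Function.Surjective g := by
    rintro ⟨z, hz⟩
    obtain ⟨x, rfl⟩ := hf z
    exact ⟨⟨x, hz⟩, rfl⟩
  obtain ⟨q, hqQ, hfq⟩ : ∃ q ∈ Q, f q = y₀ := by
    have h3 : IsPGroup 3 (Subgroup.zpowers y₀) := by
      rintro ⟨z, hz⟩
      obtain ⟨k, rfl⟩ := Subgroup.mem_zpowers_iff.1 hz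
      refine ⟨1, Subtype.ext ?_⟩
      change (y₀ ^ k) ^ 3 ^ 1 = 1
      rw [pow_one, ← zpow_natCast (y₀ ^ k), ← zpow_mul, mul_comm, zpow_mul, zpow_natCast, hy₀,
        one_zpow]
    have h1 : ((S.mapSurjective hg : Sylow 3 (Subgroup.zpowers y₀)) :
        Subgroup (Subgroup.zpowers y₀)) = ⊤ :=
      ((S.mapSurjective hg).3 (h3.of_equiv Subgroup.topEquiv.symm) le_top).symm
    obtain ⟨⟨q, hq⟩, hqS, hqe⟩ : (⟨y₀, Subgroup.mem_zpowers y₀⟩ : Subgroup.zpowers y₀) ∈
        (S : Subgroup P).map g := by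
      rw [show (S : Subgroup P).map g = ((S.mapSurjective hg : Sylow 3 (Subgroup.zpowers y₀)) :
        Subgroup (Subgroup.zpowers y₀)) from rfl, h1]; exact Subgroup.mem_top _
    exact ⟨q, ⟨⟨q, hq⟩, hqS, rfl⟩, congrArg Subtype.val hqe⟩
  have hQ3 : IsPGroup 3 Q := S.2.map _
  obtain ⟨b₁, hb₁⟩ := hf b₀
  have hby' : ∀ k : ℤ, b₀ * y₀ ^ k * b₀⁻¹ = y₀ ^ (-k) := fun k => by
    rw [← conj_zpow, hby, inv_zpow, zpow_neg]
  have hPn : ∀ x, x ∈ P → b₁ * x * b₁⁻¹ ∈ P := fun x hx => by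
    obtain ⟨k, hk⟩ := Subgroup.mem_zpowers_iff.1 (Subgroup.mem_comap.1 hx)
    exact Subgroup.mem_comap.2 (Subgroup.mem_zpowers_iff.2 ⟨-k, by
      rw [map_mul, map_mul, map_inv, hb₁, ← hk, hby']⟩)
  have hb₁n : b₁ ∈ Subgroup.normalizer (P : Set X) := Subgroup.mem_normalizer_fintype hPn
  let e : P ≃* P :=
    { toFun := fun x => ⟨b₁ * x * b₁⁻¹, (Subgroup.mem_normalizer_iff.1 hb₁n x).1 x.2⟩
      invFun := fun x => ⟨b₁⁻¹ * x * b₁, (Subgroup.mem_normalizer_iff''.1 hb₁n x).1 x.2⟩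
      left_inv := fun x => Subtype.ext (by simp [mul_assoc])
      right_inv := fun x => Subtype.ext (by simp [mul_assoc])
      map_mul' := fun x y => Subtype.ext (by simp [mul_assoc]) }
  obtain ⟨p, hp⟩ := MulAction.exists_smul_eq P (S.mapSurjective (f := e.toMonoidHom) e.surjective) S
  set m : X := (p : X) * b₁ with hm
  have hmQ : m ∈ Subgroup.normalizer (Q : Set X) := by
    refine Subgroup.mem_normalizer_fintype ?_
    rintro _ ⟨z, hz, rfl⟩
    have h1 : MulAut.conj p (e z) ∈ ((p • S.mapSurjective (f := e.toMonoidHom) e.surjective :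
        Sylow 3 P) : Subgroup P) := by
      rw [Sylow.coe_subgroup_smul]
      exact Subgroup.smul_mem_pointwise_smul _ (MulAut.conj p) _ ⟨z, hz, rfl⟩
    rw [hp] at h1
    refine ⟨_, h1, ?_⟩
    change (p : X) * (b₁ * z * b₁⁻¹) * (p : X)⁻¹ = m * z * m⁻¹
    rw [hm]; group
  obtain ⟨i, hi⟩ := Subgroup.mem_zpowers_iff.1 (Subgroup.mem_comap.1 p.2)
  have hfm : f m * y₀ * (f m)⁻¹ = y₀⁻¹ := by
    rw [hm, map_mul, ← hi, hb₁,
      show y₀ ^ i * b₀ * y₀ * (y₀ ^ i * b₀)⁻¹ = y₀ ^ i * (b₀ * y₀ * b₀⁻¹) * (y₀ ^ i)⁻¹ by group, hby]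
    group
  have hsq : ∀ k, (f m) ^ (2 * k) * y₀ * ((f m) ^ (2 * k))⁻¹ = y₀ := by
    intro k
    induction k with
    | zero => simp
    | succ k ih =>
      rw [show 2 * (k + 1) = 2 * k + 1 + 1 by ring, pow_succ, pow_succ]
      calc f m ^ (2 * k) * f m * f m * y₀ * (f m ^ (2 * k) * f m * f m)⁻¹
          = f m ^ (2 * k) * (f m * (f m * y₀ * (f m)⁻¹) * (f m)⁻¹) * (f m ^ (2 * k))⁻¹ := by group
        _ = f m ^ (2 * k) * (f m * y₀ * (f m)⁻¹)⁻¹ * (f m ^ (2 * k))⁻¹ := by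
          conv_lhs => rw [hfm]
          group
        _ = f m ^ (2 * k) * y₀ * (f m ^ (2 * k))⁻¹ := by rw [hfm, inv_inv]
        _ = y₀ := ih
  obtain ⟨t, s, hs, hts⟩ := Nat.exists_eq_pow_mul_and_not_dvd (orderOf_pos m).ne' 2 (by norm_num)
  obtain ⟨k, hk⟩ : Odd s := Nat.odd_iff.2 (by omega)
  have hc := h.centralize hQ3 (b := m ^ s) (n := t)
    (by rw [← pow_mul, mul_comm, ← hts]; exact pow_orderOf_eq_one m)
    (Subgroup.pow_mem _ hmQ s) q hqQ
  have hc' := congrArg f hc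
  rw [map_mul, map_mul, map_pow, hfq, hk] at hc'
  have h1 : f m ^ (2 * k + 1) * y₀ * (f m ^ (2 * k + 1))⁻¹ = y₀⁻¹ := by
    rw [pow_succ']
    calc f m * f m ^ (2 * k) * y₀ * (f m * f m ^ (2 * k))⁻¹
        = f m * (f m ^ (2 * k) * y₀ * (f m ^ (2 * k))⁻¹) * (f m)⁻¹ := by group
      _ = y₀⁻¹ := by rw [hsq, hfm]
  rw [hc', mul_inv_cancel_right] at h1
  refine hy1 ?_
  calc y₀ = y₀ * (y₀ * y₀⁻¹) := by group
    _ = y₀ * (y₀ * y₀) := by rw [← h1]
    _ = 1 := by rw [← mul_assoc, ← pow_three']; exact hy₀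

/-- Irreducibility of the action of `H` on `U`. -/
structure IrrOn {V : Type u} [AddCommGroup V] [Module (ZMod 2) V] (ρ : X →* (V ≃ₗ[ZMod 2] V))
    (H : Subgroup X) (U : Submodule (ZMod 2) V) : Prop where
  inv : H ≤ stab ρ U
  ne : U ≠ ⊥
  irr : ∀ T, T ≤ U → H ≤ stab ρ T → T = ⊥ ∨ T = U

/-- The induction hypothesis: no offenders in smaller cases. -/
def FFBelow (n : ℕ) : Prop :=
  ∀ (Y : Type u) [Group Y] [Finite Y] (W : Type u) [AddCommGroup W] [Module (ZMod 2) W] [Finite W]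
    (σ : Y →* (W ≃ₗ[ZMod 2] W)), Function.Injective σ → NoTwo Y → NoS3 Y →
    Nat.card Y + finrank (ZMod 2) W < n → ∀ A, ¬ Off σ A

variable [Finite X] {V : Type u} [AddCommGroup V] [Module (ZMod 2) V] [Finite V]
variable {ρ : X →* (V ≃ₗ[ZMod 2] V)}

/-- Smaller irreducible constituents have no offenders. -/
theorem FFBelow.bound {n : ℕ} (hn : FFBelow.{u} n) (h3 : NoS3 X) {H : Subgroup X}
    {U : Submodule (ZMod 2) V} (hI : IrrOn ρ H U)
    (hlt : Nat.card H + finrank (ZMod 2) U < n) {D : Subgroup X} (hD : D ≤ H) (hEl : El D)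
    (hne : ¬ D ≤ fixer ρ U) :
    dA D + finrank (ZMod 2) (U ⊓ fx ρ D : Submodule (ZMod 2) V) <
      finrank (ZMod 2) U + dA (D ⊓ fixer ρ U) := by
  classical
  set r := res ρ H U hI.inv
  haveI : Finite (U ≃ₗ[ZMod 2] U) := Finite.of_injective (fun e => (e : U → U)) DFunLike.coe_injective
  have hcard : Nat.card r.range ≤ Nat.card H :=
    Nat.card_le_card_of_surjective _ r.rangeRestrict_surjective
  have hno : NoTwo r.range := by
    intro N hN hp
    by_contra hN0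
    set F : Submodule (ZMod 2) U := fx r.range.subtype N with hF
    have hFne : F ≠ ⊥ := by
      obtain ⟨v, -, hv0, hvf⟩ := exists_fixed r.range.subtype hp (U := (⊤ : Submodule (ZMod 2) U))
        (by
          intro hb
          exact hI.ne (Submodule.eq_bot_iff _ |>.2 fun x hx => congrArg Subtype.val
            (show (⟨x, hx⟩ : U) = 0 from (Submodule.mem_bot _).1 (hb ▸ Submodule.mem_top))))
        (fun g _ => mem_stab_of_mem _ fun _ _ => Submodule.mem_top)
      intro hb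
      rw [← hF, hb] at hvf
      exact hv0 ((Submodule.mem_bot _).1 hvf)
    have hFinv : H ≤ stab ρ (F.map U.subtype) := fun g hg => mem_stab_of_mem ρ (by
      rintro _ ⟨v, hv, rfl⟩
      refine ⟨r ⟨g, hg⟩ v, ?_, rfl⟩
      intro m hm
      have h1 := hv _ (hN.conj_mem m hm (⟨r ⟨g, hg⟩, ⟨_, rfl⟩⟩ : r.range)⁻¹)
      rw [apply_mul, apply_mul] at h1
      exact ((r ⟨g, hg⟩).symm_apply_eq).1 h1)
    rcases hI.irr _ (Submodule.map_subtype_le U F) hFinv with h | h
    · refine hFne ((Submodule.eq_bot_iff _).2 fun x hx => Subtype.ext ?_)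
      exact (Submodule.mem_bot _).1 (h ▸ Submodule.mem_map_of_mem (f := U.subtype) hx)
    · refine hN0 (Subgroup.eq_bot_iff_forall _ |>.2 fun m hm => Subtype.ext (LinearEquiv.ext fun v => ?_))
      have hv : (v : V) ∈ F.map U.subtype := h.symm ▸ v.2
      obtain ⟨w, hw, hwv⟩ := hv
      rw [Subtype.ext hwv] at hw
      exact hw m hm
  have hoff := hn r.range U r.range.subtype Subtype.val_injective hno
    ((h3.subgroup H).surj r.rangeRestrict_surjective) (by omega)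
  set φ : D →* r.range := r.rangeRestrict.comp (Subgroup.inclusion hD) with hφ
  have hker : Nat.card φ.ker = 2 ^ dA (D ⊓ fixer ρ U) := by
    rw [← (hEl.mono inf_le_left).card]
    have he : ∀ d : D, d ∈ φ.ker ↔ (d : X) ∈ D ⊓ fixer ρ U := by
      intro d
      rw [MonoidHom.mem_ker, Subgroup.mem_inf, mem_fixer]
      constructor
      · exact fun h => ⟨d.2, fun v hv =>
          congrArg (fun e : r.range => ((e : U ≃ₗ[ZMod 2] U) ⟨v, hv⟩ : V)) h⟩
      · exact fun h => Subtype.ext (LinearEquiv.ext fun v => Subtype.ext (h.2 v v.2))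
    exact Nat.card_congr
      { toFun := fun d => ⟨_, (he d).1 d.2⟩
        invFun := fun d => ⟨⟨d, d.2.1⟩, (he _).2 d.2⟩
        left_inv := fun _ => rfl
        right_inv := fun _ => rfl }
  have hElr : El φ.range := by
    rintro _ ⟨d, rfl⟩
    rw [← map_mul, show d * d = 1 from Subtype.ext (hEl d d.2), map_one]
  have hsum : dA φ.range + dA (D ⊓ fixer ρ U) = dA D := by
    have h1 := φ.ker.card_mul_index
    rw [Subgroup.index_ker, hker, hElr.card, hEl.card, ← pow_add] at h1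
    have := Nat.pow_right_injective le_rfl h1
    omega
  have hfx : finrank (ZMod 2) (fx r.range.subtype φ.range) =
      finrank (ZMod 2) (U ⊓ fx ρ D : Submodule (ZMod 2) V) := by
    have he : (fx r.range.subtype φ.range).map U.subtype = U ⊓ fx ρ D := by
      ext v
      constructor
      · rintro ⟨w, hw, rfl⟩
        exact ⟨w.2, fun d hd => congrArg Subtype.val (hw _ ⟨⟨d, hd⟩, rfl⟩)⟩
      · rintro ⟨hvU, hv⟩
        refine ⟨⟨v, hvU⟩, ?_, rfl⟩
        rintro _ ⟨d, rfl⟩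
        exact Subtype.ext (hv d d.2)
    rw [← he]
    exact (Submodule.equivMapOfInjective U.subtype Subtype.val_injective _).finrank_eq
  by_contra hc
  refine hoff φ.range ⟨hElr, fun hb => hne fun d hd => mem_fixer ρ |>.2 fun v hv => ?_, by omega⟩
  have h2 : φ ⟨d, hd⟩ = 1 := Subgroup.mem_bot.1 (hb ▸ ⟨⟨d, hd⟩, rfl⟩)
  exact congrArg (fun e : r.range => ((e : U ≃ₗ[ZMod 2] U) ⟨v, hv⟩ : V)) h2

end Cfsg.Agent.S3Free
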