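/-
Modules killed by the annihilator of a simple module.
-/
import Cfsg.Agent.Lib.S3Free.Basic

set_option autoImplicit false
set_option linter.unusedSectionVars false

namespace Cfsg.Agent.S3Free

open Module

variable {W M : Type*} [AddCommGroup W] [Module (ZMod 2) W] [Finite W] [AddCommGroup M]
  [Module (ZMod 2) M] [Finite M]

theorem step_dim (P : Submodule (ZMod 2) (End (ZMod 2) W × End (ZMod 2) M))
    (hmul : ∀ p ∈ P, ∀ q ∈ P, p * q ∈ P) (hone : 1 ∈ P)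
    (hsimple : ∀ U : Submodule (ZMod 2) W, (∀ p ∈ P, ∀ u ∈ U, p.1 u ∈ U) → U = ⊥ ∨ U = ⊤)
    (hk : ∀ p ∈ P, p.1 = 0 → p.2 = 0)
    {T S : Submodule (ZMod 2) M} (hT : ∀ p ∈ P, ∀ u ∈ T, p.2 u ∈ T)
    (hS : ∀ p ∈ P, ∀ u ∈ S, p.2 u ∈ S) (hlt : T < S)
    (hmin : ∀ R : Submodule (ZMod 2) M, (∀ p ∈ P, ∀ u ∈ R, p.2 u ∈ R) → T < R → R ≤ S → R = S) :
    finrank (ZMod 2) S = finrank (ZMod 2) T + finrank (ZMod 2) W := by
  classical
  obtain ⟨x, hxS, hxT⟩ := SetLike.exists_of_lt hlt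
  let ev : W → (P →ₗ[ZMod 2] W) := fun w =>
    (LinearMap.applyₗ w).comp ((LinearMap.fst (ZMod 2) (End (ZMod 2) W) (End (ZMod 2) M)).comp P.subtype)
  let K : Finset W → Submodule (ZMod 2) P := fun s => ⨅ w ∈ s, LinearMap.ker (ev w)
  have hKmem : ∀ s p, p ∈ K s ↔ ∀ w ∈ s, (p : End (ZMod 2) W × End (ZMod 2) M).1 w = 0 := by
    intro s p
    simp only [K, Submodule.mem_iInf, LinearMap.mem_ker]
    rfl
  haveI := Fintype.ofFinite W
  set 𝒮 := Finset.univ.filter (fun s : Finset W => ∃ p ∈ K s,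
    (p : End (ZMod 2) W × End (ZMod 2) M).2 x ∉ T) with h𝒮
  have hne : 𝒮.Nonempty := ⟨∅, Finset.mem_filter.2 ⟨Finset.mem_univ _, ⟨1, hone⟩,
    (hKmem _ _).2 (by simp), hxT⟩⟩
  obtain ⟨s, hs, hsmax⟩ := Finset.exists_max_image 𝒮 Finset.card hne
  obtain ⟨p₀, hp₀, hp₀T⟩ := (Finset.mem_filter.1 hs).2
  obtain ⟨w, hw⟩ : ∃ w, w ∉ s := by
    by_contra hall
    push Not at hall
    refine hp₀T ?_
    rw [hk _ p₀.2 (LinearMap.ext fun w => (hKmem _ _).1 hp₀ w (hall w))]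
    exact T.zero_mem
  have hnext : ∀ p ∈ K s, (p : End (ZMod 2) W × End (ZMod 2) M).1 w = 0 →
      (p : End (ZMod 2) W × End (ZMod 2) M).2 x ∈ T := by
    intro p hp h0
    by_contra hc
    have h1 : insert w s ∈ 𝒮 := Finset.mem_filter.2 ⟨Finset.mem_univ _, p, (hKmem _ _).2 fun v hv => by
      rcases Finset.mem_insert.1 hv with rfl | hv
      · exact h0
      · exact (hKmem _ _).1 hp v hv, hc⟩
    have := hsmax _ h1
    rw [Finset.card_insert_of_notMem hw] at this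
    omega
  let Φ : K s →ₗ[ZMod 2] W := (ev w).comp (K s).subtype
  let Ψ : K s →ₗ[ZMod 2] M ⧸ T := T.mkQ.comp (((LinearMap.applyₗ x).comp
    ((LinearMap.snd (ZMod 2) (End (ZMod 2) W) (End (ZMod 2) M)).comp P.subtype)).comp (K s).subtype)
  have hleft : ∀ q : P, ∀ p ∈ K s, (⟨(q : _ × _) * (p : _ × _), hmul _ q.2 _ (p : P).2⟩ : P) ∈ K s := by
    intro q p hp
    refine (hKmem _ _).2 fun v hv => ?_
    change (q : End (ZMod 2) W × End (ZMod 2) M).1 ((p : End (ZMod 2) W × End (ZMod 2) M).1 v) = 0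
    rw [(hKmem _ _).1 hp v hv, map_zero]
  have hker : LinearMap.ker Φ ≤ LinearMap.ker Ψ := fun p hp =>
    LinearMap.mem_ker.2 ((Submodule.Quotient.mk_eq_zero T).2 (hnext _ p.2 (LinearMap.mem_ker.1 hp)))
  have himg : ∀ D : Submodule (ZMod 2) (K s),
      (∀ q : P, ∀ p ∈ D, (⟨_, hleft q (p : P) p.2⟩ : K s) ∈ D) →
      D.map Φ = ⊥ ∨ D.map Φ = ⊤ := by
    intro D hD
    refine hsimple _ ?_
    rintro q hq _ ⟨p, hp, rfl⟩
    exact ⟨_, hD ⟨q, hq⟩ p hp, rfl⟩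
  have hΦ : LinearMap.range Φ = ⊤ := by
    rw [← Submodule.map_top]
    refine (himg ⊤ fun _ _ _ => Submodule.mem_top).resolve_left fun hb => hp₀T (hnext _ hp₀ ?_)
    have : Φ ⟨p₀, hp₀⟩ ∈ (⊤ : Submodule (ZMod 2) (K s)).map Φ := ⟨_, Submodule.mem_top, rfl⟩
    rw [hb] at this
    exact this
  have hΨker : LinearMap.ker Ψ = LinearMap.ker Φ := by
    refine le_antisymm ?_ hker
    have hΨinv : ∀ q : P, ∀ p ∈ LinearMap.ker Ψ,
        (⟨_, hleft q (p : P) p.2⟩ : K s) ∈ LinearMap.ker Ψ := fun q p hp =>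
      LinearMap.mem_ker.2 ((Submodule.Quotient.mk_eq_zero T).2
        (hT _ q.2 _ ((Submodule.Quotient.mk_eq_zero T).1 (LinearMap.mem_ker.1 hp))))
    rcases himg (LinearMap.ker Ψ) hΨinv with h | h
    · intro p hp
      have : Φ p ∈ (LinearMap.ker Ψ).map Φ := ⟨p, hp, rfl⟩
      rw [h] at this
      exact this
    · exfalso
      obtain ⟨q₀, hq₀⟩ : ∃ q₀ : K s, q₀ = ⟨p₀, hp₀⟩ := ⟨_, rfl⟩
      obtain ⟨p, hp, hpe⟩ : Φ q₀ ∈ (LinearMap.ker Ψ).map Φ := by rw [h]; exact Submodule.mem_top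
      have h1 : q₀ - p ∈ LinearMap.ker Ψ := hker (by
        rw [LinearMap.mem_ker, map_sub Φ, hpe, sub_self])
      have h2 := (LinearMap.ker Ψ).add_mem h1 hp
      rw [show q₀ - p + p = q₀ from sub_add_cancel q₀ p, hq₀] at h2
      exact hp₀T ((Submodule.Quotient.mk_eq_zero T).1 (LinearMap.mem_ker.1 h2))
  have hR : (LinearMap.range Ψ).comap T.mkQ = S := by
    refine hmin _ ?_ ?_ ?_
    · rintro q hq u ⟨p, hp⟩
      refine ⟨⟨_, hleft ⟨q, hq⟩ (p : P) p.2⟩, ?_⟩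
      have h1 : ((p : P) : End (ZMod 2) W × End (ZMod 2) M).2 x - u ∈ T :=
        (Submodule.Quotient.eq T).1 hp
      refine (Submodule.Quotient.eq T).2 ?_
      change q.2 (((p : P) : End (ZMod 2) W × End (ZMod 2) M).2 x) - q.2 u ∈ T
      rw [← map_sub]
      exact hT q hq _ h1
    · refine lt_of_le_of_ne (fun t ht => ⟨0, ?_⟩) fun he => hp₀T ?_
      · rw [map_zero]; exact ((Submodule.Quotient.mk_eq_zero T).2 ht).symm
      · have : Ψ ⟨p₀, hp₀⟩ ∈ LinearMap.range Ψ := ⟨_, rfl⟩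
        exact he.symm.le (this : (p₀ : End (ZMod 2) W × End (ZMod 2) M).2 x ∈
          (LinearMap.range Ψ).comap T.mkQ)
    · rintro u ⟨p, hp⟩
      have h1 : ((p : P) : End (ZMod 2) W × End (ZMod 2) M).2 x - u ∈ T :=
        (Submodule.Quotient.eq T).1 hp
      have h2 := S.sub_mem (hS _ (p : P).2 x hxS) (hlt.le h1)
      rwa [sub_sub_cancel] at h2
  have h1 := LinearMap.finrank_range_add_finrank_ker Φ
  have h2 := LinearMap.finrank_range_add_finrank_ker Ψ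
  rw [hΦ, finrank_top] at h1
  rw [hΨker] at h2
  have h3 : LinearMap.range Ψ = S.map T.mkQ := by
    rw [← hR, Submodule.map_comap_eq_of_surjective T.mkQ_surjective]
  have h4 : finrank (ZMod 2) (S.map T.mkQ) + finrank (ZMod 2) T = finrank (ZMod 2) S := by
    have h5 := LinearMap.finrank_range_add_finrank_ker (T.mkQ.comp S.subtype)
    rw [LinearMap.range_comp, Submodule.range_subtype, LinearMap.ker_comp, Submodule.ker_mkQ] at h5
    have h6 := (Submodule.comapSubtypeEquivOfLe hlt.le).finrank_eq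
    omega
  rw [h3] at h2
  omega

/-- Every invariant section of a module killed by the annihilator of a simple module has dimension
a multiple of the simple one's. -/
theorem dvd_finrank (P : Submodule (ZMod 2) (End (ZMod 2) W × End (ZMod 2) M))
    (hmul : ∀ p ∈ P, ∀ q ∈ P, p * q ∈ P) (hone : 1 ∈ P)
    (hsimple : ∀ U : Submodule (ZMod 2) W, (∀ p ∈ P, ∀ u ∈ U, p.1 u ∈ U) → U = ⊥ ∨ U = ⊤)
    (hk : ∀ p ∈ P, p.1 = 0 → p.2 = 0) :
    finrank (ZMod 2) W ∣ finrank (ZMod 2) M := by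
  classical
  suffices h : ∀ n, ∀ T : Submodule (ZMod 2) M, (∀ p ∈ P, ∀ u ∈ T, p.2 u ∈ T) →
      finrank (ZMod 2) M - finrank (ZMod 2) T = n → finrank (ZMod 2) W ∣ n by
    refine h _ ⊥ (fun p _ u hu => ?_) (by rw [finrank_bot]; rfl)
    rw [Submodule.mem_bot] at hu ⊢
    rw [hu, map_zero]
  intro n
  induction n using Nat.strong_induction_on with
  | _ n ih =>
    intro T hT hn
    rcases eq_or_ne T ⊤ with rfl | hne
    · rw [finrank_top, Nat.sub_self] at hn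
      rw [← hn]; exact dvd_zero _
    obtain ⟨S, ⟨hS, hTS⟩, hmin⟩ := Set.Finite.exists_minimal
      (Set.toFinite {R : Submodule (ZMod 2) M | (∀ p ∈ P, ∀ u ∈ R, p.2 u ∈ R) ∧ T < R})
      ⟨⊤, fun _ _ _ _ => Submodule.mem_top, lt_top_iff_ne_top.2 hne⟩
    have h1 := step_dim P hmul hone hsimple hk hT hS hTS fun R hR hTR hRS =>
      le_antisymm hRS (hmin ⟨hR, hTR⟩ hRS)
    have h2 := Submodule.finrank_le S
    rcases Nat.eq_zero_or_pos (finrank (ZMod 2) W) with h0 | h0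
    · have := Submodule.finrank_lt_finrank_of_lt hTS
      omega
    have h3 := ih (finrank (ZMod 2) M - finrank (ZMod 2) S) (by omega) S hS rfl
    have h4 : n = finrank (ZMod 2) W + (finrank (ZMod 2) M - finrank (ZMod 2) S) := by omega
    rw [h4]
    exact dvd_add dvd_rfl h3

end Cfsg.Agent.S3Free
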