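/-
Invariant sections, operator algebras, and ranks of families of maps.
-/
import Cfsg.Agent.Lib.S3Free.Div

set_option autoImplicit false
set_option linter.unusedSectionVars false

namespace Cfsg.Agent.S3Free

open Module

universe u

variable {V : Type u} [AddCommGroup V] [Module (ZMod 2) V] [Finite V]

/-- The rank of a family of maps on a subspace. -/
noncomputable def rk (P : Submodule (ZMod 2) (End (ZMod 2) V)) (S : Submodule (ZMod 2) V) : ℕ :=
  finrank (ZMod 2) (P.map (LinearMap.lcomp (ZMod 2) V S.subtype))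

/-- The members killing a subspace. -/
def killer (P : Submodule (ZMod 2) (End (ZMod 2) V)) (S : Submodule (ZMod 2) V) :
    Submodule (ZMod 2) (End (ZMod 2) V) :=
  P ⊓ LinearMap.ker (LinearMap.lcomp (ZMod 2) V S.subtype)

variable {P : Submodule (ZMod 2) (End (ZMod 2) V)}

theorem mem_killer {S : Submodule (ZMod 2) V} {f : End (ZMod 2) V} :
    f ∈ killer P S ↔ f ∈ P ∧ ∀ v ∈ S, f v = 0 := by
  rw [killer, Submodule.mem_inf, LinearMap.mem_ker, LinearMap.ext_iff]
  exact ⟨fun h => ⟨h.1, fun v hv => h.2 ⟨v, hv⟩⟩, fun h => ⟨h.1, fun v => h.2 v v.2⟩⟩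

theorem rk_add (S : Submodule (ZMod 2) V) :
    rk P S + finrank (ZMod 2) (killer P S) = finrank (ZMod 2) P := by
  haveI : Finite (S →ₗ[ZMod 2] V) := Finite.of_injective (fun f => (f : S → V)) DFunLike.coe_injective
  have h := LinearMap.finrank_range_add_finrank_ker
    ((LinearMap.lcomp (ZMod 2) V S.subtype).comp P.subtype)
  rw [LinearMap.range_comp, Submodule.range_subtype, LinearMap.ker_comp] at h
  have h1 : (LinearMap.ker (LinearMap.lcomp (ZMod 2) V S.subtype)).comap P.subtype =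
      (killer P S).comap P.subtype := by
    rw [killer, Submodule.comap_inf, Submodule.comap_subtype_self, top_inf_eq]
  rw [h1, (Submodule.comapSubtypeEquivOfLe (show killer P S ≤ P from inf_le_left)).finrank_eq] at h
  exact h

theorem killer_anti {S T : Submodule (ZMod 2) V} (h : S ≤ T) : killer P T ≤ killer P S :=
  fun _ hf => mem_killer.2 ⟨(mem_killer.1 hf).1, fun v hv => (mem_killer.1 hf).2 v (h hv)⟩

theorem killer_sup (S T : Submodule (ZMod 2) V) : killer P (S ⊔ T) = killer P S ⊓ killer P T := by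
  refine le_antisymm (le_inf (killer_anti le_sup_left) (killer_anti le_sup_right)) ?_
  rintro f ⟨h1, h2⟩
  refine mem_killer.2 ⟨(mem_killer.1 h1).1, fun v hv => ?_⟩
  obtain ⟨a, ha, b, hb, rfl⟩ := Submodule.mem_sup.1 hv
  rw [map_add, (mem_killer.1 h1).2 a ha, (mem_killer.1 h2).2 b hb, add_zero]

theorem rk_mono {S T : Submodule (ZMod 2) V} (h : S ≤ T) : rk P S ≤ rk P T := by
  have h1 := rk_add (P := P) S
  have h2 := rk_add (P := P) T
  have h3 := Submodule.finrank_mono (killer_anti (P := P) h)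
  omega

theorem rk_eq_zero {S : Submodule (ZMod 2) V} (h : ∀ f ∈ P, ∀ v ∈ S, f v = 0) : rk P S = 0 := by
  have h1 := rk_add (P := P) S
  have h2 : killer P S = P := le_antisymm inf_le_left fun f hf => mem_killer.2 ⟨hf, h f hf⟩
  rw [h2] at h1
  omega

theorem rk_sup_add (S T : Submodule (ZMod 2) V) :
    rk P (S ⊔ T) + rk P (S ⊓ T) ≤ rk P S + rk P T := by
  have h1 := rk_add (P := P) S
  have h2 := rk_add (P := P) T
  have h3 := rk_add (P := P) (S ⊔ T)
  have h4 := rk_add (P := P) (S ⊓ T)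
  have h5 := Submodule.finrank_sup_add_finrank_inf_eq (killer P S) (killer P T)
  have h6 := Submodule.finrank_mono (sup_le (killer_anti (P := P) (inf_le_left : S ⊓ T ≤ S))
    (killer_anti (P := P) (inf_le_right : S ⊓ T ≤ T)))
  rw [killer_sup] at h3
  omega

/-- Members killing `T` after `μ` separate `S` from `S'`. -/
theorem rk_step (μ : End (ZMod 2) V) (hμ : ∀ f ∈ P, f * μ ∈ P) {S S' T : Submodule (ZMod 2) V}
    (hS' : S' ≤ S) (hμS' : ∀ v ∈ S', μ v ∈ T) :
    rk P S' + rk P (S.map μ ⊔ T) ≤ rk P S + rk P T := by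
  haveI : Finite (End (ZMod 2) V) := Finite.of_injective (fun f => (f : V → V)) DFunLike.coe_injective
  have h1 := rk_add (P := P) S
  have h2 := rk_add (P := P) S'
  have h3 := rk_add (P := P) T
  have h4 := rk_add (P := P) (S.map μ ⊔ T)
  set Φ : killer P T →ₗ[ZMod 2] End (ZMod 2) V :=
    (LinearMap.lcomp (ZMod 2) V μ).comp (killer P T).subtype with hΦ
  have hr : LinearMap.range Φ ≤ killer P S' := by
    rintro _ ⟨f, rfl⟩
    exact mem_killer.2 ⟨hμ _ (mem_killer.1 f.2).1, fun v hv => (mem_killer.1 f.2).2 _ (hμS' v hv)⟩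
  have hk : (killer P S).comap Φ = (killer P (S.map μ ⊔ T)).comap (killer P T).subtype := by
    ext f
    rw [Submodule.mem_comap, Submodule.mem_comap, mem_killer, killer_sup, Submodule.mem_inf]
    constructor
    · rintro ⟨-, h⟩
      exact ⟨mem_killer.2 ⟨(mem_killer.1 f.2).1, by rintro _ ⟨v, hv, rfl⟩; exact h v hv⟩, f.2⟩
    · rintro ⟨h, -⟩
      exact ⟨hμ _ (mem_killer.1 f.2).1, fun v hv => (mem_killer.1 h).2 _ ⟨v, hv, rfl⟩⟩
  let Ψ : killer P T →ₗ[ZMod 2] (killer P S') ⧸ (killer P S).submoduleOf (killer P S') :=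
    (Submodule.mkQ _).comp (Φ.codRestrict _ fun f => hr ⟨f, rfl⟩)
  have hΨ : LinearMap.ker Ψ = (killer P (S.map μ ⊔ T)).comap (killer P T).subtype := by
    rw [← hk, LinearMap.ker_comp, Submodule.ker_mkQ]
    rfl
  have h5 := LinearMap.finrank_range_add_finrank_ker Ψ
  have h6 := Submodule.finrank_le (LinearMap.range Ψ)
  have h7 := ((killer P S).submoduleOf (killer P S')).finrank_quotient_add_finrank
  rw [(Submodule.submoduleOfEquivOfLe (killer_anti (P := P) hS')).finrank_eq] at h7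
  rw [hΨ, (Submodule.comapSubtypeEquivOfLe (killer_anti (P := P)
    (le_sup_right : T ≤ S.map μ ⊔ T))).finrank_eq] at h5
  omega

variable {R : Type*} [AddCommGroup R] [Module (ZMod 2) R]

/-- The map induced on a section by operators preserving it. -/
def secEnd (𝔸 : Submodule (ZMod 2) R) (f : R →ₗ[ZMod 2] End (ZMod 2) V) (T S : Submodule (ZMod 2) V)
    (hT : ∀ p ∈ 𝔸, ∀ v ∈ T, f p v ∈ T) (hS : ∀ p ∈ 𝔸, ∀ v ∈ S, f p v ∈ S) :
    𝔸 →ₗ[ZMod 2] End (ZMod 2) (S ⧸ T.submoduleOf S) where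
  toFun p := (T.submoduleOf S).mapQ (T.submoduleOf S) ((f p).restrict (hS p p.2))
    (fun v hv => hT p p.2 _ hv)
  map_add' p q := Submodule.linearMap_qext _ (LinearMap.ext fun v =>
    (congrArg (Submodule.Quotient.mk (p := T.submoduleOf S))
      (show (⟨f ((p + q : 𝔸) : R) v, hS _ (p + q).2 _ v.2⟩ : S) =
          ⟨f (p : R) v, hS _ p.2 _ v.2⟩ + ⟨f (q : R) v, hS _ q.2 _ v.2⟩ from Subtype.ext (by
        change f ((p : R) + q) (v : V) = f (p : R) (v : V) + f (q : R) (v : V)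
        rw [map_add, LinearMap.add_apply]))).trans (Submodule.Quotient.mk_add _))
  map_smul' c p := Submodule.linearMap_qext _ (LinearMap.ext fun v =>
    (congrArg (Submodule.Quotient.mk (p := T.submoduleOf S))
      (show (⟨f ((c • p : 𝔸) : R) v, hS _ (c • p).2 _ v.2⟩ : S) =
          c • ⟨f (p : R) v, hS _ p.2 _ v.2⟩ from Subtype.ext (by
        change f (c • (p : R)) (v : V) = c • f (p : R) (v : V)
        rw [map_smul, LinearMap.smul_apply]))).trans (Submodule.Quotient.mk_smul _ c _))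

theorem secEnd_mk (𝔸 : Submodule (ZMod 2) R) (f : R →ₗ[ZMod 2] End (ZMod 2) V)
    (T S : Submodule (ZMod 2) V) (hT : ∀ p ∈ 𝔸, ∀ v ∈ T, f p v ∈ T)
    (hS : ∀ p ∈ 𝔸, ∀ v ∈ S, f p v ∈ S) (p : 𝔸) (v : S) :
    secEnd 𝔸 f T S hT hS p (Submodule.Quotient.mk v) =
      Submodule.Quotient.mk ⟨f p v, hS p p.2 v v.2⟩ := rfl

theorem secEnd_eq_zero (𝔸 : Submodule (ZMod 2) R) (f : R →ₗ[ZMod 2] End (ZMod 2) V)
    (T S : Submodule (ZMod 2) V) (hT : ∀ p ∈ 𝔸, ∀ v ∈ T, f p v ∈ T)
    (hS : ∀ p ∈ 𝔸, ∀ v ∈ S, f p v ∈ S) (p : 𝔸) :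
    secEnd 𝔸 f T S hT hS p = 0 ↔ ∀ v ∈ S, f p v ∈ T := by
  constructor
  · intro h v hv
    have h1 : Submodule.Quotient.mk (p := T.submoduleOf S) ⟨f p v, hS p p.2 v hv⟩ = 0 :=
      DFunLike.congr_fun h (Submodule.Quotient.mk (p := T.submoduleOf S) ⟨v, hv⟩)
    have h2 := (Submodule.Quotient.mk_eq_zero _).1 h1
    exact h2
  · intro h
    refine Submodule.linearMap_qext _ (LinearMap.ext fun v => ?_)
    exact (Submodule.Quotient.mk_eq_zero _).2 (h v v.2)

theorem finrank_sec {T S : Submodule (ZMod 2) V} (h : T ≤ S) :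
    finrank (ZMod 2) (S ⧸ T.submoduleOf S) + finrank (ZMod 2) T = finrank (ZMod 2) S := by
  have h1 := (T.submoduleOf S).finrank_quotient_add_finrank
  rwa [(Submodule.submoduleOfEquivOfLe h).finrank_eq] at h1

end Cfsg.Agent.S3Free
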