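/-
The semistability inequality for a pair of conjugate tight offenders.
-/
import Cfsg.Agent.Lib.S3Free.Sections

set_option autoImplicit false
set_option linter.unusedSectionVars false
set_option maxHeartbeats 1000000

namespace Cfsg.Agent.S3Free

open Module

universe u

variable {L : Type u} [Group L] {V : Type u} [AddCommGroup V] [Module (ZMod 2) V]
variable [Finite L] [Finite V] (σ : L →* (V ≃ₗ[ZMod 2] V))

/-- Vectors fixed modulo `T`. -/
def modFix (T : Submodule (ZMod 2) V) (H : Subgroup L) : Submodule (ZMod 2) V where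
  carrier := {v | ∀ h ∈ H, σ h v + v ∈ T}
  add_mem' := fun {a b} ha hb h hh => by
    rw [map_add, add_add_add_comm]; exact T.add_mem (ha h hh) (hb h hh)
  zero_mem' := fun h _ => by simp
  smul_mem' := fun c v hv h hh => by rw [map_smul, ← smul_add]; exact T.smul_mem c (hv h hh)

theorem mem_modFix {T : Submodule (ZMod 2) V} {H : Subgroup L} {v : V} :
    v ∈ modFix σ T H ↔ ∀ h ∈ H, σ h v + v ∈ T := Iff.rfl

theorem add_cancel4 {a b c : V} : a + b + (b + c) = a + c := by
  rw [add_assoc, ← add_assoc b, add_self, zero_add]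

theorem modFix_sup {T : Submodule (ZMod 2) V} (hT : ∀ l, ∀ v ∈ T, σ l v ∈ T) {A B : Subgroup L} {v : V}
    (hA : v ∈ modFix σ T A) (hB : v ∈ modFix σ T B) : v ∈ modFix σ T (A ⊔ B) := by
  intro h hh
  rw [← Subgroup.closure_eq A, ← Subgroup.closure_eq B, ← Subgroup.closure_union] at hh
  induction hh using Subgroup.closure_induction with
  | mem x hx => exact hx.elim (hA x) (hB x)
  | one => simp [add_self]
  | mul a b _ _ ha hb =>
    rw [apply_mul, show σ a (σ b v) + v = σ a (σ b v + v) + (σ a v + v) by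
      rw [map_add, add_cancel4]]
    exact T.add_mem (hT a _ hb) ha
  | inv a _ ha =>
    have := hT a⁻¹ _ ha
    rwa [map_add, apply_inv_apply, add_comm] at this

/-- The operators, with their augmentation. -/
def ops : Submodule (ZMod 2) (End (ZMod 2) V × ZMod 2) :=
  Submodule.span (ZMod 2) (Set.range fun l : L => ((σ l).toLinearMap, (1 : ZMod 2)))

theorem mem_ops (l : L) : ((σ l).toLinearMap, (1 : ZMod 2)) ∈ ops σ :=
  Submodule.subset_span ⟨l, rfl⟩

theorem ops_one : ((1 : End (ZMod 2) V), (1 : ZMod 2)) ∈ ops σ := by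
  have h := mem_ops σ (1 : L)
  rwa [map_one] at h

theorem ops_mul {p q : End (ZMod 2) V × ZMod 2} (hp : p ∈ ops σ) (hq : q ∈ ops σ) : p * q ∈ ops σ := by
  induction hp using Submodule.span_induction with
  | mem x hx =>
    obtain ⟨l, rfl⟩ := hx
    induction hq using Submodule.span_induction with
    | mem y hy =>
      obtain ⟨m, rfl⟩ := hy
      have h := mem_ops σ (l * m)
      rw [map_mul] at h
      simpa using h
    | zero => simp
    | add a b _ _ ha hb => rw [mul_add]; exact add_mem ha hb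
    | smul c a _ ha => rw [mul_smul_comm]; exact Submodule.smul_mem _ c ha
  | zero => simp
  | add a b _ _ ha hb => rw [add_mul]; exact add_mem ha hb
  | smul c a _ ha => rw [smul_mul_assoc]; exact Submodule.smul_mem _ c ha

theorem ops_inv {S : Submodule (ZMod 2) V} (hS : ∀ l, ∀ v ∈ S, σ l v ∈ S)
    {p : End (ZMod 2) V × ZMod 2} (hp : p ∈ ops σ) {v : V} (hv : v ∈ S) : p.1 v ∈ S := by
  induction hp using Submodule.span_induction with
  | mem x hx => obtain ⟨l, rfl⟩ := hx; exact hS l v hv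
  | zero => simp
  | add a b _ _ ha hb => exact add_mem ha hb
  | smul c a _ ha => exact Submodule.smul_mem _ c ha

theorem ops_scalar {T : Submodule (ZMod 2) V} {p : End (ZMod 2) V × ZMod 2} (hp : p ∈ ops σ) {v : V}
    (hv : v ∈ modFix σ T ⊤) : p.1 v + p.2 • v ∈ T := by
  induction hp using Submodule.span_induction with
  | mem x hx => obtain ⟨l, rfl⟩ := hx; simpa using hv l (Subgroup.mem_top l)
  | zero => simp
  | add a b _ _ ha hb =>
    rw [Prod.fst_add, Prod.snd_add, LinearMap.add_apply, add_smul, add_add_add_comm]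
    exact add_mem ha hb
  | smul c a _ ha =>
    rw [Prod.smul_fst, Prod.smul_snd, LinearMap.smul_apply, smul_assoc, ← smul_add]
    exact Submodule.smul_mem _ c ha

/-- Hypotheses of the semistability argument. -/
structure SData where
  A : Subgroup L
  x : L
  R : Subgroup L
  P : Submodule (ZMod 2) (End (ZMod 2) V)
  el : El A
  gen : A ⊔ cjS x A = ⊤
  quad : ∀ a ∈ A, ∀ b ∈ A, ∀ v : V, σ b (σ a v + v) = σ a v + v
  best : ∀ Y : Submodule (ZMod 2) V, finrank (ZMod 2) Y + dA (A ⊓ fixer σ Y) ≤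
    dA A + finrank (ZMod 2) (Y ⊓ fx σ A : Submodule (ZMod 2) V)
  rangeP : ∀ f ∈ P, ∀ v : V, f v ∈ fx σ ⊤
  killP : ∀ f ∈ P, ∀ v ∈ fx σ ⊤, f v = 0
  compP : ∀ f ∈ P, ∀ l : L, f * (σ l).toLinearMap ∈ P
  memP : ∀ a ∈ A ⊓ R, (σ a).toLinearMap + 1 ∈ P
  small : ∀ T S : Submodule (ZMod 2) V, (∀ l, ∀ v ∈ T, σ l v ∈ T) → (∀ l, ∀ v ∈ S, σ l v ∈ S) →
    T < S → (∀ U : Submodule (ZMod 2) V, (∀ l, ∀ v ∈ U, σ l v ∈ U) → T < U → U ≤ S → U = S) →
    ¬ S ≤ modFix σ T ⊤ →
    (∀ a ∈ A, (∀ v ∈ S, σ a v + v ∈ T) → a ∈ R) ∧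
      2 * dA A + finrank (ZMod 2) T < finrank (ZMod 2) S + 2 * dA (A ⊓ R)

variable {σ} (D : SData σ)

theorem SData.compOps {f : End (ZMod 2) V} (hf : f ∈ D.P) {p : End (ZMod 2) V × ZMod 2}
    (hp : p ∈ ops σ) : f * p.1 ∈ D.P := by
  induction hp using Submodule.span_induction with
  | mem x hx => obtain ⟨l, rfl⟩ := hx; exact D.compP f hf l
  | zero => simp
  | add a b _ _ ha hb => rw [Prod.fst_add, mul_add]; exact add_mem ha hb
  | smul c a _ ha => rw [Prod.smul_fst, mul_smul_comm]; exact Submodule.smul_mem _ c ha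

theorem SData.rk_map (l : L) (S : Submodule (ZMod 2) V) :
    rk D.P (S.map (σ l).toLinearMap) = rk D.P S := by
  have key : ∀ (m : L) (S : Submodule (ZMod 2) V),
      finrank (ZMod 2) (killer D.P (S.map (σ m).toLinearMap)) ≤ finrank (ZMod 2) (killer D.P S) := by
    intro m S
    haveI : Finite (End (ZMod 2) V) :=
      Finite.of_injective (fun f => (f : V → V)) DFunLike.coe_injective
    let Φ : End (ZMod 2) V →ₗ[ZMod 2] End (ZMod 2) V := LinearMap.lcomp (ZMod 2) V (σ m).toLinearMap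
    have hinj : Function.Injective Φ := fun f g h => LinearMap.ext fun v => by
      have := DFunLike.congr_fun h ((σ m).symm v)
      simpa [Φ] using this
    have h1 : (killer D.P (S.map (σ m).toLinearMap)).map Φ ≤ killer D.P S := by
      rintro _ ⟨f, hf, rfl⟩
      exact mem_killer.2 ⟨D.compP f (mem_killer.1 hf).1 m,
        fun v hv => (mem_killer.1 hf).2 _ ⟨v, hv, rfl⟩⟩
    rw [(Submodule.equivMapOfInjective Φ hinj _).finrank_eq]
    exact Submodule.finrank_mono h1
  have h1 := key l S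
  have h2 := key l⁻¹ (S.map (σ l).toLinearMap)
  rw [← Submodule.map_comp, show (σ l⁻¹).toLinearMap ∘ₗ (σ l).toLinearMap = LinearMap.id from
    LinearMap.ext fun v => apply_inv_apply σ l v, Submodule.map_id] at h2
  have h3 := rk_add (P := D.P) S
  have h4 := rk_add (P := D.P) (S.map (σ l).toLinearMap)
  omega

theorem SData.quadB {b : L} (hb : b ∈ cjS D.x D.A) (v : V) :
    σ b v + v ∈ fx σ (cjS D.x D.A) := by
  intro c hc
  have ha := mem_cjS.1 hb
  have hc' := mem_cjS.1 hc
  have h := D.quad _ ha _ hc' (σ D.x⁻¹ v)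
  have h' := congrArg (σ D.x) h
  simp only [map_add, ← apply_mul, mul_assoc, mul_inv_cancel_left, mul_inv_cancel, mul_one,
    map_one, LinearEquiv.coe_one, id_eq] at h'
  rw [map_add, ← apply_mul]
  exact h'

/-- The additive map behind fixed points modulo. -/
theorem SData.modFix_of_fx {T : Submodule (ZMod 2) V} (hT : ∀ l, ∀ v ∈ T, σ l v ∈ T)
    {v : V} (hv : v ∈ modFix σ T D.A) (hlin : ∀ l, σ l v + v ∈ modFix σ T ⊤) :
    v ∈ modFix σ T ⊤ := by
  rw [← D.gen]
  refine modFix_sup σ hT hv fun b hb => ?_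
  obtain ⟨a, ha, rfl⟩ := hb
  change σ (D.x * a * D.x⁻¹) v + v ∈ T
  have hadd : ∀ l m : L, (σ (l * m) v + v) + ((σ l v + v) + (σ m v + v)) ∈ T := by
    intro l m
    rw [apply_mul, show σ l (σ m v) + v + (σ l v + v + (σ m v + v)) =
      (σ l (σ m v + v) + (σ m v + v)) + (v + v) by rw [map_add]; abel, add_self, add_zero]
    exact hlin m l (Subgroup.mem_top _)
  have h1 := hadd (D.x * a) D.x⁻¹
  have h2 := hadd D.x a
  have h3 := hadd D.x D.x⁻¹
  rw [mul_inv_cancel, map_one, LinearEquiv.coe_one, id_eq, add_self, zero_add] at h3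
  have h4 := T.add_mem (T.add_mem h1 h2) (T.add_mem h3 (hv a ha))
  have h5 : σ (D.x * a * D.x⁻¹) v + v + (σ (D.x * a) v + v + (σ D.x⁻¹ v + v)) +
      (σ (D.x * a) v + v + (σ D.x v + v + (σ a v + v))) +
      (σ D.x v + v + (σ D.x⁻¹ v + v) + (σ a v + v)) = σ (D.x * a * D.x⁻¹) v + v + ((σ (D.x * a) v + v)
        + (σ (D.x * a) v + v) + ((σ D.x⁻¹ v + v) + (σ D.x⁻¹ v + v)) + ((σ D.x v + v) + (σ D.x v + v))
        + ((σ a v + v) + (σ a v + v))) := by abel
  simp only [add_self, add_zero] at h5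
  rw [h5] at h4
  exact h4

/-- Fixed points of `A` that are fixed modulo the fixed points are fixed. -/
theorem SData.mid {v : V} (hA : v ∈ fx σ D.A) (hv : v ∈ modFix σ (fx σ ⊤) ⊤) : v ∈ fx σ ⊤ := by
  have h1 : v ∈ modFix σ (⊥ : Submodule (ZMod 2) V) ⊤ := by
    refine D.modFix_of_fx (fun l w hw => ?_) (fun a ha => ?_) fun l m hm => ?_
    · rw [Submodule.mem_bot] at hw ⊢; rw [hw, map_zero]
    · rw [Submodule.mem_bot, hA a ha, add_self]
    · rw [Submodule.mem_bot, hv l (Subgroup.mem_top _) m hm, add_self]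
  intro l hl
  have := h1 l hl
  rw [Submodule.mem_bot] at this
  rw [← add_left_inj v, this, add_self]

section Induction

variable {Y Y' : Submodule (ZMod 2) V}

/-- The ideal of the top section. -/
def SData.ideal (_D : SData σ) (Y Y' : Submodule (ZMod 2) V) :
    Submodule (ZMod 2) (End (ZMod 2) V × ZMod 2) where
  carrier := {p | p ∈ ops σ ∧ ∀ v ∈ Y, p.1 v ∈ Y'}
  add_mem' := fun {a b} ha hb => ⟨add_mem ha.1 hb.1, fun v hv => add_mem (ha.2 v hv) (hb.2 v hv)⟩
  zero_mem' := ⟨zero_mem _, fun v _ => by simp⟩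
  smul_mem' := fun c a ha => ⟨Submodule.smul_mem _ c ha.1, fun v hv => Submodule.smul_mem _ c (ha.2 v hv)⟩

theorem SData.ideal_left (hY' : ∀ l, ∀ v ∈ Y', σ l v ∈ Y') {p q : End (ZMod 2) V × ZMod 2}
    (hp : p ∈ ops σ) (hq : q ∈ D.ideal Y Y') : p * q ∈ D.ideal Y Y' :=
  ⟨ops_mul σ hp hq.1, fun v hv => ops_inv σ hY' hp (hq.2 v hv)⟩

theorem SData.ideal_right (hY : ∀ l, ∀ v ∈ Y, σ l v ∈ Y) {p q : End (ZMod 2) V × ZMod 2}
    (hp : p ∈ D.ideal Y Y') (hq : q ∈ ops σ) : p * q ∈ D.ideal Y Y' :=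
  ⟨ops_mul σ hp.1 hq, fun v hv => hp.2 _ (ops_inv σ hY hq hv)⟩

/-- The inequality on a homogeneous layer. -/
theorem SData.layer (hYi : ∀ l, ∀ v ∈ Y, σ l v ∈ Y) (hYi' : ∀ l, ∀ v ∈ Y', σ l v ∈ Y') (hlt : Y' < Y)
    (hmax : ∀ U : Submodule (ZMod 2) V, (∀ l, ∀ v ∈ U, σ l v ∈ U) → Y' < U → U ≤ Y → U = Y)
    (hnt : ¬ Y ≤ modFix σ Y' ⊤) {e : End (ZMod 2) V × ZMod 2} (he : e ∈ D.ideal Y Y') (he2 : e.2 = 1)
    {T H : Submodule (ZMod 2) V} (hTi : ∀ l, ∀ v ∈ T, σ l v ∈ T) (hHi : ∀ l, ∀ v ∈ H, σ l v ∈ H)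
    (hTH : T ≤ H) (hTmid : T ≤ modFix σ (fx σ ⊤) ⊤) (hZT : fx σ ⊤ ≤ T)
    (hTdef : finrank (ZMod 2) (fx σ (⊤ : Subgroup L)) + rk D.P T ≤ finrank (ZMod 2) T)
    (hJ : ∀ p ∈ D.ideal Y Y', ∀ v ∈ H, p.1 v ∈ T) :
    finrank (ZMod 2) H + rk D.P T ≤ finrank (ZMod 2) T + rk D.P H := by
  classical
  rcases hTH.eq_or_lt with rfl | hTH'
  · omega
  have hnofix : ∀ v ∈ H, v ∈ modFix σ T ⊤ → v ∈ T := by
    intro v hv hfix
    have h1 := T.add_mem (ops_scalar σ he.1 hfix) (hJ e he v hv)
    rw [he2, one_smul, show e.1 v + v + e.1 v = e.1 v + e.1 v + v by abel, add_self, zero_add] at h1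
    exact h1
  -- fixed vectors of `A` in the section
  set CA := H ⊓ modFix σ T D.A with hCA
  set CB := CA.map (σ D.x).toLinearMap with hCB
  have hTCA : T ≤ CA := le_inf hTH fun t ht a _ => T.add_mem (hTi a t ht) ht
  have hCBH : CB ≤ H := by
    rintro _ ⟨v, hv, rfl⟩
    exact hHi _ v hv.1
  have hCBfix : CB ≤ modFix σ T (cjS D.x D.A) := by
    rintro _ ⟨v, hv, rfl⟩ b ⟨a, ha, rfl⟩
    change σ (D.x * a * D.x⁻¹) (σ D.x v) + σ D.x v ∈ T
    rw [apply_mul, apply_mul, apply_inv_apply, ← map_add]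
    exact hTi _ _ (hv.2 a ha)
  have hinter : CA ⊓ CB ≤ T := fun v hv => hnofix v hv.1.1 (by
    rw [← D.gen]; exact modFix_sup σ hTi hv.1.2 (hCBfix hv.2))
  have hCBeq : finrank (ZMod 2) CB = finrank (ZMod 2) CA := LinearEquiv.finrank_map_eq (σ D.x) CA
  have hhalf : 2 * finrank (ZMod 2) CA ≤ finrank (ZMod 2) H + finrank (ZMod 2) T := by
    have h1 := Submodule.finrank_sup_add_finrank_inf_eq CA CB
    have h2 := Submodule.finrank_mono (show CA ⊔ CB ≤ H from sup_le inf_le_left hCBH)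
    have h3 := Submodule.finrank_mono hinter
    omega
  have hfA : finrank (ZMod 2) (H ⊓ fx σ D.A : Submodule (ZMod 2) V) + finrank (ZMod 2) T ≤
      finrank (ZMod 2) CA + finrank (ZMod 2) (fx σ (⊤ : Subgroup L)) := by
    have h1 := Submodule.finrank_sup_add_finrank_inf_eq (H ⊓ fx σ D.A) T
    have h2 : (H ⊓ fx σ D.A) ⊔ T ≤ CA := sup_le (fun v hv => ⟨hv.1, fun a ha => by
      rw [hv.2 a ha, add_self]; exact T.zero_mem⟩) hTCA
    have h3 : (H ⊓ fx σ D.A) ⊓ T ≤ fx σ ⊤ := fun v hv => D.mid hv.1.2 (hTmid hv.2)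
    have := Submodule.finrank_mono h2
    have := Submodule.finrank_mono h3
    omega
  -- the kernel of `A`
  obtain ⟨S, ⟨hSi, hTS, hSH⟩, hSmin⟩ := Set.Finite.exists_minimal
    (Set.toFinite {U : Submodule (ZMod 2) V | (∀ l, ∀ v ∈ U, σ l v ∈ U) ∧ T < U ∧ U ≤ H})
    ⟨H, hHi, hTH', le_rfl⟩
  have hS := D.small T S hTi hSi hTS (fun U hU h1 h2 => le_antisymm h2 (hSmin ⟨hU, h1, h2.trans hSH⟩ h2))
    fun hle => hTS.not_ge fun v hv => hnofix v (hSH hv) (hle hv)
  have hker : D.A ⊓ fixer σ H ≤ D.A ⊓ D.R := fun a ha => ⟨ha.1, hS.1 a ha.1 fun v hv => by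
    rw [ha.2 v (hSH hv), add_self]; exact T.zero_mem⟩
  have hYsmall := (D.small Y' Y hYi' hYi hlt hmax hnt).2
  -- the image of `A ⊓ R`
  haveI : Finite (End (ZMod 2) V) := Finite.of_injective (fun f => (f : V → V)) DFunLike.coe_injective
  haveI : Finite (H →ₗ[ZMod 2] V) := Finite.of_injective (fun f => (f : H → V)) DFunLike.coe_injective
  let rest : End (ZMod 2) V →ₗ[ZMod 2] (H →ₗ[ZMod 2] V) := LinearMap.lcomp (ZMod 2) V H.subtype
  set PH := D.P.map rest with hPH
  set Q := (killer D.P T).map rest with hQ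
  let fixA : Submodule (ZMod 2) (H →ₗ[ZMod 2] V) :=
    { carrier := {f | ∀ a ∈ D.A, ∀ v : H, f ⟨σ a v, hHi a v v.2⟩ = f v}
      add_mem' := fun {f g} hf hg a ha v => by simp [hf a ha v, hg a ha v]
      zero_mem' := fun a _ v => rfl
      smul_mem' := fun c f hf a ha v => by simp [hf a ha v] }
  set F := PH ⊓ fixA with hF
  have hQF : finrank (ZMod 2) F ≤ finrank (ZMod 2) (Q ⊓ fixA : Submodule _ _) + rk D.P T := by
    have h1 : finrank (ZMod 2) Q + rk D.P T = finrank (ZMod 2) PH := by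
      have e1 := rk_add (P := D.P) H
      have e2 := rk_add (P := D.P) T
      have e3 := rk_add (P := killer D.P T) H
      have e4 : killer (killer D.P T) H = killer D.P H := by
        ext f
        simp only [mem_killer]
        exact ⟨fun h => ⟨h.1.1, h.2⟩, fun h => ⟨⟨h.1, fun v hv => h.2 v (hTH hv)⟩, h.2⟩⟩
      rw [e4] at e3
      change rk (killer D.P T) H + rk D.P T = rk D.P H
      omega
    have h2 := Submodule.finrank_sup_add_finrank_inf_eq Q F
    have h3 := Submodule.finrank_mono (show Q ⊔ F ≤ PH from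
      sup_le (Submodule.map_mono inf_le_left) inf_le_left)
    have h4 : Q ⊓ F ≤ Q ⊓ fixA := inf_le_inf_left _ inf_le_right
    have := Submodule.finrank_mono h4
    omega
  have hA0 : dA (D.A ⊓ D.R) ≤ dA (D.A ⊓ fixer σ H) + finrank (ZMod 2) F := by
    haveI : Finite F := Finite.of_injective (fun f => (f : H →ₗ[ZMod 2] V)) Subtype.val_injective
    have hmem : ∀ a : ↥(D.A ⊓ D.R), rest ((σ (a : L)).toLinearMap + 1) ∈ F := by
      intro a
      refine ⟨⟨_, D.memP a a.2, rfl⟩, fun b hb v => ?_⟩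
      change σ (a : L) (σ b (v : V)) + σ b (v : V) = σ (a : L) (v : V) + (v : V)
      rw [← apply_mul, D.el.comm a.2.1 hb, apply_mul, ← map_add, D.quad a a.2.1 b hb]
    let φ : ↥(D.A ⊓ D.R) →* Multiplicative F :=
      { toFun := fun a => Multiplicative.ofAdd ⟨_, hmem a⟩
        map_one' := by
          refine Multiplicative.toAdd.injective (Subtype.ext (LinearMap.ext fun v => ?_))
          change σ 1 (v : V) + (v : V) = 0
          rw [map_one, LinearEquiv.coe_one, id_eq, add_self]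
        map_mul' := fun a b => by
          refine Multiplicative.toAdd.injective (Subtype.ext (LinearMap.ext fun v => ?_))
          change σ ((a : L) * b) (v : V) + (v : V) =
            (σ (a : L) (v : V) + (v : V)) + (σ (b : L) (v : V) + (v : V))
          have h := D.quad b b.2.1 a a.2.1 (v : V)
          rw [map_add, ← apply_mul] at h
          calc σ ((a : L) * b) (v : V) + (v : V)
              = (σ ((a : L) * b) (v : V) + σ (a : L) (v : V)) + (σ (a : L) (v : V) + (v : V)) := by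
                rw [add_assoc, ← add_assoc (σ (a : L) (v : V)), add_self, zero_add]
            _ = _ := by rw [h, add_comm] }
    have hk : Nat.card φ.ker = 2 ^ dA (D.A ⊓ fixer σ H) := by
      rw [← (D.el.mono inf_le_left).card]
      have he : ∀ a : ↥(D.A ⊓ D.R), a ∈ φ.ker ↔ (a : L) ∈ fixer σ H := by
        intro a
        rw [MonoidHom.mem_ker]
        constructor
        · intro h v hv
          have := DFunLike.congr_fun (congrArg Subtype.val (congrArg Multiplicative.toAdd h)) ⟨v, hv⟩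
          change σ (a : L) v + v = 0 at this
          rw [← add_left_inj v, this, add_self]
        · intro h
          refine Multiplicative.toAdd.injective (Subtype.ext (LinearMap.ext fun v => ?_))
          change σ (a : L) (v : V) + (v : V) = 0
          rw [h _ v.2, add_self]
      exact Nat.card_congr
        { toFun := fun a => ⟨(a.1 : L), a.1.2.1, (he _).1 a.2⟩
          invFun := fun a => ⟨⟨a, hker a.2⟩, (he _).2 a.2.2⟩
          left_inv := fun _ => rfl
          right_inv := fun _ => rfl }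
    have h1 := φ.ker.card_mul_index
    rw [Subgroup.index_ker, hk, (D.el.mono inf_le_left).card] at h1
    have h2 : Nat.card φ.range ≤ 2 ^ finrank (ZMod 2) F := by
      refine (Subgroup.card_le_card_group _).trans_eq ?_
      rw [Nat.card_congr Multiplicative.toAdd, Module.natCard_eq_pow_finrank (K := ZMod 2),
        Nat.card_zmod]
    have h3 : 2 ^ dA (D.A ⊓ D.R) ≤ 2 ^ (dA (D.A ⊓ fixer σ H) + finrank (ZMod 2) F) := by
      rw [← h1, pow_add]; exact Nat.mul_le_mul_left _ h2
    exact (Nat.pow_le_pow_iff_right (by norm_num)).1 h3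
  -- half of the maps are fixed by `A`
  have hQinv : ∀ l : L, ∀ f ∈ Q, f.comp ((σ l).toLinearMap.restrict (hHi l)) ∈ Q := by
    rintro l _ ⟨f, hf, rfl⟩
    exact ⟨f * (σ l).toLinearMap, mem_killer.2 ⟨D.compP f (mem_killer.1 hf).1 l,
      fun v hv => (mem_killer.1 hf).2 _ (hTi l v hv)⟩, rfl⟩
  have hQhalf : 2 * finrank (ZMod 2) (Q ⊓ fixA : Submodule _ _) ≤ finrank (ZMod 2) Q := by
    let τ : (H →ₗ[ZMod 2] V) →ₗ[ZMod 2] (H →ₗ[ZMod 2] V) :=
      LinearMap.lcomp (ZMod 2) V ((σ D.x⁻¹).toLinearMap.restrict (hHi D.x⁻¹))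
    have hτ : Function.Injective τ := fun f g h => LinearMap.ext fun v => by
      have := DFunLike.congr_fun h ⟨σ D.x v, hHi _ _ v.2⟩
      change f ⟨σ D.x⁻¹ (σ D.x v), _⟩ = g ⟨σ D.x⁻¹ (σ D.x v), _⟩ at this
      simpa only [apply_inv_apply] using this
    have hle : (Q ⊓ fixA).map τ ≤ Q := by
      rintro _ ⟨f, hf, rfl⟩
      exact hQinv _ f hf.1
    have hdisj : (Q ⊓ fixA) ⊓ (Q ⊓ fixA).map τ = ⊥ := by
      refine (Submodule.eq_bot_iff _).2 ?_
      rintro f ⟨hf, g, hg, hgf⟩
      have hfix : ∀ l : L, ∀ v : H, f ⟨σ l v, hHi l v v.2⟩ = f v := by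
        intro l
        have hl : l ∈ D.A ⊔ cjS D.x D.A := by rw [D.gen]; exact Subgroup.mem_top l
        rw [show D.A ⊔ cjS D.x D.A = Subgroup.closure (↑D.A ∪ ↑(cjS D.x D.A)) by
          rw [Subgroup.closure_union, Subgroup.closure_eq, Subgroup.closure_eq]] at hl
        induction hl using Subgroup.closure_induction with
        | mem b hb =>
          rcases hb with hb | hb
          · exact hf.2 b hb
          · intro v
            have h := hg.2 _ (mem_cjS.1 hb) ⟨σ D.x⁻¹ v, hHi _ _ v.2⟩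
            rw [← hgf]
            change g ⟨σ D.x⁻¹ (σ b v), _⟩ = g ⟨σ D.x⁻¹ v, _⟩
            refine (congrArg g (Subtype.ext ?_)).trans h
            change σ D.x⁻¹ (σ b v) = σ (D.x⁻¹ * b * D.x) (σ D.x⁻¹ v)
            rw [← apply_mul, ← apply_mul, mul_inv_cancel_right]
        | one => intro v; simp
        | mul a b _ _ ha hb =>
          intro v
          have := ha ⟨σ b v, hHi b v v.2⟩
          rw [hb] at this
          simpa only [apply_mul] using this
        | inv a _ ha =>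
          intro v
          have := ha ⟨σ a⁻¹ v, hHi _ v v.2⟩
          simpa only [apply_apply_inv] using this.symm
      obtain ⟨f₀, hf₀, rfl⟩ := hf.1
      refine LinearMap.ext fun v => ?_
      have key : ∀ p ∈ ops σ, f₀ (p.1 (v : V)) = p.2 • f₀ (v : V) := by
        intro p hp
        induction hp using Submodule.span_induction with
        | mem y hy =>
          obtain ⟨l, rfl⟩ := hy
          change f₀ (σ l (v : V)) = (1 : ZMod 2) • f₀ (v : V)
          rw [one_smul]
          exact hfix l v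
        | zero => simp
        | add a b _ _ ha hb => rw [Prod.fst_add, Prod.snd_add, LinearMap.add_apply, map_add, ha, hb,
            add_smul]
        | smul c a _ ha => rw [Prod.smul_fst, Prod.smul_snd, LinearMap.smul_apply, map_smul, ha,
            smul_assoc]
      have := key e he.1
      rw [(mem_killer.1 hf₀).2 _ (hJ e he v v.2), he2, one_smul] at this
      exact this.symm
    have h1 := Submodule.finrank_sup_add_finrank_inf_eq (Q ⊓ fixA) ((Q ⊓ fixA).map τ)
    rw [hdisj, finrank_bot, ← (Submodule.equivMapOfInjective τ hτ (Q ⊓ fixA)).finrank_eq] at h1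
    have h2 := Submodule.finrank_mono (sup_le (inf_le_left : Q ⊓ fixA ≤ Q) hle)
    omega
  -- divisibility
  have hw : finrank (ZMod 2) (Y ⧸ Y'.submoduleOf Y) + finrank (ZMod 2) Y' = finrank (ZMod 2) Y :=
    finrank_sec hlt.le
  haveI : Finite (Y ⧸ Y'.submoduleOf Y) := Quotient.finite _
  haveI : Finite (H ⧸ T.submoduleOf H) := Quotient.finite _
  let fstL : (End (ZMod 2) V × ZMod 2) →ₗ[ZMod 2] End (ZMod 2) V := LinearMap.fst _ _ _
  let φW := secEnd (ops σ) fstL Y' Y (fun p hp v hv => ops_inv σ hYi' hp hv)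
    (fun p hp v hv => ops_inv σ hYi hp hv)
  let φM := secEnd (ops σ) fstL T H (fun p hp v hv => ops_inv σ hTi hp hv)
    (fun p hp v hv => ops_inv σ hHi hp hv)
  have hone : ((1 : End (ZMod 2) V), (1 : ZMod 2)) ∈ ops σ := ops_one σ
  have hsimple : ∀ U : Submodule (ZMod 2) (Y ⧸ Y'.submoduleOf Y),
      (∀ p : ops σ, ∀ u ∈ U, φW p u ∈ U) → U = ⊥ ∨ U = ⊤ := by
    intro U hU
    set U' := (U.comap (Y'.submoduleOf Y).mkQ).map Y.subtype with hU'
    have h1 : Y' ≤ U' := fun v hv => ⟨⟨v, hlt.le hv⟩, by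
      rw [SetLike.mem_coe, Submodule.mem_comap, Submodule.mkQ_apply,
        (Submodule.Quotient.mk_eq_zero _).2 (show (⟨v, hlt.le hv⟩ : Y) ∈ Y'.submoduleOf Y from hv)]
      exact U.zero_mem, rfl⟩
    have h2 : ∀ l, ∀ v ∈ U', σ l v ∈ U' := by
      rintro l _ ⟨v, hv, rfl⟩
      exact ⟨⟨σ l v, hYi l v v.2⟩, hU ⟨_, mem_ops σ l⟩ _ hv, rfl⟩
    rcases h1.eq_or_lt with h | h
    · left
      refine (Submodule.eq_bot_iff _).2 fun q hq => ?_
      obtain ⟨v, rfl⟩ := Submodule.mkQ_surjective _ q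
      refine (Submodule.Quotient.mk_eq_zero _).2 ?_
      exact h.symm.le ⟨v, hq, rfl⟩
    · right
      refine eq_top_iff.2 fun q _ => ?_
      obtain ⟨v, rfl⟩ := Submodule.mkQ_surjective _ q
      obtain ⟨w, hw, hwv⟩ := (hmax U' h2 h (Submodule.map_subtype_le Y _)).symm.le v.2
      rw [← Subtype.ext hwv]
      exact hw
  have hdiv1 : finrank (ZMod 2) (Y ⧸ Y'.submoduleOf Y) ∣ finrank (ZMod 2) (H ⧸ T.submoduleOf H) := by
    refine dvd_finrank (LinearMap.range (φW.prod φM)) ?_ ⟨⟨_, hone⟩, ?_⟩ ?_ ?_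
    · rintro _ ⟨p, rfl⟩ _ ⟨q, rfl⟩
      refine ⟨⟨_, ops_mul σ p.2 q.2⟩, Prod.ext ?_ ?_⟩
      · exact Submodule.linearMap_qext _ (LinearMap.ext fun v => rfl)
      · exact Submodule.linearMap_qext _ (LinearMap.ext fun v => rfl)
    · refine Prod.ext ?_ ?_
      · exact Submodule.linearMap_qext _ (LinearMap.ext fun v => rfl)
      · exact Submodule.linearMap_qext _ (LinearMap.ext fun v => rfl)
    · exact fun U hU => hsimple U fun p u hu => hU _ ⟨p, rfl⟩ u hu
    · rintro _ ⟨p, rfl⟩ hp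
      exact (secEnd_eq_zero _ _ _ _ _ _ p).2
        (hJ p ⟨p.2, (secEnd_eq_zero _ _ _ _ _ _ p).1 hp⟩)
  have hdiv2 : finrank (ZMod 2) (Y ⧸ Y'.submoduleOf Y) ∣ finrank (ZMod 2) Q := by
    haveI : Finite (Module.Dual (ZMod 2) (Y ⧸ Y'.submoduleOf Y)) :=
      Finite.of_injective (fun f => (f : _ → ZMod 2)) DFunLike.coe_injective
    haveI : Finite Q := Finite.of_injective (fun f => (f : H →ₗ[ZMod 2] V)) Subtype.val_injective
    have hQops : ∀ p : ops σ, ∀ f ∈ Q,
        f.comp (((p : End (ZMod 2) V × ZMod 2).1).restrict fun v hv => ops_inv σ hHi p.2 hv) ∈ Q := by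
      rintro p _ ⟨f, hf, rfl⟩
      exact ⟨f * (p : End (ZMod 2) V × ZMod 2).1, mem_killer.2 ⟨D.compOps (mem_killer.1 hf).1 p.2,
        fun v hv => (mem_killer.1 hf).2 _ (ops_inv σ hTi p.2 hv)⟩, rfl⟩
    let φD : ops σ →ₗ[ZMod 2] End (ZMod 2) Q :=
      { toFun := fun p => (LinearMap.lcomp (ZMod 2) V
          (((p : End (ZMod 2) V × ZMod 2).1).restrict fun v hv => ops_inv σ hHi p.2 hv)).restrict
            (hQops p)
        map_add' := fun p q => LinearMap.ext fun f => Subtype.ext (LinearMap.ext fun v => by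
          change (f : H →ₗ[ZMod 2] V) ⟨_, _⟩ = (f : H →ₗ[ZMod 2] V) ⟨_, _⟩ + (f : H →ₗ[ZMod 2] V) ⟨_, _⟩
          rw [← map_add]; rfl)
        map_smul' := fun c p => LinearMap.ext fun f => Subtype.ext (LinearMap.ext fun v => by
          change (f : H →ₗ[ZMod 2] V) ⟨_, _⟩ = c • (f : H →ₗ[ZMod 2] V) ⟨_, _⟩
          rw [← map_smul]; rfl) }
    rw [← Subspace.dual_finrank_eq (K := ZMod 2) (V := Y ⧸ Y'.submoduleOf Y)]
    refine dvd_finrank (LinearMap.range ((Module.Dual.transpose.comp φW).prod φD)) ?_ ⟨⟨_, hone⟩, ?_⟩ ?_ ?_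
    · rintro _ ⟨p, rfl⟩ _ ⟨q, rfl⟩
      refine ⟨⟨_, ops_mul σ q.2 p.2⟩, Prod.ext ?_ ?_⟩
      · exact LinearMap.ext fun f => Submodule.linearMap_qext _ (LinearMap.ext fun v => rfl)
      · exact LinearMap.ext fun f => Subtype.ext (LinearMap.ext fun v => rfl)
    · refine Prod.ext ?_ ?_
      · exact LinearMap.ext fun f => Submodule.linearMap_qext _ (LinearMap.ext fun v => rfl)
      · exact LinearMap.ext fun f => Subtype.ext (LinearMap.ext fun v => rfl)
    · intro U hU
      rcases hsimple U.dualCoannihilator (fun p u hu => (Submodule.mem_dualCoannihilator _).2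
          fun f hf => (Submodule.mem_dualCoannihilator _).1 hu _ (hU _ ⟨p, rfl⟩ f hf)) with h | h
      · right
        rw [← Subspace.dualCoannihilator_dualAnnihilator_eq (W := U), h,
          Submodule.dualAnnihilator_bot]
      · left
        rw [← Subspace.dualCoannihilator_dualAnnihilator_eq (W := U), h,
          Submodule.dualAnnihilator_top]
    · rintro _ ⟨p, rfl⟩ hp
      have hpW : φW p = 0 := LinearMap.ext fun q => (Module.forall_dual_apply_eq_zero_iff (ZMod 2) _).1
        fun f => DFunLike.congr_fun (DFunLike.congr_fun hp f) q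
      have hpT := hJ p ⟨p.2, (secEnd_eq_zero _ _ _ _ _ _ p).1 hpW⟩
      refine LinearMap.ext fun f => Subtype.ext (LinearMap.ext fun v => ?_)
      obtain ⟨f₀, hf₀, hf₀e⟩ := f.2
      change (f : H →ₗ[ZMod 2] V) ⟨_, _⟩ = 0
      rw [← hf₀e]
      exact (mem_killer.1 hf₀).2 _ (hpT v v.2)
  have hQrk : finrank (ZMod 2) Q + rk D.P T = rk D.P H := by
    have e1 := rk_add (P := D.P) H
    have e2 := rk_add (P := D.P) T
    have e3 := rk_add (P := killer D.P T) H
    have e4 : killer (killer D.P T) H = killer D.P H := by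
      ext f
      simp only [mem_killer]
      exact ⟨fun h => ⟨h.1.1, h.2⟩, fun h => ⟨⟨h.1, fun v hv => h.2 v (hTH hv)⟩, h.2⟩⟩
    rw [e4] at e3
    change rk (killer D.P T) H + rk D.P T = rk D.P H
    omega
  have hm : finrank (ZMod 2) (H ⧸ T.submoduleOf H) + finrank (ZMod 2) T = finrank (ZMod 2) H :=
    finrank_sec hTH
  have hbest := D.best H
  have hle := dA_mono hker
  have hle' := dA_mono (inf_le_left : D.A ⊓ D.R ≤ D.A)
  set w := finrank (ZMod 2) (Y ⧸ Y'.submoduleOf Y)
  set m := finrank (ZMod 2) (H ⧸ T.submoduleOf H)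
  set q := finrank (ZMod 2) Q
  obtain ⟨i, hi⟩ := hdiv1
  obtain ⟨j, hj⟩ := hdiv2
  by_contra hc
  have hqm : j < i := by
    by_contra h
    have : w * i ≤ w * j := Nat.mul_le_mul_left w (not_lt.1 h)
    omega
  have : w * (j + 1) ≤ w * i := Nat.mul_le_mul_left w hqm
  rw [mul_add, mul_one] at this
  omega

/-- **Semistability**: the family has full rank on subspaces of fixed points of `A`. -/
theorem SData.full : ∀ n, ∀ Y : Submodule (ZMod 2) V, finrank (ZMod 2) Y ≤ n → fx σ ⊤ ≤ Y →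
    (∀ l, ∀ v ∈ Y, σ l v ∈ Y) → ∀ S, S ≤ Y ⊓ fx σ D.A →
      finrank (ZMod 2) S ≤ rk D.P S + finrank (ZMod 2) (S ⊓ fx σ ⊤ : Submodule (ZMod 2) V) := by
  intro n
  induction n with
  | zero =>
    intro Y hY _ _ S hS
    have := Submodule.finrank_mono (hS.trans inf_le_left)
    omega
  | succ n ih =>
    intro Y hY hZY hYi
    rcases hZY.eq_or_lt with he | hZY'
    · intro S hS
      rw [inf_eq_left.2 ((hS.trans inf_le_left).trans he.symm.le)]
      omega
    obtain ⟨Y', ⟨hYi', hZY'', hlt⟩, hmax'⟩ := Set.Finite.exists_maximal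
      (Set.toFinite {U : Submodule (ZMod 2) V | (∀ l, ∀ v ∈ U, σ l v ∈ U) ∧ fx σ ⊤ ≤ U ∧ U < Y})
      ⟨fx σ ⊤, fun l v hv => by rw [hv l (Subgroup.mem_top l)]; exact hv, le_rfl, hZY'⟩
    have hmax : ∀ U : Submodule (ZMod 2) V, (∀ l, ∀ v ∈ U, σ l v ∈ U) → Y' < U → U ≤ Y → U = Y := by
      intro U hU h1 h2
      by_contra h3
      exact h1.not_ge (hmax' ⟨hU, hZY''.trans h1.le, lt_of_le_of_ne h2 h3⟩ h1.le)
    have hY' : finrank (ZMod 2) Y' ≤ n := by
      have := Submodule.finrank_lt_finrank_of_lt hlt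
      omega
    have ihB : ∀ S, S ≤ Y' ⊓ fx σ (cjS D.x D.A) →
        finrank (ZMod 2) S ≤ rk D.P S + finrank (ZMod 2) (S ⊓ fx σ ⊤ : Submodule (ZMod 2) V) := by
      intro S hS
      have h1 := ih Y' hY' hZY'' hYi' (S.map (σ D.x⁻¹).toLinearMap) (by
        rintro _ ⟨v, hv, rfl⟩
        refine ⟨hYi' _ v (hS hv).1, fun a ha => ?_⟩
        have := (hS hv).2 _ (conj_mem_cjS (g := D.x) ha)
        rw [apply_mul, apply_mul] at this
        change σ a (σ D.x⁻¹ v) = σ D.x⁻¹ v
        conv_rhs => rw [← this]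
        rw [apply_inv_apply])
      have e1 : finrank (ZMod 2) (S.map (σ D.x⁻¹).toLinearMap) = finrank (ZMod 2) S :=
        LinearEquiv.finrank_map_eq (σ D.x⁻¹) S
      rw [D.rk_map, e1] at h1
      refine h1.trans (Nat.add_le_add_left (Submodule.finrank_mono ?_) _)
      rintro _ ⟨⟨v, hv, rfl⟩, hz⟩
      have : σ D.x⁻¹ v = v := by
        have h2 := hz D.x (Subgroup.mem_top _)
        change σ D.x (σ D.x⁻¹ v) = σ D.x⁻¹ v at h2
        rw [apply_apply_inv] at h2
        exact h2.symm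
      change σ D.x⁻¹ v ∈ S ⊓ fx σ ⊤
      exact ⟨this.symm ▸ hv, hz⟩
    set Z := fx σ (⊤ : Subgroup L) with hZ
    have hZi : ∀ l, ∀ v ∈ Z, σ l v ∈ Z := fun l v hv => by rw [hv l (Subgroup.mem_top l)]; exact hv
    set J := D.ideal Y Y' with hJdef
    set T := modFix σ Z ⊤ with hT
    have hTi : ∀ l, ∀ v ∈ T, σ l v ∈ T := fun l v hv => by
      have h1 : σ l v = (σ l v + v) + v := by rw [add_assoc, add_self, add_zero]
      rw [h1]
      exact T.add_mem (fun m hm => by rw [hv l (Subgroup.mem_top l) m hm, add_self]; exact Z.zero_mem) hv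
    -- first descent: into the fixed space of the conjugate
    have descent1 : ∀ k, ∀ S : Submodule (ZMod 2) V, finrank (ZMod 2) S ≤ k → S ≤ Y ⊓ fx σ D.A →
        (∀ S₀ ≤ S, (∀ p ∈ J, ∀ v ∈ S₀, p.1 v ∈ T) →
          finrank (ZMod 2) S₀ ≤ rk D.P S₀ + finrank (ZMod 2) (S₀ ⊓ Z : Submodule (ZMod 2) V)) →
        finrank (ZMod 2) S ≤ rk D.P S + finrank (ZMod 2) (S ⊓ Z : Submodule (ZMod 2) V) := by
      intro k
      induction k with
      | zero => intro S hS _ _; omega
      | succ k ihk =>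
        intro S hSk hS hbase
        by_cases hall : ∀ p ∈ J, ∀ v ∈ S, p.1 v ∈ T
        · exact hbase S le_rfl hall
        obtain ⟨p, hp, b, hb, v, hv, hbad⟩ : ∃ p ∈ J, ∃ b ∈ cjS D.x D.A, ∃ v ∈ S,
            σ b (p.1 v) + p.1 v ∉ Z := by
          by_contra hcon
          push Not at hcon
          refine hall fun p hp v hv l hl => ?_
          have hB : p.1 v ∈ modFix σ Z (cjS D.x D.A) := fun b hb => hcon p hp b hb v hv
          have hA : p.1 v ∈ modFix σ Z D.A := by
            intro a ha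
            have hq : ((σ D.x).toLinearMap, (1 : ZMod 2)) * p ∈ J :=
              D.ideal_left hYi' (mem_ops σ D.x) hp
            have h2 := hZi D.x⁻¹ _ (hcon _ hq _ (conj_mem_cjS (g := D.x) ha) v hv)
            change σ D.x⁻¹ (σ (D.x * a * D.x⁻¹) (σ D.x (p.1 v)) + σ D.x (p.1 v)) ∈ Z at h2
            rwa [map_add, apply_inv_apply, apply_mul, apply_mul, apply_inv_apply, apply_inv_apply] at h2
          have := modFix_sup σ hZi hA hB
          rw [D.gen] at this
          exact this l hl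
        set μ : End (ZMod 2) V := ((σ b).toLinearMap + 1) * p.1 with hμ
        have hμP : ∀ f ∈ D.P, f * μ ∈ D.P := by
          intro f hf
          rw [hμ, ← mul_assoc]
          refine D.compOps ?_ hp.1
          rw [mul_add, mul_one]
          exact D.P.add_mem (D.compP f hf b) hf
        set S' := S ⊓ Z.comap μ with hS'
        have hlt' : S' < S := lt_of_le_of_ne inf_le_left fun h => hbad (h.symm.le hv).2
        have hrec := ihk S' (by have := Submodule.finrank_lt_finrank_of_lt hlt'; omega)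
          (inf_le_left.trans hS) fun S₀ h₀ => hbase S₀ (h₀.trans inf_le_left)
        have hstep := rk_step (P := D.P) μ hμP (show S' ≤ S from inf_le_left) (T := Z) fun w hw => hw.2
        rw [rk_eq_zero (S := Z) D.killP, add_zero] at hstep
        have hmapB := ihB (S.map μ) (by
          rintro _ ⟨w, hw, rfl⟩
          refine ⟨?_, D.quadB hb _⟩
          exact Y'.add_mem (hYi' b _ (hp.2 w (hS hw).1)) (hp.2 w (hS hw).1))
        have hmono := rk_mono (P := D.P) (le_sup_left : S.map μ ≤ S.map μ ⊔ Z)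
        have hdim : finrank (ZMod 2) S + finrank (ZMod 2) (S.map μ ⊓ Z : Submodule (ZMod 2) V) =
            finrank (ZMod 2) (S.map μ) + finrank (ZMod 2) S' := by
          have e1 := LinearMap.finrank_range_add_finrank_ker (μ.comp S.subtype)
          rw [LinearMap.range_comp, Submodule.range_subtype, LinearMap.ker_comp] at e1
          have e2 := LinearMap.finrank_range_add_finrank_ker (μ.comp S'.subtype)
          rw [LinearMap.range_comp, Submodule.range_subtype, LinearMap.ker_comp] at e2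
          have e3 : S'.map μ = S.map μ ⊓ Z := by
            ext w
            constructor
            · rintro ⟨u, hu, rfl⟩; exact ⟨⟨u, hu.1, rfl⟩, hu.2⟩
            · rintro ⟨⟨u, hu, rfl⟩, hz⟩; exact ⟨u, ⟨hu, hz⟩, rfl⟩
          rw [e3] at e2
          have e5 : ∀ U : Submodule (ZMod 2) V, finrank (ZMod 2) ((LinearMap.ker μ).comap U.subtype) =
              finrank (ZMod 2) (U ⊓ LinearMap.ker μ : Submodule (ZMod 2) V) := fun U => by
            rw [(Submodule.equivMapOfInjective U.subtype Subtype.val_injective _).finrank_eq,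
              Submodule.map_comap_subtype]
          have e6 : S' ⊓ LinearMap.ker μ = S ⊓ LinearMap.ker μ := by
            refine le_antisymm (inf_le_inf_right _ inf_le_left) fun w hw => ⟨⟨hw.1, ?_⟩, hw.2⟩
            change μ w ∈ Z
            rw [LinearMap.mem_ker.1 hw.2]
            exact Z.zero_mem
          rw [e5] at e1
          rw [e5, e6] at e2
          omega
        have hSZ : finrank (ZMod 2) (S' ⊓ Z : Submodule (ZMod 2) V) ≤
            finrank (ZMod 2) (S ⊓ Z : Submodule (ZMod 2) V) :=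
          Submodule.finrank_mono (inf_le_inf_right _ inf_le_left)
        omega
    intro S hS
    refine descent1 _ S le_rfl hS fun S₀ hS₀ hS₀J => ?_
    have hS₀' := hS₀.trans hS
    by_cases hnt : Y ≤ modFix σ Y' ⊤
    · -- trivial top
      have hle : S₀ ≤ Z := by
        intro v hv
        refine D.mid (hS₀' hv).2 (D.modFix_of_fx hZi
          (fun a ha => by rw [(hS₀' hv).2 a ha, add_self]; exact Z.zero_mem) fun l => ?_)
        have hl : (((σ l).toLinearMap, (1 : ZMod 2)) + (1, 1)) ∈ J :=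
          ⟨add_mem (mem_ops σ l) (ops_one σ), fun w hw => hnt hw l (Subgroup.mem_top l)⟩
        exact hS₀J _ hl v hv
      rw [inf_eq_left.2 hle]; omega
    obtain ⟨e, he, he2⟩ : ∃ e ∈ J, e.2 = 1 := by
      by_contra hcon
      push Not at hcon
      haveI : Finite (Y ⧸ Y'.submoduleOf Y) := Quotient.finite _
      let fstL : (End (ZMod 2) V × ZMod 2) →ₗ[ZMod 2] End (ZMod 2) V := LinearMap.fst _ _ _
      let φW := secEnd (ops σ) fstL Y' Y (fun p hp v hv => ops_inv σ hYi' hp hv)
        (fun p hp v hv => ops_inv σ hYi hp hv)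
      let φ1 : ops σ →ₗ[ZMod 2] End (ZMod 2) (ZMod 2) :=
        ((LinearMap.lsmul (ZMod 2) (ZMod 2)).comp (LinearMap.snd _ _ _)).comp (ops σ).subtype
      have hdiv : finrank (ZMod 2) (Y ⧸ Y'.submoduleOf Y) ∣ finrank (ZMod 2) (ZMod 2) := by
        refine dvd_finrank (LinearMap.range (φW.prod φ1)) ?_ ⟨⟨_, ops_one σ⟩, ?_⟩ ?_ ?_
        · rintro _ ⟨p, rfl⟩ _ ⟨q, rfl⟩
          refine ⟨⟨_, ops_mul σ p.2 q.2⟩, Prod.ext ?_ (LinearMap.ext fun c => ?_)⟩
          · exact Submodule.linearMap_qext _ (LinearMap.ext fun v => rfl)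
          · exact mul_assoc _ _ _
        · refine Prod.ext ?_ (LinearMap.ext fun c => one_mul c)
          exact Submodule.linearMap_qext _ (LinearMap.ext fun v => rfl)
        · intro U hU
          set U' := (U.comap (Y'.submoduleOf Y).mkQ).map Y.subtype with hU'
          have h1 : Y' ≤ U' := fun v hv => ⟨⟨v, hlt.le hv⟩, by
            rw [SetLike.mem_coe, Submodule.mem_comap, Submodule.mkQ_apply,
              (Submodule.Quotient.mk_eq_zero _).2 (show (⟨v, hlt.le hv⟩ : Y) ∈ Y'.submoduleOf Y from hv)]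
            exact U.zero_mem, rfl⟩
          have h2 : ∀ l, ∀ v ∈ U', σ l v ∈ U' := by
            rintro l _ ⟨v, hv, rfl⟩
            exact ⟨⟨σ l v, hYi l v v.2⟩, hU _ ⟨⟨_, mem_ops σ l⟩, rfl⟩ _ hv, rfl⟩
          rcases h1.eq_or_lt with h | h
          · left
            refine (Submodule.eq_bot_iff _).2 fun q hq => ?_
            obtain ⟨v, rfl⟩ := Submodule.mkQ_surjective _ q
            exact (Submodule.Quotient.mk_eq_zero _).2 (h.symm.le ⟨v, hq, rfl⟩)
          · right
            refine eq_top_iff.2 fun q _ => ?_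
            obtain ⟨v, rfl⟩ := Submodule.mkQ_surjective _ q
            obtain ⟨w, hw, hwv⟩ := (hmax U' h2 h (Submodule.map_subtype_le Y _)).symm.le v.2
            rw [← Subtype.ext hwv]
            exact hw
        · rintro _ ⟨p, rfl⟩ hp
          refine LinearMap.ext fun c => ?_
          change (p : End (ZMod 2) V × ZMod 2).2 • c = 0
          have := hcon p ⟨p.2, (secEnd_eq_zero _ _ _ _ _ _ p).1 hp⟩
          rw [show (p : End (ZMod 2) V × ZMod 2).2 = 0 by revert this; generalize (p : End (ZMod 2) V × ZMod 2).2 = z; decide +revert,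
            zero_smul]
      rw [Module.finrank_self, Nat.dvd_one] at hdiv
      refine hnt fun v hv l _ => ?_
      by_cases hvY : v ∈ Y'
      · exact Y'.add_mem (hYi' l v hvY) hvY
      have hsec := finrank_sec hlt.le
      have hspan : Y' ⊔ Submodule.span (ZMod 2) {v} = Y := by
        refine Submodule.eq_of_le_of_finrank_le
          (sup_le hlt.le ((Submodule.span_singleton_le_iff_mem _ _).2 hv)) ?_
        have h1 : Y' < Y' ⊔ Submodule.span (ZMod 2) {v} := lt_of_le_of_ne le_sup_left fun h =>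
          hvY (h.symm.le (Submodule.mem_sup_right (Submodule.mem_span_singleton_self v)))
        have := Submodule.finrank_lt_finrank_of_lt h1
        omega
      obtain ⟨y, hy, u, hu, hyu⟩ := Submodule.mem_sup.1 (hspan.symm.le (hYi l v hv))
      obtain ⟨c, rfl⟩ := Submodule.mem_span_singleton.1 hu
      rw [← hyu]
      rcases (by decide : ∀ c : ZMod 2, c = 0 ∨ c = 1) c with rfl | rfl
      · exfalso
        rw [zero_smul, add_zero] at hyu
        have := hYi' l⁻¹ _ (hyu ▸ hy)
        rw [apply_inv_apply] at this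
        exact hvY this
      · rw [one_smul, add_assoc, add_self, add_zero]; exact hy
    set TY := T ⊓ Y with hTY
    set Ts := {U : Submodule (ZMod 2) V | Z ≤ U ∧ U ≤ TY} with hTs
    have hZT : Z ≤ TY := le_inf (fun z hz l hl => by rw [hz l hl, add_self]; exact Z.zero_mem) hZY
    obtain ⟨T₀, hT₀mem, hT₀max⟩ := Set.Finite.exists_maximalFor
      (fun U : Submodule (ZMod 2) V =>
        (finrank (ZMod 2) V + 1) * (finrank (ZMod 2) D.P + finrank (ZMod 2) U - rk D.P U) + finrank (ZMod 2) U)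
      Ts (Set.toFinite _) ⟨Z, le_rfl, hZT⟩
    have hT₀ : ∀ U, Z ≤ U → U ≤ TY → finrank (ZMod 2) U + rk D.P T₀ ≤ finrank (ZMod 2) T₀ + rk D.P U := by
      intro U h1 h2
      by_contra hc
      have hrkU := rk_add (P := D.P) U
      have hrkT := rk_add (P := D.P) T₀
      have hb := Submodule.finrank_le T₀
      have hb' := Submodule.finrank_le U
      have h3 := hT₀max (j := U) ⟨h1, h2⟩ (by
        have : (finrank (ZMod 2) V + 1) * (finrank (ZMod 2) D.P + finrank (ZMod 2) T₀ - rk D.P T₀ + 1) ≤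
            (finrank (ZMod 2) V + 1) * (finrank (ZMod 2) D.P + finrank (ZMod 2) U - rk D.P U) :=
          Nat.mul_le_mul_left _ (by omega)
        rw [mul_add, mul_one] at this
        simp only
        omega)
      simp only at h3
      have : (finrank (ZMod 2) V + 1) * (finrank (ZMod 2) D.P + finrank (ZMod 2) T₀ - rk D.P T₀ + 1) ≤
          (finrank (ZMod 2) V + 1) * (finrank (ZMod 2) D.P + finrank (ZMod 2) U - rk D.P U) :=
        Nat.mul_le_mul_left _ (by omega)
      rw [mul_add, mul_one] at this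
      omega
    have hT₀i : ∀ l, ∀ v ∈ T₀, σ l v ∈ T₀ := fun l v hv => by
      have h1 : σ l v = (σ l v + v) + v := by rw [add_assoc, add_self, add_zero]
      rw [h1]
      exact T₀.add_mem (hT₀mem.1 ((hT₀mem.2 hv).1 l (Subgroup.mem_top l))) hv
    have hZrk : rk D.P Z = 0 := rk_eq_zero (S := Z) D.killP
    have hdef := hT₀ Z le_rfl hZT
    rw [hZrk, add_zero] at hdef
    let G : Submodule (ZMod 2) V :=
      { carrier := {v | v ∈ Y ∧ ∀ p ∈ J, p.1 v ∈ T₀}
        add_mem' := fun {a b} ha hb => ⟨Y.add_mem ha.1 hb.1, fun p hp => by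
          rw [map_add]; exact T₀.add_mem (ha.2 p hp) (hb.2 p hp)⟩
        zero_mem' := ⟨Y.zero_mem, fun p _ => by simp⟩
        smul_mem' := fun c a ha => ⟨Y.smul_mem c ha.1, fun p hp => by
          rw [map_smul]; exact T₀.smul_mem c (ha.2 p hp)⟩ }
    have hGi : ∀ l, ∀ v ∈ G, σ l v ∈ G := fun l v hv =>
      ⟨hYi l v hv.1, fun p hp => hv.2 _ (D.ideal_right hYi hp (mem_ops σ l))⟩
    have hT₀G : T₀ ≤ G := fun t ht => ⟨(hT₀mem.2 ht).2, fun p hp => by
      have h1 := hT₀mem.1 (ops_scalar σ hp.1 (hT₀mem.2 ht).1)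
      have h2 := T₀.add_mem h1 (T₀.smul_mem p.2 ht)
      rwa [add_assoc, add_self, add_zero] at h2⟩
    -- second descent: to the homogeneous layer
    have descent2 : ∀ k, ∀ S : Submodule (ZMod 2) V, finrank (ZMod 2) S ≤ k → S ≤ Y →
        (∀ p ∈ J, ∀ v ∈ S, p.1 v ∈ T) →
        (∀ S₁ ≤ S, S₁ ≤ G → finrank (ZMod 2) S₁ ≤ rk D.P S₁ + finrank (ZMod 2) (S₁ ⊓ Z : Submodule (ZMod 2) V)) →
        finrank (ZMod 2) S ≤ rk D.P S + finrank (ZMod 2) (S ⊓ Z : Submodule (ZMod 2) V) := by
      intro k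
      induction k with
      | zero => intro S hS _ _ _; omega
      | succ k ihk =>
        intro S hSk hSY hSJ hbase
        by_cases hall : ∀ p ∈ J, ∀ v ∈ S, p.1 v ∈ T₀
        · exact hbase S le_rfl fun v hv => ⟨hSY hv, fun p hp => hall p hp v hv⟩
        push Not at hall
        obtain ⟨p, hp, v, hv, hbad⟩ := hall
        set S' := S ⊓ T₀.comap p.1 with hS'
        have hlt' : S' < S := lt_of_le_of_ne inf_le_left fun h => hbad (h.symm.le hv).2
        have hrec := ihk S' (by have := Submodule.finrank_lt_finrank_of_lt hlt'; omega)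
          (inf_le_left.trans hSY) (fun q hq w hw => hSJ q hq w hw.1)
          fun S₁ h₁ => hbase S₁ (h₁.trans inf_le_left)
        have hstep := rk_step (P := D.P) p.1 (fun f hf => D.compOps hf hp.1) (show S' ≤ S from inf_le_left)
          (T := T₀) fun w hw => hw.2
        have hmax := hT₀ (S.map p.1 ⊔ T₀) (hT₀mem.1.trans le_sup_right) (sup_le (by
          rintro _ ⟨w, hw, rfl⟩
          exact ⟨hSJ p hp w hw, hlt.le (hp.2 w (hSY hw))⟩) hT₀mem.2)
        have hdim : finrank (ZMod 2) S + finrank (ZMod 2) T₀ =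
            finrank (ZMod 2) (S.map p.1 ⊔ T₀ : Submodule (ZMod 2) V) + finrank (ZMod 2) S' := by
          have e1 := LinearMap.finrank_range_add_finrank_ker ((T₀.mkQ.comp p.1).comp S.subtype)
          rw [LinearMap.range_comp, Submodule.range_subtype, LinearMap.ker_comp, LinearMap.ker_comp,
            Submodule.ker_mkQ, Submodule.map_comp] at e1
          have e2 : (T₀.comap p.1).comap S.subtype = S'.comap S.subtype := by
            rw [hS', Submodule.comap_inf, Submodule.comap_subtype_self, top_inf_eq]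
          rw [e2, (Submodule.comapSubtypeEquivOfLe (show S' ≤ S from inf_le_left)).finrank_eq] at e1
          have e3 := LinearMap.finrank_range_add_finrank_ker
            (T₀.mkQ.comp (S.map p.1 ⊔ T₀).subtype)
          rw [LinearMap.range_comp, Submodule.range_subtype, LinearMap.ker_comp, Submodule.ker_mkQ,
            Submodule.map_sup, show T₀.map T₀.mkQ = ⊥ from Submodule.mkQ_map_self T₀, sup_bot_eq,
            (Submodule.comapSubtypeEquivOfLe (le_sup_right : T₀ ≤ S.map p.1 ⊔ T₀)).finrank_eq] at e3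
          omega
        have hSZ : finrank (ZMod 2) (S' ⊓ Z : Submodule (ZMod 2) V) ≤
            finrank (ZMod 2) (S ⊓ Z : Submodule (ZMod 2) V) :=
          Submodule.finrank_mono (inf_le_inf_right _ inf_le_left)
        omega
    refine descent2 _ S₀ le_rfl (hS₀'.trans inf_le_left) hS₀J fun S₁ h₁ h₁G => ?_
    obtain ⟨H, hHmem, hHmax⟩ := Set.Finite.exists_maximalFor
      (fun U : Submodule (ZMod 2) V =>
        (finrank (ZMod 2) V + 1) * (finrank (ZMod 2) D.P + finrank (ZMod 2) U - rk D.P U) + finrank (ZMod 2) U)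
      {U : Submodule (ZMod 2) V | T₀ ≤ U ∧ U ≤ G} (Set.toFinite _) ⟨T₀, le_rfl, hT₀G⟩
    have hH : ∀ U, T₀ ≤ U → U ≤ G → finrank (ZMod 2) U + rk D.P H < finrank (ZMod 2) H + rk D.P U ∨
        (finrank (ZMod 2) U + rk D.P H = finrank (ZMod 2) H + rk D.P U ∧
          finrank (ZMod 2) U ≤ finrank (ZMod 2) H) := by
      intro U h1 h2
      by_contra hc
      push Not at hc
      have hb' := Submodule.finrank_le U
      have hb := Submodule.finrank_le H
      have hrkU := rk_add (P := D.P) U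
      have hrkH := rk_add (P := D.P) H
      rcases Nat.lt_or_ge (finrank (ZMod 2) H + rk D.P U) (finrank (ZMod 2) U + rk D.P H) with hgt | hle
      · have : (finrank (ZMod 2) V + 1) * (finrank (ZMod 2) D.P + finrank (ZMod 2) H - rk D.P H + 1) ≤
            (finrank (ZMod 2) V + 1) * (finrank (ZMod 2) D.P + finrank (ZMod 2) U - rk D.P U) :=
          Nat.mul_le_mul_left _ (by omega)
        rw [mul_add, mul_one] at this
        have h3 := hHmax (j := U) ⟨h1, h2⟩ (by simp only; omega)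
        simp only at h3
        omega
      · have heq : finrank (ZMod 2) U + rk D.P H = finrank (ZMod 2) H + rk D.P U := by
          rcases Nat.lt_or_ge (finrank (ZMod 2) U + rk D.P H) (finrank (ZMod 2) H + rk D.P U) with h | h
          · exact absurd h (not_lt.2 (hc.1))
          · omega
        have h4 := hc.2 heq
        have h5 : finrank (ZMod 2) D.P + finrank (ZMod 2) H - rk D.P H =
            finrank (ZMod 2) D.P + finrank (ZMod 2) U - rk D.P U := by omega
        have h3 := hHmax (j := U) ⟨h1, h2⟩ (by simp only; rw [h5]; omega)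
        simp only at h3
        rw [h5] at h3
        omega
    have hHi : ∀ l, ∀ v ∈ H, σ l v ∈ H := by
      intro l v hv
      set H' := H.map (σ l).toLinearMap with hH'
      have hfr : finrank (ZMod 2) H' = finrank (ZMod 2) H := LinearEquiv.finrank_map_eq (σ l) H
      have hrk' : rk D.P H' = rk D.P H := D.rk_map l H
      have hH'G : H' ≤ G := by rintro _ ⟨w, hw, rfl⟩; exact hGi l w (hHmem.2 hw)
      have hT₀H' : T₀ ≤ H' := fun t ht =>
        ⟨σ l⁻¹ t, hHmem.1 (hT₀i _ t ht), apply_apply_inv σ l t⟩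
      have h1 := hH _ (hHmem.1.trans (le_sup_left : H ≤ H ⊔ H')) (sup_le hHmem.2 hH'G)
      have h2 := hH _ (le_inf hHmem.1 hT₀H') (inf_le_left.trans hHmem.2)
      have h3 := rk_sup_add (P := D.P) H H'
      have h4 := Submodule.finrank_sup_add_finrank_inf_eq H H'
      have h5 : H ⊔ H' = H := (Submodule.eq_of_le_of_finrank_le le_sup_left (by omega)).symm
      exact h5.le (Submodule.mem_sup_right ⟨v, hv, rfl⟩)
    have hlayer := D.layer hYi hYi' hlt hmax hnt he he2 hT₀i hHi hHmem.1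
      (fun t ht => (hT₀mem.2 ht).1) hT₀mem.1 hdef
      fun p hp v hv => (hHmem.2 hv).2 p hp
    have hfin := hH _ (le_sup_right : T₀ ≤ S₁ ⊔ T₀) (sup_le h₁G hT₀G)
    have h3 := rk_sup_add (P := D.P) S₁ T₀
    have h4 := Submodule.finrank_sup_add_finrank_inf_eq S₁ T₀
    have h5 : S₁ ⊓ T₀ ≤ S₁ ⊓ Z := fun v hv =>
      ⟨hv.1, D.mid ((h₁.trans hS₀') hv.1).2 (hT₀mem.2 hv.2).1⟩
    have h6 := Submodule.finrank_mono h5
    omega

end Induction

end Cfsg.Agent.S3Free
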