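/-
The minimal configuration: a tight offender and a conjugate generating a subgroup that moves
a subspace fixed by the offender.
-/
import Cfsg.Agent.Lib.S3Free.Stable
import Cfsg.Agent.Lib.S3Free.Rep
import Cfsg.Agent.Lib.S3Free.Quad

set_option autoImplicit false
set_option linter.unusedSectionVars false
set_option linter.style.haveILetI false
set_option maxHeartbeats 1000000

namespace Cfsg.Agent.S3Free

open Module

universe u

variable {L : Type u} [Group L] {V : Type u} [AddCommGroup V] [Module (ZMod 2) V]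
variable [Finite L] [Finite V] (σ : L →* (V ≃ₗ[ZMod 2] V))

/-- The action of the whole group on an invariant subspace. -/
def resTop (U : Submodule (ZMod 2) V) (h : ∀ l, ∀ v ∈ U, σ l v ∈ U) : L →* (U ≃ₗ[ZMod 2] U) :=
  (res σ ⊤ U fun l _ => mem_stab_of_mem σ (h l)).comp
    (Subgroup.topEquiv (G := L)).symm.toMonoidHom

theorem resTop_apply (U : Submodule (ZMod 2) V) (h : ∀ l, ∀ v ∈ U, σ l v ∈ U) (l : L) (v : U) :
    ((resTop σ U h l v : U) : V) = σ l (v : V) := rfl

/-- The action of the whole group on a quotient. -/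
def quoTop (T : Submodule (ZMod 2) V) (h : ∀ l, ∀ v ∈ T, σ l v ∈ T) :
    L →* ((V ⧸ T) ≃ₗ[ZMod 2] (V ⧸ T)) :=
  (quo σ ⊤ T fun l _ => mem_stab_of_mem σ (h l)).comp
    (Subgroup.topEquiv (G := L)).symm.toMonoidHom

theorem quoTop_mk (T : Submodule (ZMod 2) V) (h : ∀ l, ∀ v ∈ T, σ l v ∈ T) (l : L) (v : V) :
    quoTop σ T h l (Submodule.Quotient.mk v) = Submodule.Quotient.mk (σ l v) := rfl

/-- The elements acting trivially on a section. -/
def secKer (T S : Submodule (ZMod 2) V) (hT : ∀ l, ∀ v ∈ T, σ l v ∈ T)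
    (hS : ∀ l, ∀ v ∈ S, σ l v ∈ S) : Subgroup L where
  carrier := {l | ∀ v ∈ S, σ l v + v ∈ T}
  one_mem' := fun v _ => by rw [map_one, LinearEquiv.coe_one, id_eq, add_self]; exact T.zero_mem
  mul_mem' := fun {a b} ha hb v hv => by
    rw [apply_mul, show σ a (σ b v) + v = σ a (σ b v + v) + (σ a v + v) by rw [map_add, add_cancel4]]
    exact T.add_mem (hT a _ (hb v hv)) (ha v hv)
  inv_mem' := fun {a} ha v hv => by
    have := hT a⁻¹ _ (ha v hv)
    rwa [map_add, apply_inv_apply, add_comm] at this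

theorem secKer_normal (T S : Submodule (ZMod 2) V) (hT : ∀ l, ∀ v ∈ T, σ l v ∈ T)
    (hS : ∀ l, ∀ v ∈ S, σ l v ∈ S) : (secKer σ T S hT hS).Normal := by
  refine ⟨fun a ha g v hv => ?_⟩
  have h1 := hT g _ (ha _ (hS g⁻¹ v hv))
  rwa [map_add, apply_apply_inv, ← apply_mul, ← apply_mul] at h1

/-- A group with a fixed vector on a simple section acts trivially on it. -/
theorem le_modFix_of_fixed {T S : Submodule (ZMod 2) V} (hT : ∀ l, ∀ v ∈ T, σ l v ∈ T)
    (hTS : T < S)
    (hsimple : ∀ U : Submodule (ZMod 2) V, (∀ l, ∀ v ∈ U, σ l v ∈ U) → T < U → U ≤ S → U = S)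
    (hS : ∀ l, ∀ v ∈ S, σ l v ∈ S) {s : V} (hs : s ∈ S) (hsT : s ∉ T) (hfix : s ∈ modFix σ T ⊤) :
    S ≤ modFix σ T ⊤ := by
  have hMi : ∀ l, ∀ v ∈ modFix σ T ⊤, σ l v ∈ modFix σ T ⊤ := fun l v hv m hm => by
    have h1 := hv (m * l) (Subgroup.mem_top _)
    have h2 := T.add_mem h1 (hv l (Subgroup.mem_top _))
    rwa [apply_mul, show σ m (σ l v) + v + (σ l v + v) = σ m (σ l v) + σ l v + (v + v) by abel,
      add_self, add_zero] at h2
  have h := hsimple (S ⊓ modFix σ T ⊤) (fun l v hv => ⟨hS l v hv.1, hMi l v hv.2⟩)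
    (lt_of_le_of_ne (le_inf hTS.le fun t ht l _ => T.add_mem (hT l t ht) ht)
      fun he => hsT (he.symm.le ⟨hs, hfix⟩)) inf_le_left
  exact h.symm.le.trans inf_le_right

variable {σ}

/-- A nontrivial simple section for a minimal pair. -/
theorem small_section {n : ℕ} (hn : FFBelow.{u} n) (h3 : NoS3 L)
    (hlt : Nat.card L + finrank (ZMod 2) V < n) {A : Subgroup L} (hEl : El A) {x : L}
    (hgen : A ⊔ cjS x A = ⊤)
    (hquad : ∀ a ∈ A, ∀ b ∈ A, ∀ v : V, σ b (σ a v + v) = σ a v + v)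
    {M R : Subgroup L} (hM : M ≠ ⊤) (hsub : ∀ K : Subgroup L, A ≤ K → K ≠ ⊤ → K ≤ M)
    (hR : ∀ N : Subgroup L, N.Normal → IsPGroup 2 N → N ≤ R)
    {T S : Submodule (ZMod 2) V} (hT : ∀ l, ∀ v ∈ T, σ l v ∈ T) (hS : ∀ l, ∀ v ∈ S, σ l v ∈ S)
    (hTS : T < S)
    (hsimple : ∀ U : Submodule (ZMod 2) V, (∀ l, ∀ v ∈ U, σ l v ∈ U) → T < U → U ≤ S → U = S)
    (hnt : ¬ S ≤ modFix σ T ⊤) :
    (∀ a ∈ A, (∀ v ∈ S, σ a v + v ∈ T) → a ∈ R) ∧
      2 * dA A + finrank (ZMod 2) T < finrank (ZMod 2) S + 2 * dA (A ⊓ R) := by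
  classical
  set N := secKer σ T S hT hS with hN
  haveI hNn : N.Normal := secKer_normal σ T S hT hS
  have hnA : ¬ A ≤ N := by
    intro hle
    refine hnt fun v hv l _ => ?_
    have : A ⊔ cjS x A ≤ N := sup_le hle fun b hb => by
      have h2 := hNn.conj_mem _ (hle (mem_cjS.1 hb)) x
      rwa [show x * (x⁻¹ * b * x) * x⁻¹ = b by group] at h2
    rw [hgen] at this
    exact this (Subgroup.mem_top l) v hv
  have hNA : N ⊔ A ≠ ⊤ := by
    intro he
    obtain ⟨s, hs, hsT, hsf⟩ := exists_fixed_mod σ hEl.isPGroup hTS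
      (fun a _ => mem_stab_of_mem σ (hT a)) (fun a _ => mem_stab_of_mem σ (hS a))
    refine hnt (le_modFix_of_fixed σ hT hTS hsimple hS hs hsT ?_)
    rw [← he]
    exact modFix_sup σ hT (fun l hl => hl s hs) hsf
  have hB : A ⊓ N ≤ R := by
    obtain ⟨P, hP⟩ := (hEl.isPGroup).exists_le_sylow
    set T₀ : Subgroup L := (P : Subgroup L) ⊓ N with hT₀
    have hidx : ¬ 2 ∣ ((P : Subgroup L).subgroupOf N).index := by
      intro h
      refine P.not_dvd_index (h.trans ?_)
      have h1 := Subgroup.relIndex_mul_relIndex ((P : Subgroup L) ⊓ N) (P : Subgroup L)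
        ((P : Subgroup L) ⊔ N) inf_le_left le_sup_left
      have h2 := Subgroup.relIndex_mul_relIndex ((P : Subgroup L) ⊓ N) N
        ((P : Subgroup L) ⊔ N) inf_le_right le_sup_right
      rw [Subgroup.inf_relIndex_left] at h1
      rw [Subgroup.inf_relIndex_right, Subgroup.relIndex_sup_right, ← h1, mul_comm] at h2
      have h3 : N.relIndex (P : Subgroup L) ≠ 0 := Subgroup.index_ne_zero_of_finite
      change (P : Subgroup L).relIndex N ∣ _
      rw [Nat.eq_of_mul_eq_mul_left (Nat.pos_of_ne_zero h3) h2]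
      exact Subgroup.relIndex_dvd_index_of_le le_sup_left
    let Q : Sylow 2 N := IsPGroup.toSylow (P := (P : Subgroup L).subgroupOf N)
      (P.2.comap_of_injective N.subtype N.subtype_injective) hidx
    have hQ : (Q : Subgroup N).map N.subtype = T₀ := by
      change ((P : Subgroup L).subgroupOf N).map N.subtype = T₀
      rw [Subgroup.subgroupOf, Subgroup.map_comap_eq, Subgroup.range_subtype, inf_comm]
    have hfr := Sylow.normalizer_sup_eq_top Q
    rw [hQ] at hfr
    have hAn : A ≤ Subgroup.normalizer (T₀ : Set L) := fun a ha =>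
      Subgroup.mem_normalizer_fintype fun t ht =>
        ⟨(P : Subgroup L).mul_mem ((P : Subgroup L).mul_mem (hP ha) ht.1)
          ((P : Subgroup L).inv_mem (hP ha)), hNn.conj_mem t ht.2 a⟩
    have htop : Subgroup.normalizer (T₀ : Set L) = ⊤ := by
      by_contra h
      exact hM (top_le_iff.1 (hfr.symm.le.trans (sup_le (hsub _ hAn h)
        (le_sup_left.trans (hsub _ le_sup_right hNA)))))
    have hT₀n : T₀.Normal := Subgroup.normalizer_eq_top_iff.1 htop
    exact le_trans (show A ⊓ N ≤ T₀ from fun a ha => ⟨hP ha.1, ha.2⟩)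
      (hR T₀ hT₀n (P.2.to_le inf_le_left))
  refine ⟨fun a ha h => hB ⟨ha, h⟩, ?_⟩
  set C := S ⊓ modFix σ T A with hC
  set CB := C.map (σ x).toLinearMap with hCB
  have hTC : T ≤ C := le_inf hTS.le fun t ht a _ => T.add_mem (hT a t ht) ht
  have hCBS : CB ≤ S := by rintro _ ⟨v, hv, rfl⟩; exact hS _ v hv.1
  have hfull : S ≤ C ⊔ CB := by
    set U := Submodule.span (ZMod 2) ((T : Set V) ∪ {w | ∃ v ∈ S, ∃ a ∈ A, w = σ a v + v} ∪
      {w | ∃ v ∈ S, ∃ b ∈ cjS x A, w = σ b v + v}) with hU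
    have hmemA : ∀ v ∈ S, ∀ a ∈ A, σ a v + v ∈ U := fun v hv a ha =>
      Submodule.subset_span (Or.inl (Or.inr ⟨v, hv, a, ha, rfl⟩))
    have hmemB : ∀ v ∈ S, ∀ b ∈ cjS x A, σ b v + v ∈ U := fun v hv b hb =>
      Submodule.subset_span (Or.inr ⟨v, hv, b, hb, rfl⟩)
    have hTU : T ≤ U := fun t ht => Submodule.subset_span (Or.inl (Or.inl ht))
    have hUS : U ≤ S := by
      refine Submodule.span_le.2 ?_
      rintro w ((hw | ⟨v, hv, a, -, rfl⟩) | ⟨v, hv, b, -, rfl⟩)
      · exact hTS.le hw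
      · exact S.add_mem (hS a v hv) hv
      · exact S.add_mem (hS b v hv) hv
    have hUC : U ≤ C ⊔ CB := by
      refine Submodule.span_le.2 ?_
      rintro w ((hw | ⟨v, hv, a, ha, rfl⟩) | ⟨v, hv, b, hb, rfl⟩)
      · exact Submodule.mem_sup_left (hTC hw)
      · exact Submodule.mem_sup_left ⟨S.add_mem (hS a v hv) hv, fun c hc => by
          rw [hquad a ha c hc v, add_self]; exact T.zero_mem⟩
      · refine Submodule.mem_sup_right ⟨σ (x⁻¹ * b * x) (σ x⁻¹ v) + σ x⁻¹ v, ⟨?_, fun c hc => ?_⟩, ?_⟩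
        · exact S.add_mem (hS _ _ (hS _ v hv)) (hS _ v hv)
        · rw [hquad _ (mem_cjS.1 hb) c hc, add_self]; exact T.zero_mem
        · change σ x (σ (x⁻¹ * b * x) (σ x⁻¹ v) + σ x⁻¹ v) = σ b v + v
          rw [map_add, apply_apply_inv, ← apply_mul, ← apply_mul]
          simp [mul_assoc]
    have hUi : ∀ l, ∀ v ∈ U, σ l v ∈ U := by
      intro l v hv
      have hl : v ∈ modFix σ U ⊤ → σ l v ∈ U := fun h => by
        have := U.add_mem (h l (Subgroup.mem_top l)) hv
        rwa [add_assoc, add_self, add_zero] at this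
      refine hl fun m hm => ?_
      rw [← hgen, show A ⊔ cjS x A = Subgroup.closure (↑A ∪ ↑(cjS x A)) by
        rw [Subgroup.closure_union, Subgroup.closure_eq, Subgroup.closure_eq]] at hm
      suffices h : ∀ w ∈ S, σ m w + w ∈ U from h v (hUS hv)
      induction hm using Subgroup.closure_induction with
      | mem b hb => exact fun w hw => hb.elim (hmemA w hw b) (hmemB w hw b)
      | one => intro w _; simp [add_self]
      | mul a b _ _ ha hb =>
        intro w hw
        have := U.add_mem (ha _ (hS b w hw)) (hb w hw)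
        rwa [add_cancel4, ← apply_mul] at this
      | inv a _ ha =>
        intro w hw
        have := ha _ (hS a⁻¹ w hw)
        rwa [apply_apply_inv, add_comm] at this
    rcases hTU.eq_or_lt with he | hlt'
    · exfalso
      exact hnA fun a ha v hv => he.symm.le (hmemA v hv a ha)
    · exact (hsimple U hUi hlt' hUS).symm.le.trans hUC
  have hhalf : finrank (ZMod 2) S + finrank (ZMod 2) T ≤ 2 * finrank (ZMod 2) C := by
    have h1 := Submodule.finrank_sup_add_finrank_inf_eq C CB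
    have h2 := Submodule.finrank_mono hfull
    have h4 : T ≤ C ⊓ CB := le_inf hTC fun t ht => ⟨σ x⁻¹ t, hTC (hT _ t ht), apply_apply_inv σ x t⟩
    have h5 := Submodule.finrank_mono h4
    have h6 : finrank (ZMod 2) CB = finrank (ZMod 2) C := LinearEquiv.finrank_map_eq (σ x) C
    omega
  set τ := quoTop σ T hT with hτ
  set U := S.map T.mkQ with hU
  haveI : Finite (V ⧸ T) := Quotient.finite _
  have hUi : ∀ l, ∀ q ∈ U, τ l q ∈ U := by
    rintro l _ ⟨v, hv, rfl⟩
    exact ⟨σ l v, hS l v hv, rfl⟩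
  have hI : IrrOn τ ⊤ U := by
    refine ⟨fun l _ => mem_stab_of_mem τ (hUi l), fun hb => hTS.not_ge fun v hv => ?_, fun U' hU' hst => ?_⟩
    · have : T.mkQ v ∈ U := ⟨v, hv, rfl⟩
      rw [hb, Submodule.mem_bot] at this
      exact (Submodule.Quotient.mk_eq_zero T).1 this
    · have hTU : T ≤ U'.comap T.mkQ := fun t ht => by
        change T.mkQ t ∈ U'
        rw [Submodule.mkQ_apply, (Submodule.Quotient.mk_eq_zero T).2 ht]
        exact U'.zero_mem
      rcases hTU.eq_or_lt with he | hlt'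
      · left
        rw [← Submodule.map_comap_eq_of_surjective T.mkQ_surjective U', ← he]
        exact Submodule.mkQ_map_self T
      · right
        have hle : U'.comap T.mkQ ≤ S := fun v hv => by
          obtain ⟨w, hw, hwv⟩ := hU' hv
          have h1 : w - v ∈ T := (Submodule.Quotient.eq T).1 hwv
          have h2 := S.sub_mem hw (hTS.le h1)
          rwa [sub_sub_cancel] at h2
        rw [← Submodule.map_comap_eq_of_surjective T.mkQ_surjective U',
          hsimple _ (fun l v hv => apply_mem_of_stab τ (hst (Subgroup.mem_top l)) hv) hlt' hle]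
  have hdimU : finrank (ZMod 2) U + finrank (ZMod 2) T = finrank (ZMod 2) S := by
    have h5 := LinearMap.finrank_range_add_finrank_ker (T.mkQ.comp S.subtype)
    rw [LinearMap.range_comp, Submodule.range_subtype, LinearMap.ker_comp, Submodule.ker_mkQ] at h5
    rw [(Submodule.comapSubtypeEquivOfLe hTS.le).finrank_eq] at h5
    exact h5
  have hdimC : finrank (ZMod 2) (U ⊓ fx τ A : Submodule (ZMod 2) (V ⧸ T)) + finrank (ZMod 2) T =
      finrank (ZMod 2) C := by
    have he : U ⊓ fx τ A = C.map T.mkQ := by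
      refine le_antisymm ?_ ?_
      · rintro _ ⟨⟨v, hv, rfl⟩, hf⟩
        refine ⟨v, ⟨hv, fun a ha => ?_⟩, rfl⟩
        have h1 := hf a ha
        rw [Submodule.mkQ_apply, quoTop_mk, Submodule.Quotient.eq, sub_eq_add] at h1
        exact h1
      · rintro _ ⟨v, hv, rfl⟩
        refine ⟨⟨v, hv.1, rfl⟩, fun a ha => ?_⟩
        rw [Submodule.mkQ_apply, quoTop_mk, Submodule.Quotient.eq, sub_eq_add]
        exact hv.2 a ha
    have h5 := LinearMap.finrank_range_add_finrank_ker (T.mkQ.comp C.subtype)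
    rw [LinearMap.range_comp, Submodule.range_subtype, LinearMap.ker_comp, Submodule.ker_mkQ] at h5
    rw [(Submodule.comapSubtypeEquivOfLe hTC).finrank_eq] at h5
    rw [he]
    exact h5
  have hfixN : ∀ a, a ∈ fixer τ U ↔ a ∈ N := by
    intro a
    constructor
    · intro h v hv
      have h1 := h _ ⟨v, hv, rfl⟩
      rwa [Submodule.mkQ_apply, quoTop_mk, Submodule.Quotient.eq, sub_eq_add] at h1
    · rintro h _ ⟨v, hv, rfl⟩
      rw [Submodule.mkQ_apply, quoTop_mk, Submodule.Quotient.eq, sub_eq_add]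
      exact h v hv
  have hb := hn.bound h3 (ρ := τ) (H := ⊤) (U := U) hI (by
      have := Submodule.finrank_le S
      rw [Subgroup.card_top]
      omega) le_top hEl (fun hle => hnA fun a ha => (hfixN a).1 (hle ha))
  have hd : dA (A ⊓ fixer τ U) ≤ dA (A ⊓ R) :=
    dA_mono fun a ha => ⟨ha.1, hB ⟨ha.1, (hfixN a).1 ha.2⟩⟩
  omega

variable (σ)

/-- The elements of `R` moving `W` into `Z` only. -/
def intoGrp (R : Subgroup L) (W Z : Submodule (ZMod 2) V) (hZ : ∀ r ∈ R, ∀ z ∈ Z, σ r z = z) :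
    Subgroup L where
  carrier := {g | g ∈ R ∧ ∀ w ∈ W, σ g w + w ∈ Z}
  one_mem' := ⟨R.one_mem, fun w _ => by rw [map_one, LinearEquiv.coe_one, id_eq, add_self]; exact Z.zero_mem⟩
  mul_mem' := fun {a b} ha hb => ⟨R.mul_mem ha.1 hb.1, fun w hw => by
    rw [apply_mul, show σ a (σ b w) + w = σ a (σ b w + w) + (σ a w + w) by rw [map_add, add_cancel4],
      hZ a ha.1 _ (hb.2 w hw)]
    exact Z.add_mem (hb.2 w hw) (ha.2 w hw)⟩
  inv_mem' := fun {a} ha => ⟨R.inv_mem ha.1, fun w hw => by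
    have := hZ a⁻¹ (R.inv_mem ha.1) _ (ha.2 w hw)
    rw [map_add, apply_inv_apply, add_comm] at this
    rw [this]
    exact ha.2 w hw⟩

variable {σ}

/-- **The core**: the minimal pair yields an offender on the moved subspace. -/
theorem core_aux {n : ℕ} (hn : FFBelow.{u} n) (h3 : NoS3 L)
    (hlt : Nat.card L + finrank (ZMod 2) V < n) {A : Subgroup L} (hEl : El A)
    (hquad : ∀ a ∈ A, ∀ b ∈ A, ∀ v : V, σ b (σ a v + v) = σ a v + v)
    (hbest : ∀ Y : Submodule (ZMod 2) V, finrank (ZMod 2) Y + dA (A ⊓ fixer σ Y) ≤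
      dA A + finrank (ZMod 2) (Y ⊓ fx σ A : Submodule (ZMod 2) V))
    {c : Submodule (ZMod 2) V} (hfix : A ≤ fixer σ c)
    (hsub : ∀ K : Subgroup L, A ≤ K → K ≠ ⊤ → K ≤ stab σ c)
    (hdich : ∀ l, cjS l A ≤ stab σ c → cjS l A ≤ fixer σ c)
    (hbad : ∃ l, ¬ cjS l A ≤ stab σ c) (hL : ¬ IsPGroup 2 L) :
    ∃ (G : Subgroup L) (h : G ≤ stab σ c), (∀ g ∈ G, ∀ u ∈ c, σ (g * g) u = u) ∧ ¬ G ≤ fixer σ c ∧
      finrank (ZMod 2) c ≤ dA (res σ G c h).range + finrank (ZMod 2) (c ⊓ fx σ G : Submodule (ZMod 2) V) := by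
  classical
  obtain ⟨x, hx⟩ := hbad
  have hM : stab σ c ≠ ⊤ := fun h => hx (h ▸ le_top)
  have hgen : A ⊔ cjS x A = ⊤ := by
    by_contra h
    exact hx (le_sup_right.trans (hsub _ le_sup_left h))
  obtain ⟨P₀⟩ : Nonempty (Sylow 2 L) := inferInstance
  set R := (P₀ : Subgroup L).normalCore with hR
  have hR2 : IsPGroup 2 R := P₀.2.to_le (Subgroup.normalCore_le _)
  haveI hRn : R.Normal := Subgroup.normalCore_normal _
  have hRmax : ∀ N : Subgroup L, N.Normal → IsPGroup 2 N → N ≤ R := by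
    intro N hN hN2
    haveI := hN
    refine Subgroup.normal_le_normalCore.2 ?_
    obtain ⟨P, hP⟩ := hN2.exists_le_sylow
    obtain ⟨g, hg⟩ := MulAction.exists_smul_eq L P P₀
    intro m hm
    have h1 : g⁻¹ * m * g ∈ (P : Subgroup L) := hP (by
      have := hN.conj_mem m hm g⁻¹
      rwa [inv_inv] at this)
    rw [← hg, Sylow.coe_subgroup_smul]
    exact Subgroup.mem_pointwise_smul_iff_inv_smul_mem.2 (by
      simpa [MulAut.conj_symm_apply] using h1)
  have hRM : R ≤ stab σ c := by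
    refine le_trans le_sup_left (hsub (R ⊔ A) le_sup_right fun h => hL ?_)
    have := hR2.to_sup_of_normal_left hEl.isPGroup
    rw [h] at this
    exact this.of_equiv Subgroup.topEquiv
  set Z := fx σ (⊤ : Subgroup L) with hZdef
  set W := Submodule.span (ZMod 2) {w | ∃ l, ∃ u ∈ c, w = σ l u} ⊔ Z with hW
  have hWi : ∀ l, ∀ v ∈ W, σ l v ∈ W := by
    intro l v hv
    suffices h : W ≤ W.comap (σ l).toLinearMap from h hv
    refine sup_le (Submodule.span_le.2 ?_) fun z hz => ?_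
    · rintro w ⟨m, u, hu, rfl⟩
      exact Submodule.mem_sup_left (Submodule.subset_span ⟨l * m, u, hu, (apply_mul σ l m u).symm⟩)
    · change σ l z ∈ W
      rw [hz l (Subgroup.mem_top l)]
      exact Submodule.mem_sup_right hz
  have hcW : c ≤ W := fun u hu =>
    Submodule.mem_sup_left (Submodule.subset_span ⟨1, u, hu, by rw [map_one]; rfl⟩)
  have hZR : ∀ r ∈ R, ∀ z ∈ Z, σ r z = z := fun r _ z hz => hz r (Subgroup.mem_top r)
  set G := intoGrp σ R W Z hZR with hG
  -- the magic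
  have hmagic : ∀ l, ∀ r ∈ cjS l A, r ∈ R → ∀ u ∈ c, σ r u + u ∈ Z := by
    intro l r hr hrR u hu
    have hru : σ r u ∈ c := apply_mem_of_stab σ (hRM hrR) hu
    by_cases hl : cjS l A ≤ stab σ c
    · rw [hdich l hl hr u hu, add_self]; exact Z.zero_mem
    · have ht : A ⊔ cjS l A = ⊤ := by
        by_contra h
        exact hl (le_sup_right.trans (hsub _ le_sup_left h))
      rw [hZdef, ← ht, fx_sup]
      refine ⟨fun a ha => hfix ha _ (c.add_mem hru hu), fun b hb => ?_⟩
      have h1 := congrArg (σ l) (hquad _ (mem_cjS.1 hr) _ (mem_cjS.1 hb) (σ l⁻¹ u))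
      simp only [map_add, ← apply_mul, mul_assoc, mul_inv_cancel_left, mul_inv_cancel, mul_one,
        map_one, LinearEquiv.coe_one, id_eq] at h1
      rw [map_add, ← apply_mul]
      exact h1
  have hAG : A ⊓ R ≤ G := by
    intro a ha
    refine ⟨ha.2, fun w hw => ?_⟩
    suffices h : W ≤ Z.comap ((σ a).toLinearMap + LinearMap.id) from h hw
    refine sup_le (Submodule.span_le.2 ?_) fun z hz => ?_
    · rintro w ⟨l, u, hu, rfl⟩
      change σ a (σ l u) + σ l u ∈ Z
      have h1 := hmagic l⁻¹ (l⁻¹ * a * l) (mem_cjS.2 (by simpa [mul_assoc] using ha.1))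
        (by have := hRn.conj_mem a ha.2 l⁻¹; rwa [inv_inv] at this) u hu
      rw [show σ a (σ l u) + σ l u = σ l (σ (l⁻¹ * a * l) u + u) by
        rw [map_add, ← apply_mul, ← apply_mul]; simp [mul_assoc], h1 l (Subgroup.mem_top l)]
      exact h1
    · change σ a z + z ∈ Z
      rw [hZR a ha.2 z hz, add_self]; exact Z.zero_mem
  set σW := resTop σ W hWi with hσW
  haveI : Finite (End (ZMod 2) W) := Finite.of_injective (fun f => (f : W → W)) DFunLike.coe_injective
  let P : Submodule (ZMod 2) (End (ZMod 2) W) :=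
    { carrier := {f | ∃ g ∈ G, ∀ w : W, (f w : V) = σ g w + w}
      add_mem' := by
        rintro f₁ f₂ ⟨g₁, hg₁, h₁⟩ ⟨g₂, hg₂, h₂⟩
        refine ⟨g₁ * g₂, G.mul_mem hg₁ hg₂, fun w => ?_⟩
        have h4 := hZR g₁ hg₁.1 _ (hg₂.2 w w.2)
        rw [map_add] at h4
        rw [LinearMap.add_apply, Submodule.coe_add, h₁, h₂, apply_mul]
        calc σ g₁ (w : V) + (w : V) + (σ g₂ w + w)
            = σ g₁ (w : V) + (w : V) + (σ g₁ (σ g₂ w) + σ g₁ w) := by rw [h4]
          _ = σ g₁ (σ g₂ w) + w + (σ g₁ (w : V) + σ g₁ w) := by abel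
          _ = _ := by rw [add_self, add_zero]
      zero_mem' := ⟨1, G.one_mem, fun w => by simp [add_self]⟩
      smul_mem' := by
        rintro k f ⟨g, hg, h⟩
        rcases (by decide : ∀ k : ZMod 2, k = 0 ∨ k = 1) k with rfl | rfl
        · exact ⟨1, G.one_mem, fun w => by simp [add_self]⟩
        · exact ⟨g, hg, fun w => by rw [one_smul]; exact h w⟩ }
  have hfxW : ∀ (H : Subgroup L) (w : W), w ∈ fx σW H ↔ (w : V) ∈ fx σ H := fun H w =>
    ⟨fun h l hl => congrArg Subtype.val (h l hl), fun h l hl => Subtype.ext (h l hl)⟩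
  let D : SData σW :=
    { A := A, x := x, R := R, P := P, el := hEl, gen := hgen
      quad := fun a ha b hb v => Subtype.ext (hquad a ha b hb v)
      best := fun Y => by
        have h := hbest (Y.map W.subtype)
        have e1 : finrank (ZMod 2) (Y.map W.subtype) = finrank (ZMod 2) Y :=
          ((Submodule.equivMapOfInjective W.subtype Subtype.val_injective Y).finrank_eq).symm
        have e2 : fixer σW Y = fixer σ (Y.map W.subtype) := by
          ext l
          constructor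
          · rintro h _ ⟨v, hv, rfl⟩; exact congrArg Subtype.val (h v hv)
          · exact fun h v hv => Subtype.ext (h v ⟨v, hv, rfl⟩)
        have e3 : (Y ⊓ fx σW A).map W.subtype = Y.map W.subtype ⊓ fx σ A := by
          ext v
          constructor
          · rintro ⟨w, ⟨h1, h2⟩, rfl⟩; exact ⟨⟨w, h1, rfl⟩, (hfxW A w).1 h2⟩
          · rintro ⟨⟨w, h1, rfl⟩, h2⟩; exact ⟨w, ⟨h1, (hfxW A w).2 h2⟩, rfl⟩
        have e4 := (Submodule.equivMapOfInjective W.subtype Subtype.val_injective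
          (Y ⊓ fx σW A)).finrank_eq
        rw [e3] at e4
        rw [e1] at h
        rw [e2]
        omega
      rangeP := by
        rintro f ⟨g, hg, h⟩ v
        rw [hfxW, h]
        exact hg.2 v v.2
      killP := by
        rintro f ⟨g, hg, h⟩ v hv
        refine Subtype.ext ?_
        have h' : σ g (v : V) = (v : V) := hZR g hg.1 _ ((hfxW ⊤ v).1 hv)
        rw [h]
        exact (congrArg (fun y => y + (v : V)) h').trans (add_self _)
      compP := by
        rintro f ⟨g, hg, h⟩ l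
        refine ⟨l⁻¹ * g * l, ⟨?_, fun w hw => ?_⟩, fun w => ?_⟩
        · have := hRn.conj_mem g hg.1 l⁻¹
          rwa [inv_inv] at this
        · have h1 := hg.2 _ (hWi l w hw)
          have h2 := h1 l⁻¹ (Subgroup.mem_top _)
          rw [show σ (l⁻¹ * g * l) w + w = σ l⁻¹ (σ g (σ l w) + σ l w) by
            rw [map_add, ← apply_mul, ← apply_mul, apply_inv_apply, mul_assoc], h2]
          exact h1
        · change ((f (σW l w) : W) : V) = _
          rw [h]
          change σ g (σ l (w : V)) + σ l (w : V) = _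
          have h2 := hg.2 _ (hWi l w w.2) l⁻¹ (Subgroup.mem_top _)
          rw [← h2, map_add, ← apply_mul, ← apply_mul, apply_inv_apply, mul_assoc]
      memP := fun a ha => ⟨a, hAG ha, fun w => rfl⟩
      small := fun T S hT hS hTS hsimple hnt => small_section hn h3 (by
          have := Submodule.finrank_le W
          omega) hEl hgen (fun a ha b hb v => Subtype.ext (hquad a ha b hb v)) hM hsub hRmax hT hS hTS
        hsimple hnt }
  set c' := c.comap W.subtype with hc'
  have hfull := D.full _ (⊤ : Submodule (ZMod 2) W) le_rfl le_top (fun l v _ => Submodule.mem_top) c'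
    fun u hu => ⟨Submodule.mem_top, (hfxW A u).2 fun a ha => hfix ha _ hu⟩
  have hGM : G ≤ stab σ c := fun g hg => hRM hg.1
  have hcd : finrank (ZMod 2) c' = finrank (ZMod 2) c :=
    (Submodule.comapSubtypeEquivOfLe hcW).finrank_eq
  have hfxG : finrank (ZMod 2) (c' ⊓ fx σW ⊤ : Submodule (ZMod 2) W) ≤
      finrank (ZMod 2) (c ⊓ fx σ G : Submodule (ZMod 2) V) := by
    rw [(Submodule.equivMapOfInjective W.subtype Subtype.val_injective _).finrank_eq]
    refine Submodule.finrank_mono ?_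
    rintro _ ⟨u, hu, rfl⟩
    exact ⟨hu.1, fun g _ => (hfxW ⊤ u).1 hu.2 g (Subgroup.mem_top g)⟩
  have hsq : ∀ g ∈ G, ∀ u ∈ c, σ (g * g) u = u := by
    intro g hg u hu
    have h := hZR g hg.1 _ (hg.2 u (hcW hu))
    rw [map_add] at h
    rw [apply_mul]
    calc σ g (σ g u) = σ g (σ g u) + σ g u + σ g u := by rw [add_assoc, add_self, add_zero]
      _ = u := by rw [h, add_comm (σ g u) u, add_assoc, add_self, add_zero]
  have hne : ¬ G ≤ fixer σ c := by
    intro hle
    have h0 : rk D.P c' = 0 := by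
      refine rk_eq_zero ?_
      rintro f ⟨g, hg, h⟩ v hv
      refine Subtype.ext ?_
      have h' : σ g (v : V) = (v : V) := hle hg _ hv
      rw [h]
      exact (congrArg (fun y => y + (v : V)) h').trans (add_self _)
    rw [h0, zero_add] at hfull
    have heq : c' ⊓ fx σW ⊤ = c' := Submodule.eq_of_le_of_finrank_le inf_le_left hfull
    refine hM (eq_top_iff.2 fun l _ => mem_stab_of_mem σ fun u hu => ?_)
    have h1 := (hfxW ⊤ _).1 (heq.symm.le (show (⟨u, hcW hu⟩ : W) ∈ c' from hu)).2 l (Subgroup.mem_top l)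
    rw [show σ l u = u from h1]
    exact hu
  refine ⟨G, hGM, hsq, hne, ?_⟩
  haveI : Finite (c ≃ₗ[ZMod 2] c) := Finite.of_injective (fun e => (e : c → c)) DFunLike.coe_injective
  haveI : Finite (c' →ₗ[ZMod 2] W) := Finite.of_injective (fun e => (e : c' → W)) DFunLike.coe_injective
  set r := res σ G c hGM with hr
  have hElr : El r.range := by
    rintro _ ⟨g, rfl⟩
    refine LinearEquiv.ext fun u => Subtype.ext ?_
    rw [← map_mul]
    exact hsq _ g.2 u u.2
  set rest : End (ZMod 2) W →ₗ[ZMod 2] (c' →ₗ[ZMod 2] W) := LinearMap.lcomp (ZMod 2) W c'.subtype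
    with hrest
  have hrk : 2 ^ rk D.P c' ≤ 2 ^ dA r.range := by
    rw [← hElr.card]
    have hdef : ∀ g : G, ∀ u : c', σ (g : L) ((u : W) : V) + ((u : W) : V) ∈ W :=
      fun g u => W.add_mem (hWi _ _ (u : W).2) (u : W).2
    let δ : G → (c' →ₗ[ZMod 2] W) := fun g => rest ((σW (g : L)).toLinearMap + 1)
    have hδ : ∀ g₁ g₂ : G, r g₁ = r g₂ → δ g₁ = δ g₂ := by
      intro g₁ g₂ he
      refine LinearMap.ext fun u => Subtype.ext ?_
      change σ (g₁ : L) ((u : W) : V) + ((u : W) : V) = σ (g₂ : L) ((u : W) : V) + ((u : W) : V)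
      have h1 := congrArg Subtype.val (LinearEquiv.congr_fun he ⟨((u : W) : V), u.2⟩)
      rw [res_apply, res_apply] at h1
      rw [h1]
    have hδP : ∀ g : G, δ g ∈ D.P.map rest := fun g => ⟨_, ⟨g, g.2, fun w => rfl⟩, rfl⟩
    let F : r.range → D.P.map rest := fun e => ⟨δ e.2.choose, hδP _⟩
    have hF : Function.Surjective F := by
      rintro ⟨_, f, ⟨g, hg, h⟩, rfl⟩
      refine ⟨⟨r ⟨g, hg⟩, ⟨_, rfl⟩⟩, Subtype.ext ?_⟩
      change δ _ = rest f
      rw [hδ _ ⟨g, hg⟩ (Exists.choose_spec (⟨_, rfl⟩ : r ⟨g, hg⟩ ∈ r.range))]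
      exact LinearMap.ext fun u => Subtype.ext (h (u : W)).symm
    have h1 := Nat.card_le_card_of_surjective F hF
    rwa [Module.natCard_eq_pow_finrank (K := ZMod 2), Nat.card_zmod] at h1
  have := (Nat.pow_le_pow_iff_right (by norm_num)).1 hrk
  omega

section Ambient

variable {X : Type u} [Group X] [Finite X] {ρ : X →* (V ≃ₗ[ZMod 2] V)}

/-- `FFBelow.bound` for a group that is only elementary abelian on the subspace. -/
theorem FFBelow.bound' {n : ℕ} (hn : FFBelow.{u} n) (h3 : NoS3 X) {H : Subgroup X}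
    {U : Submodule (ZMod 2) V} (hI : IrrOn ρ H U)
    (hlt : Nat.card H + finrank (ZMod 2) U < n) {G : Subgroup X} (hG : G ≤ H)
    (hsq : ∀ g ∈ G, ∀ u ∈ U, ρ (g * g) u = u) (hne : ¬ G ≤ fixer ρ U) :
    dA (res ρ G U (hG.trans hI.inv)).range + finrank (ZMod 2) (U ⊓ fx ρ G : Submodule (ZMod 2) V) <
      finrank (ZMod 2) U := by
  classical
  set r := res ρ H U hI.inv
  set rG := res ρ G U (hG.trans hI.inv) with hrG
  haveI : Finite (U ≃ₗ[ZMod 2] U) := Finite.of_injective (fun e => (e : U → U)) DFunLike.coe_injective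
  have hle : rG.range ≤ r.range := by
    rintro _ ⟨g, rfl⟩
    exact ⟨⟨g, hG g.2⟩, rfl⟩
  set D := rG.range.subgroupOf r.range with hD
  have hEl : El D := by
    rintro ⟨e, he⟩ hd
    obtain ⟨g, rfl⟩ := (hd : e ∈ rG.range)
    refine Subtype.ext (LinearEquiv.ext fun u => Subtype.ext ?_)
    change ρ (g : X) (ρ (g : X) (u : V)) = u
    rw [← apply_mul]
    exact hsq _ g.2 u u.2
  have hI' : IrrOn r.range.subtype ⊤ (⊤ : Submodule (ZMod 2) U) := by
    refine ⟨fun g _ => mem_stab_of_mem _ fun _ _ => Submodule.mem_top, fun hb => hI.ne ?_,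
      fun T _ hT => ?_⟩
    · exact (Submodule.eq_bot_iff _).2 fun x hx => congrArg Subtype.val
        (show (⟨x, hx⟩ : U) = 0 from (Submodule.mem_bot _).1 (hb ▸ Submodule.mem_top))
    · rcases hI.irr (T.map U.subtype) (Submodule.map_subtype_le U T) (fun g hg => mem_stab_of_mem ρ (by
          rintro _ ⟨v, hv, rfl⟩
          exact ⟨r ⟨g, hg⟩ v, apply_mem_of_stab _ (hT (Subgroup.mem_top
            (⟨r ⟨g, hg⟩, ⟨_, rfl⟩⟩ : r.range))) hv, rfl⟩)) with h | h
      · left
        exact (Submodule.eq_bot_iff _).2 fun x hx => Subtype.ext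
          ((Submodule.mem_bot _).1 (h ▸ Submodule.mem_map_of_mem (f := U.subtype) hx))
      · right
        refine eq_top_iff.2 fun x _ => ?_
        obtain ⟨w, hw, hwx⟩ := (h.symm.le x.2 : (x : V) ∈ T.map U.subtype)
        rw [← Subtype.ext hwx]
        exact hw
  have hb := hn.bound ((h3.subgroup H).surj r.rangeRestrict_surjective) hI' (D := D) (by
      have := Nat.card_le_card_of_surjective _ r.rangeRestrict_surjective
      rw [Subgroup.card_top, finrank_top]
      omega) le_top hEl (fun h => hne fun g hg => mem_fixer ρ |>.2 fun v hv => congrArg Subtype.val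
        (h (show (⟨rG ⟨g, hg⟩, hle ⟨_, rfl⟩⟩ : r.range) ∈ D from ⟨_, rfl⟩) ⟨v, hv⟩ Submodule.mem_top))
  have h0 : dA (D ⊓ fixer r.range.subtype (⊤ : Submodule (ZMod 2) U)) = 0 := by
    have : D ⊓ fixer r.range.subtype (⊤ : Submodule (ZMod 2) U) = ⊥ :=
      (Subgroup.eq_bot_iff_forall _).2 fun d hd =>
        Subtype.ext (LinearEquiv.ext fun v => hd.2 v Submodule.mem_top)
    rw [this]
    simp [dA]
  have hcard : dA D = dA rG.range := by
    rw [dA, dA, Nat.card_congr (Subgroup.subgroupOfEquivOfLe hle).toEquiv]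
  have hfx : finrank (ZMod 2) (U ⊓ fx ρ G : Submodule (ZMod 2) V) =
      finrank (ZMod 2) (⊤ ⊓ fx r.range.subtype D : Submodule (ZMod 2) U) := by
    rw [top_inf_eq, (Submodule.equivMapOfInjective U.subtype Subtype.val_injective _).finrank_eq]
    refine congrArg (fun S : Submodule (ZMod 2) V => finrank (ZMod 2) S) (le_antisymm ?_ ?_)
    · rintro v ⟨hvU, hv⟩
      refine ⟨⟨v, hvU⟩, ?_, rfl⟩
      rintro ⟨e, he⟩ hd
      obtain ⟨g, rfl⟩ := (hd : e ∈ rG.range)
      exact Subtype.ext (hv g g.2)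
    · rintro _ ⟨w, hw, rfl⟩
      exact ⟨w.2, fun g hg => congrArg Subtype.val
        (hw (⟨rG ⟨g, hg⟩, hle ⟨_, rfl⟩⟩ : r.range) (show _ ∈ D from ⟨_, rfl⟩))⟩
  rw [finrank_top, h0, add_zero, hcard, ← hfx] at hb
  exact hb

/-- **The core**, in the ambient group. -/
theorem core {n : ℕ} (hn : FFBelow.{u} n) (h3 : NoS3 X)
    (hXn : Nat.card X + finrank (ZMod 2) V ≤ n) {A : Subgroup X} (hA : Tight ρ A)
    {L : Subgroup X} (hAL : A ≤ L) (hLX : L ≠ ⊤) {c : Submodule (ZMod 2) V}
    (hI : IrrOn ρ (stab ρ c) c) (hcX : stab ρ c ≠ ⊤) (hfix : A ≤ fixer ρ c)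
    (hsub : ∀ K : Subgroup X, A ≤ K → K ≤ L → K ≠ L → K ≤ stab ρ c)
    (hdich : ∀ l ∈ L, cjS l A ≤ stab ρ c → cjS l A ≤ fixer ρ c)
    (hbad : ∃ l ∈ L, ¬ cjS l A ≤ stab ρ c) (hL : ¬ IsPGroup 2 L) : False := by
  classical
  have hlt : ∀ H : Subgroup X, H ≠ ⊤ → Nat.card H < Nat.card X := fun H hH => by
    refine lt_of_le_of_ne (Subgroup.card_le_card_group H) fun he => hH ?_
    exact Subgroup.eq_top_of_card_eq H he
  set σ : L →* (V ≃ₗ[ZMod 2] V) := ρ.comp L.subtype with hσ
  set A' := A.subgroupOf L with hA'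
  have hmem : ∀ {a : L}, a ∈ A' ↔ (a : X) ∈ A := Subgroup.mem_subgroupOf
  have hcj : ∀ (l : L) (b : L), b ∈ cjS l A' ↔ (b : X) ∈ cjS (l : X) A := fun l b => by
    rw [mem_cjS, mem_cjS, hmem]; rfl
  have hcjL : ∀ l : L, cjS (l : X) A ≤ L := fun l b hb => by
    have := L.mul_mem (L.mul_mem l.2 (hAL (mem_cjS.1 hb))) (L.inv_mem l.2)
    simpa [mul_assoc] using this
  have hst : stab σ c = (stab ρ c).subgroupOf L := rfl
  have hfs : fixer σ c = (fixer ρ c).subgroupOf L := rfl
  have hEl' : El A' := fun a ha => Subtype.ext (hA.off.1 _ (hmem.1 ha))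
  have hfx : fx σ A' = fx ρ A := Submodule.ext fun v =>
    ⟨fun h a ha => h ⟨a, hAL ha⟩ (hmem.2 ha), fun h a ha => h _ (hmem.1 ha)⟩
  obtain ⟨G, hG, hsq, hne, hle⟩ := core_aux (σ := σ) hn (h3.subgroup L) (A := A') (c := c)
    (by have := hlt L hLX; omega) hEl'
    (fun a ha b hb v => hA.quad (hmem.1 ha) (hmem.1 hb) v)
    (fun Y => by
      have h := hA.best Y
      have he : dA (A' ⊓ fixer σ Y) = dA (A ⊓ fixer ρ Y) := by
        have h1 : A' ⊓ fixer σ Y = (A ⊓ fixer ρ Y).subgroupOf L := Subgroup.ext fun _ => Iff.rfl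
        rw [dA, dA, h1, Nat.card_congr (Subgroup.subgroupOfEquivOfLe (inf_le_left.trans hAL)).toEquiv]
      have he' : dA A' = dA A := by
        rw [dA, dA, Nat.card_congr (Subgroup.subgroupOfEquivOfLe hAL).toEquiv]
      rw [hfx, he, he']
      exact h)
    (fun a ha => hfix (hmem.1 ha))
    (fun K hK hKt k hk => hsub (K.map L.subtype) (fun a ha => ⟨⟨a, hAL ha⟩, hK (hmem.2 ha), rfl⟩)
      (Subgroup.map_subtype_le K) (fun he => hKt (eq_top_iff.2 fun k _ => by
        obtain ⟨k', hk', hkk⟩ := (he.symm.le k.2 : (k : X) ∈ K.map L.subtype)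
        rwa [← Subtype.ext hkk])) ⟨k, hk, rfl⟩)
    (fun l hl b hb => hdich l l.2 (fun y hy => hl (show (⟨y, hcjL l hy⟩ : L) ∈ cjS l A' from
      (hcj l _).2 hy)) ((hcj l b).1 hb))
    (by
      obtain ⟨l, hl, h⟩ := hbad
      exact ⟨⟨l, hl⟩, fun hle => h fun y hy => hle (show (⟨y, hcjL ⟨l, hl⟩ hy⟩ : L) ∈ _ from
        (hcj ⟨l, hl⟩ _).2 hy)⟩)
    hL
  set G' := G.map L.subtype with hG'
  have hG'c : G' ≤ stab ρ c := by rintro _ ⟨g, hg, rfl⟩; exact hG hg
  have hb := hn.bound' h3 hI (G := G') (by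
      have := hlt _ hcX
      have := Submodule.finrank_le c
      omega) hG'c
    (by rintro _ ⟨g, hg, rfl⟩ u hu; exact hsq g hg u hu)
    (fun h => hne fun g hg => h (Subgroup.mem_map_of_mem L.subtype hg))
  have hrange : (res σ G c hG).range = (res ρ G' c (hG'c.trans hI.inv)).range := by
    refine le_antisymm ?_ ?_
    · rintro _ ⟨g, rfl⟩; exact ⟨⟨_, Subgroup.mem_map_of_mem L.subtype g.2⟩, rfl⟩
    · rintro _ ⟨⟨_, g, hg, rfl⟩, rfl⟩; exact ⟨⟨g, hg⟩, rfl⟩
  have hfxG : fx σ G = fx ρ G' := Submodule.ext fun v =>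
    ⟨fun h => by rintro _ ⟨g, hg, rfl⟩; exact h g hg,
      fun h g hg => h _ (Subgroup.mem_map_of_mem L.subtype hg)⟩
  rw [hrange, hfxG] at hle
  omega

end Ambient

end Cfsg.Agent.S3Free
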