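/-
The subgroup generated by the tight offenders of a subgroup, and conjugates of subspaces.
-/
import Cfsg.Agent.Lib.S3Free.Rep

set_option autoImplicit false
set_option linter.unusedSectionVars false
set_option linter.style.haveILetI false

namespace Cfsg.Agent.S3Free

open Module

universe u

variable {X : Type u} [Group X] {V : Type u} [AddCommGroup V] [Module (ZMod 2) V]
variable [Finite X] [Finite V] (ρ : X →* (V ≃ₗ[ZMod 2] V))

theorem mem_normalizer_iff_cjS {g : X} {Q : Subgroup X} :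
    g ∈ Subgroup.normalizer (Q : Set X) ↔ cjS g Q = Q := by
  constructor
  · intro h
    ext x
    exact mem_cjS.trans (Subgroup.mem_normalizer_iff''.1 h x).symm
  · intro h
    refine Subgroup.mem_normalizer_fintype fun x hx => ?_
    have := conj_mem_cjS (g := g) (show x ∈ Q from hx)
    rwa [h] at this

/-- The subgroup generated by the tight offenders inside `Q`. -/
def tgen (Q : Subgroup X) : Subgroup X := sSup {A | Tight ρ A ∧ A ≤ Q}

theorem le_tgen {Q A : Subgroup X} (hA : Tight ρ A) (h : A ≤ Q) : A ≤ tgen ρ Q := le_sSup ⟨hA, h⟩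

theorem tgen_le (Q : Subgroup X) : tgen ρ Q ≤ Q := sSup_le fun _ h => h.2

theorem tgen_mono {P Q : Subgroup X} (h : P ≤ Q) : tgen ρ P ≤ tgen ρ Q :=
  sSup_le fun _ hA => le_tgen ρ hA.1 (hA.2.trans h)

theorem cjS_tgen_le (g : X) (Q : Subgroup X) : cjS g (tgen ρ Q) ≤ tgen ρ (cjS g Q) := by
  rw [cjS_le_iff]
  refine sSup_le fun A hA => ?_
  rw [← cjS_le_iff]
  exact le_tgen ρ (hA.1.cjS ρ g) (cjS_mono g hA.2)

theorem cjS_tgen (g : X) (Q : Subgroup X) : cjS g (tgen ρ Q) = tgen ρ (cjS g Q) := by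
  refine le_antisymm (cjS_tgen_le ρ g Q) ?_
  have h := cjS_mono g (cjS_tgen_le ρ g⁻¹ (cjS g Q))
  rwa [← cjS_mul, mul_inv_cancel, cjS_one, ← cjS_mul, inv_mul_cancel, cjS_one] at h

theorem tgen_normalized {g : X} {Q : Subgroup X} (h : g ∈ Subgroup.normalizer (Q : Set X)) :
    g ∈ Subgroup.normalizer (tgen ρ Q : Set X) := by
  rw [mem_normalizer_iff_cjS] at h ⊢
  rw [cjS_tgen, h]

theorem tgen_tgen (Q : Subgroup X) : tgen ρ (tgen ρ Q) = tgen ρ Q :=
  le_antisymm (tgen_le ρ _) (sSup_le fun _ hA => le_tgen ρ hA.1 (le_tgen ρ hA.1 hA.2))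

/-- The conjugates of a subspace. -/
def Cj (U : Submodule (ZMod 2) V) : Set (Submodule (ZMod 2) V) :=
  Set.range fun g => U.map (ρ g).toLinearMap

theorem mem_Cj_self (U : Submodule (ZMod 2) V) : U ∈ Cj ρ U :=
  ⟨1, by simp only [map_one]; exact Submodule.map_id U⟩

theorem map_map_apply (U : Submodule (ZMod 2) V) (g h : X) :
    (U.map (ρ h).toLinearMap).map (ρ g).toLinearMap = U.map (ρ (g * h)).toLinearMap := by
  rw [← Submodule.map_comp, map_mul]; rfl

theorem map_inv_map (U : Submodule (ZMod 2) V) (g : X) :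
    (U.map (ρ g).toLinearMap).map (ρ g⁻¹).toLinearMap = U := by
  rw [map_map_apply, inv_mul_cancel, map_one]; exact Submodule.map_id U

theorem map_mem_Cj {U c : Submodule (ZMod 2) V} (hc : c ∈ Cj ρ U) (g : X) :
    c.map (ρ g).toLinearMap ∈ Cj ρ U := by
  obtain ⟨h, rfl⟩ := hc
  exact ⟨g * h, (map_map_apply ρ U g h).symm⟩

variable {ρ}

theorem IrrOn.map {U : Submodule (ZMod 2) V} (h : IrrOn ρ (stab ρ U) U) (g : X) :
    IrrOn ρ (stab ρ (U.map (ρ g).toLinearMap)) (U.map (ρ g).toLinearMap) := by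
  refine ⟨le_rfl, fun hb => h.ne ?_, fun T hT hinv => ?_⟩
  · rw [← map_inv_map ρ U g, hb, Submodule.map_bot]
  · have h1 : T.map (ρ g⁻¹).toLinearMap ≤ U := by
      rw [← map_inv_map ρ U g]; exact Submodule.map_mono hT
    have h2 : stab ρ U ≤ stab ρ (T.map (ρ g⁻¹).toLinearMap) := by
      intro m hm
      rw [mem_stab_map, inv_inv]
      refine hinv ?_
      rw [mem_stab_map]
      simpa [mul_assoc] using hm
    have hT' : (T.map (ρ g⁻¹).toLinearMap).map (ρ g).toLinearMap = T := by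
      have := map_inv_map ρ T g⁻¹
      rwa [inv_inv] at this
    rcases h.irr _ h1 h2 with he | he
    · left; rw [← hT', he, Submodule.map_bot]
    · right; rw [← hT', he]

end Cfsg.Agent.S3Free
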