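/-
**A group without sections isomorphic to the symmetric group of degree three and without normal
`2`-subgroups has no offenders on a faithful module in characteristic two.**
-/
import Cfsg.Agent.Lib.S3Free.Core
import Cfsg.Agent.Lib.S3Free.Tgen
import Mathlib.Algebra.BigOperators.Group.Finset.Basic

set_option autoImplicit false
set_option linter.unusedSectionVars false
set_option linter.style.haveILetI false
set_option maxHeartbeats 1000000

namespace Cfsg.Agent.S3Free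

open Module

universe u

variable {X : Type u} [Group X] {V : Type u} [AddCommGroup V] [Module (ZMod 2) V]
variable [Finite X] [Finite V]

/-- A normal `2`-subgroup containing all of them. -/
theorem exists_max_normal_two (G : Type u) [Group G] [Finite G] :
    ∃ R : Subgroup G, R.Normal ∧ IsPGroup 2 R ∧
      ∀ N : Subgroup G, N.Normal → IsPGroup 2 N → N ≤ R := by
  obtain ⟨P⟩ : Nonempty (Sylow 2 G) := inferInstance
  refine ⟨(P : Subgroup G).normalCore, Subgroup.normalCore_normal _,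
    P.2.to_le (Subgroup.normalCore_le _), fun N hN hN2 => ?_⟩
  haveI := hN
  exact Subgroup.normal_le_normalCore.2 (hN2.le_sylow_of_normal P)

/-- A group normalizing a `2`-group by a `2`-element subgroup. -/
theorem isPGroup_sup {A D : Subgroup X} (hA : IsPGroup 2 A) (hD : IsPGroup 2 D)
    (h : A ≤ Subgroup.normalizer (D : Set X)) : IsPGroup 2 (A ⊔ D : Subgroup X) :=
  hA.to_sup_of_normal_right' hD h

/-- The irreducible case. -/
structure MainData (ρ : X →* (V ≃ₗ[ZMod 2] V)) (n : ℕ) where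
  hn : FFBelow.{u} n
  h3 : NoS3 X
  hXn : Nat.card X + finrank (ZMod 2) V ≤ n
  inj : Function.Injective ρ
  noTwo : NoTwo X
  irr : ∀ T : Submodule (ZMod 2) V, (∀ g, ∀ v ∈ T, ρ g v ∈ T) → T = ⊥ ∨ T = ⊤
  S : Sylow 2 X
  U : Submodule (ZMod 2) V
  Sle : (S : Subgroup X) ≤ stab ρ U
  fixes : ∀ A, Tight ρ A → A ≤ (S : Subgroup X) → A ≤ fixer ρ U
  norm : Subgroup.normalizer (tgen ρ (S : Subgroup X) : Set X) ≤ stab ρ U
  hI : IrrOn ρ (stab ρ U) U
  proper : stab ρ U ≠ ⊤

variable {ρ : X →* (V ≃ₗ[ZMod 2] V)} {n : ℕ} (D : MainData ρ n)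

include D in
theorem MainData.no_fixed {v : V} (hv : v ∈ fx ρ (⊤ : Subgroup X)) : v = 0 := by
  rcases D.irr (fx ρ ⊤) (fun g w hw => by rw [hw g (Subgroup.mem_top g)]; exact hw) with h | h
  · rwa [h, Submodule.mem_bot] at hv
  · exfalso
    refine D.proper (eq_top_iff.2 fun g _ => mem_stab_of_mem ρ fun u hu => ?_)
    have : u ∈ fx ρ (⊤ : Subgroup X) := h ▸ Submodule.mem_top
    rw [this g (Subgroup.mem_top g)]
    exact hu

/-- A `2`-subgroup of a conjugate of `stab U`, moved into `S`. -/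
theorem MainData.exists_conj {Q : Subgroup X} (hQ : IsPGroup 2 Q) {g : X}
    (h : Q ≤ stab ρ (D.U.map (ρ g).toLinearMap)) :
    ∃ m ∈ stab ρ D.U, cjS (m * g⁻¹) Q ≤ (D.S : Subgroup X) := by
  have hle : cjS g⁻¹ Q ≤ stab ρ D.U := by
    rw [cjS_le_iff, inv_inv, ← stab_map]; exact h
  have hp : IsPGroup 2 ((cjS g⁻¹ Q).subgroupOf (stab ρ D.U)) :=
    (hQ.map _).comap_of_injective _ (stab ρ D.U).subtype_injective
  obtain ⟨P, hP⟩ := hp.exists_le_sylow
  obtain ⟨m, hm⟩ := MulAction.exists_smul_eq (stab ρ D.U) P (D.S.subtype D.Sle)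
  refine ⟨m, m.2, ?_⟩
  rw [cjS_mul, cjS_le_iff]
  intro x hx
  rw [mem_cjS, inv_inv]
  have h1 : m * ⟨x, hle hx⟩ * m⁻¹ ∈ ((m • P : Sylow 2 (stab ρ D.U)) : Subgroup (stab ρ D.U)) := by
    rw [Sylow.coe_subgroup_smul]
    exact Subgroup.smul_mem_pointwise_smul _ (MulAut.conj m) _
      (hP (show (⟨x, hle hx⟩ : stab ρ D.U) ∈ (cjS g⁻¹ Q).subgroupOf (stab ρ D.U) from hx))
  rw [hm, Sylow.coe_subtype, Subgroup.mem_subgroupOf] at h1
  exact h1

theorem MainData.fix {A : Subgroup X} (hA : Tight ρ A) {c : Submodule (ZMod 2) V}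
    (hc : c ∈ Cj ρ D.U) (h : A ≤ stab ρ c) : A ≤ fixer ρ c := by
  obtain ⟨g, rfl⟩ := hc
  obtain ⟨m, hm, hle⟩ := D.exists_conj hA.off.1.isPGroup h
  have h1 := D.fixes _ (hA.cjS ρ _) hle
  intro a ha v hv
  obtain ⟨u, hu, rfl⟩ := hv
  change ρ a (ρ g u) = ρ g u
  have hmu : ρ m u ∈ D.U := apply_mem_of_stab ρ hm hu
  have h2 := h1 (conj_mem_cjS (g := m * g⁻¹) ha) _ hmu
  rw [apply_mul, apply_mul] at h2
  have h3 := congrArg (ρ (m * g⁻¹)⁻¹) h2
  rw [apply_inv_apply] at h3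
  rw [show (m * g⁻¹)⁻¹ = g * m⁻¹ by group, ← apply_mul, apply_mul] at h3
  simp only [mul_assoc, inv_mul_cancel, mul_one, apply_mul, apply_inv_apply] at h3
  exact h3

theorem MainData.exists_class {Q : Subgroup X} (hQ : IsPGroup 2 Q) :
    ∃ c ∈ Cj ρ D.U, Q ≤ stab ρ c := by
  obtain ⟨P, hP⟩ := hQ.exists_le_sylow
  obtain ⟨g, hg⟩ := MulAction.exists_smul_eq X D.S P
  refine ⟨_, ⟨g, rfl⟩, fun x hx => ?_⟩
  rw [stab_map, mem_cjS]
  refine D.Sle ?_
  have h1 := hP hx
  rw [← hg, Sylow.coe_subgroup_smul, Subgroup.mem_pointwise_smul_iff_inv_smul_mem] at h1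
  simpa [MulAut.conj_symm_apply, mul_assoc] using h1

/-- Uniqueness of classes relative to `Dg`. -/
def MainData.Uniq (Dg : Subgroup X) : Prop :=
  ∀ A, Tight ρ A → A ≤ Subgroup.normalizer (Dg : Set X) → ¬ A ≤ Dg →
    ∀ c ∈ Cj ρ D.U, ∀ d ∈ Cj ρ D.U, A ⊔ Dg ≤ stab ρ c → A ⊔ Dg ≤ stab ρ d → c = d

theorem MainData.pair {Dg : Subgroup X} (hD : IsPGroup 2 Dg) (hu : D.Uniq Dg) :
    ∀ k, ∀ A B, Tight ρ A → Tight ρ B → A ≤ Subgroup.normalizer (Dg : Set X) →
      B ≤ Subgroup.normalizer (Dg : Set X) → ¬ A ≤ Dg → ¬ B ≤ Dg → A ⊔ B ≠ ⊤ →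
      Nat.card (A ⊔ B : Subgroup X) ≤ k → ∀ c ∈ Cj ρ D.U, ∀ d ∈ Cj ρ D.U,
      A ⊔ Dg ≤ stab ρ c → B ⊔ Dg ≤ stab ρ d → c = d := by
  intro k
  induction k with
  | zero =>
    intro A B _ _ _ _ _ _ _ hk
    exact absurd hk (by have := Nat.card_pos (α := (A ⊔ B : Subgroup X)); omega)
  | succ k ih =>
    intro A B hA hB hAN hBN hAD hBD hne hk c hc d hd hAc hBd
    set L := A ⊔ B with hL
    have hLN : L ≤ Subgroup.normalizer (Dg : Set X) := sup_le hAN hBN
    by_cases h2 : IsPGroup 2 L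
    · obtain ⟨e, he, hle⟩ := D.exists_class (isPGroup_sup h2 hD hLN)
      rw [hu A hA hAN hAD c hc e he hAc ((sup_le_sup_right le_sup_left _).trans hle),
        hu B hB hBN hBD d hd e he hBd ((sup_le_sup_right le_sup_right _).trans hle)]
    -- conjugates of `A` inside `L`
    have hconj : ∀ l ∈ L, Tight ρ (cjS l A) ∧ cjS l A ≤ Subgroup.normalizer (Dg : Set X) ∧
        ¬ cjS l A ≤ Dg ∧ cjS l A ≤ L ∧ cjS l A ⊔ Dg ≤ stab ρ (c.map (ρ l).toLinearMap) := by
      intro l hl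
      have hlD := mem_normalizer_iff_cjS.1 (hLN hl)
      have hle : cjS l A ≤ L := fun x hx => by
        have := L.mul_mem (L.mul_mem hl ((le_sup_left : A ≤ L) (mem_cjS.1 hx))) (L.inv_mem hl)
        simpa [mul_assoc] using this
      refine ⟨hA.cjS ρ l, hle.trans hLN, fun h => hAD ?_, hle, ?_⟩
      · rw [← hlD] at h
        intro a ha
        have := mem_cjS.1 (h (conj_mem_cjS ha))
        simpa [mul_assoc] using this
      · rw [stab_map]
        refine sup_le (cjS_mono l (le_sup_left.trans hAc)) ?_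
        conv_lhs => rw [← hlD]
        exact cjS_mono l (le_sup_right.trans hAc)
    by_cases hall : ∀ l ∈ L, cjS l A ≤ stab ρ c
    · have hLc : L ≤ stab ρ c := fun l hl => by
        obtain ⟨h1, h2, h3, -, h5⟩ := hconj l hl
        exact (hu _ h1 h2 h3 _ (map_mem_Cj ρ hc l) c hc h5
          (sup_le (hall l hl) (le_sup_right.trans hAc)))
      exact hu B hB hBN hBD c hc d hd (sup_le (le_sup_right.trans hLc) (le_sup_right.trans hAc)) hBd
    push Not at hall
    exfalso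
    obtain ⟨g, hg⟩ := id hc
    refine core D.hn D.h3 D.hXn hA (le_sup_left : A ≤ L) hne (c := c) ?_ ?_
      (D.fix hA hc (le_sup_left.trans hAc)) ?_ (fun l _ h => D.fix (hA.cjS ρ l) hc h) hall h2
    · rw [← hg]; exact D.hI.map g
    · intro h
      refine D.proper (eq_top_iff.2 fun x _ => ?_)
      have hx : g * x * g⁻¹ ∈ stab ρ c := h ▸ Subgroup.mem_top _
      rw [← hg, mem_stab_map] at hx
      simpa [mul_assoc] using hx
    · intro K hAK hKL hne' x hx
      obtain ⟨h1, h2, h3, -, h5⟩ := hconj x (hKL hx)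
      have hsub : A ⊔ cjS x A ≤ K := sup_le hAK fun y hy => by
        have := K.mul_mem (K.mul_mem hx (hAK (mem_cjS.1 hy))) (K.inv_mem hx)
        simpa [mul_assoc] using this
      have hcard : Nat.card (A ⊔ cjS x A : Subgroup X) < Nat.card L := by
        refine lt_of_le_of_lt (Subgroup.card_le_of_le hsub) (lt_of_le_of_ne
          (Subgroup.card_le_of_le hKL) fun he => hne' ?_)
        exact Subgroup.eq_of_le_of_card_ge hKL he.ge
      have hproper : A ⊔ cjS x A ≠ ⊤ := fun h => hne' (le_antisymm hKL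
        (le_trans le_top (h.symm.le.trans hsub)))
      have h6 := ih A (cjS x A) hA h1 hAN h2 hAD h3 hproper (by omega) c hc _ (map_mem_Cj ρ hc x)
        hAc h5
      exact h6.symm

theorem MainData.uniq_class : ∀ A, Tight ρ A → ∀ c ∈ Cj ρ D.U, ∀ d ∈ Cj ρ D.U,
    A ≤ stab ρ c → A ≤ stab ρ d → c = d := by
  by_contra hcon
  push Not at hcon
  obtain ⟨A, hA, c₀, hc₀, d₀, hd₀, hAc, hAd, hne₀⟩ := hcon
  obtain ⟨Dg, ⟨hD2, hDgen, hD0, c, hc, d, hd, hDc, hDd, hcd⟩, hmax⟩ := Set.Finite.exists_maximal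
    (Set.toFinite {Q : Subgroup X | IsPGroup 2 Q ∧ Q ≤ tgen ρ Q ∧ Q ≠ ⊥ ∧
      ∃ c ∈ Cj ρ D.U, ∃ d ∈ Cj ρ D.U, Q ≤ stab ρ c ∧ Q ≤ stab ρ d ∧ c ≠ d})
    ⟨A, hA.off.1.isPGroup, le_tgen ρ hA le_rfl, hA.off.2.1, c₀, hc₀, d₀, hd₀, hAc, hAd, hne₀⟩
  have hu : D.Uniq Dg := by
    intro B hB hBN hBD e he f hf hBe hBf
    by_contra hef
    refine hBD (le_sup_left.trans (hmax ⟨isPGroup_sup hB.off.1.isPGroup hD2 hBN,
      sup_le (le_tgen ρ hB le_sup_left) (hDgen.trans (tgen_mono ρ le_sup_right)),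
      fun h => hD0 (le_bot_iff.1 (le_sup_right.trans h.le)), e, he, f, hf, hBe, hBf, hef⟩
      le_sup_right))
  -- `Dg` determines no class by itself
  have hfull : ∀ h : X, Dg ≠ cjS h (tgen ρ (D.S : Subgroup X)) := by
    intro h he
    have key : ∀ e ∈ Cj ρ D.U, Dg ≤ stab ρ e → e = D.U.map (ρ h).toLinearMap := by
      rintro _ ⟨g, rfl⟩ hle
      obtain ⟨m, hm, hmS⟩ := D.exists_conj hD2 hle
      rw [he, ← cjS_mul, cjS_tgen] at hmS
      have h1 : cjS (m * g⁻¹ * h) (tgen ρ (D.S : Subgroup X)) ≤ tgen ρ (D.S : Subgroup X) := by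
        rw [cjS_tgen, ← tgen_tgen]
        exact tgen_mono ρ hmS
      have h2 := Subgroup.eq_of_le_of_card_ge h1
        (by rw [S3Free.cjS, Subgroup.card_map_of_injective (MulAut.conj _).injective])
      have h3 : g⁻¹ * h ∈ stab ρ D.U := by
        have := (stab ρ D.U).mul_mem ((stab ρ D.U).inv_mem hm) (D.norm (mem_normalizer_iff_cjS.2 h2))
        simpa [mul_assoc] using this
      have h4 : (D.U.map (ρ (g⁻¹ * h)).toLinearMap).map (ρ g).toLinearMap =
          D.U.map (ρ h).toLinearMap := by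
        rw [map_map_apply, mul_inv_cancel_left]
      rw [(mem_stab ρ).1 h3] at h4
      exact h4
    exact hcd ((key c hc hDc).trans (key d hd hDd).symm)
  -- growth
  have hgrow : ∀ e ∈ Cj ρ D.U, Dg ≤ stab ρ e → ∃ B, Tight ρ B ∧
      B ≤ Subgroup.normalizer (Dg : Set X) ∧ ¬ B ≤ Dg ∧ B ⊔ Dg ≤ stab ρ e := by
    rintro _ ⟨g, rfl⟩ hle
    obtain ⟨m, hm, hmS⟩ := D.exists_conj hD2 hle
    set h := (m * g⁻¹)⁻¹ with hh
    set P := cjS h (D.S : Subgroup X) with hP
    have hDP : Dg ≤ P := by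
      have := cjS_mono h hmS
      rwa [← cjS_mul, inv_mul_cancel, cjS_one] at this
    have hPe : P ≤ stab ρ (D.U.map (ρ g).toLinearMap) := by
      refine (cjS_mono h D.Sle).trans ?_
      rw [← stab_map, hh, mul_inv_rev, inv_inv, ← map_map_apply,
        (mem_stab ρ).1 ((stab ρ D.U).inv_mem hm)]
    set Q := P ⊓ Subgroup.normalizer (Dg : Set X) with hQ
    by_cases hQD : tgen ρ Q ≤ Dg
    · exfalso
      have hQeq : tgen ρ Q = Dg := le_antisymm hQD
        (hDgen.trans (tgen_mono ρ (le_inf hDP Subgroup.le_normalizer)))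
      have hnQ : P ⊓ Subgroup.normalizer (Q : Set X) ≤ Q := fun x hx => ⟨hx.1, by
        have := tgen_normalized ρ hx.2
        rwa [hQeq] at this⟩
      have hP2 : IsPGroup 2 P := D.S.2.map _
      have hQP : Q = P := by
        by_contra hne
        haveI := hP2.isNilpotent
        have hlt : (Q.subgroupOf P) < ⊤ := lt_top_iff_ne_top.2 fun h =>
          hne (le_antisymm inf_le_left (Subgroup.subgroupOf_eq_top.1 h))
        obtain ⟨x, hx, hxn⟩ := SetLike.exists_of_lt (Group.normalizerCondition_of_isNilpotent _ hlt)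
        refine hxn (hnQ ⟨x.2, Subgroup.mem_normalizer_fintype fun y hy => ?_⟩)
        exact (Subgroup.mem_normalizer_iff.1 hx ⟨y, hy.1⟩).1 hy
      refine hfull h ?_
      rw [cjS_tgen, ← hP, ← hQP, hQeq]
    · have : ∃ B, Tight ρ B ∧ B ≤ Q ∧ ¬ B ≤ Dg := by
        by_contra hno
        push Not at hno
        exact hQD (sSup_le fun B hB => hno B hB.1 hB.2)
      obtain ⟨B, hB, hBQ, hBD⟩ := this
      exact ⟨B, hB, hBQ.trans inf_le_right, hBD, sup_le ((hBQ.trans inf_le_left).trans hPe) hle⟩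
  obtain ⟨B₁, hB₁, hN₁, hD₁, hc₁⟩ := hgrow c hc hDc
  obtain ⟨B₂, hB₂, hN₂, hD₂, hd₂⟩ := hgrow d hd hDd
  refine hcd (D.pair hD2 hu _ B₁ B₂ hB₁ hB₂ hN₁ hN₂ hD₁ hD₂ (fun h => ?_) le_rfl c hc d hd hc₁ hd₂)
  have hDn : Dg.Normal := Subgroup.normalizer_eq_top_iff.1 (eq_top_iff.2 (h.symm.le.trans (sup_le hN₁ hN₂)))
  exact hD0 (D.noTwo Dg hDn hD2)

theorem MainData.same_class {A B : Subgroup X} (hA : Tight ρ A) (hB : Tight ρ B) (hne : A ⊔ B ≠ ⊤)
    {c d : Submodule (ZMod 2) V} (hc : c ∈ Cj ρ D.U) (hd : d ∈ Cj ρ D.U) (hAc : A ≤ stab ρ c)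
    (hBd : B ≤ stab ρ d) : c = d := by
  have hn : ∀ C : Subgroup X, C ≤ Subgroup.normalizer ((⊥ : Subgroup X) : Set X) := fun C g _ =>
    mem_normalizer_iff_cjS.2 (Subgroup.map_bot _)
  refine D.pair IsPGroup.of_bot (fun C hC _ _ e he f hf h1 h2 => D.uniq_class C hC e he f hf
    (le_sup_left.trans h1) (le_sup_left.trans h2)) _ A B hA hB (hn A) (hn B)
    (fun h => hA.off.2.1 (le_bot_iff.1 h)) (fun h => hB.off.2.1 (le_bot_iff.1 h)) hne le_rfl c hc d hd
    (by rwa [sup_bot_eq]) (by rwa [sup_bot_eq])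

/-- A nonzero common fixed vector of two tight offenders. -/
theorem MainData.same_of_fixed {A B : Subgroup X} (hA : Tight ρ A) (hB : Tight ρ B) {v : V}
    (hv : v ≠ 0) (hvA : v ∈ fx ρ A) (hvB : v ∈ fx ρ B)
    {c d : Submodule (ZMod 2) V} (hc : c ∈ Cj ρ D.U) (hd : d ∈ Cj ρ D.U) (hAc : A ≤ stab ρ c)
    (hBd : B ≤ stab ρ d) : c = d := by
  refine D.same_class hA hB (fun h => hv (D.no_fixed ?_)) hc hd hAc hBd
  rw [← h, fx_sup]
  exact ⟨hvA, hvB⟩

theorem MainData.false {A : Subgroup X} (hA : Tight ρ A) (hAS : A ≤ (D.S : Subgroup X)) : False := by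
  classical
  haveI : Finite (Submodule (ZMod 2) V) := inferInstance
  have hEl := hA.off.1
  have hAU : A ≤ stab ρ D.U := hAS.trans D.Sle
  have hB : ∀ g, Tight ρ (cjS g A) ∧ cjS g A ≤ stab ρ (D.U.map (ρ g).toLinearMap) := fun g =>
    ⟨hA.cjS ρ g, by rw [stab_map]; exact cjS_mono g hAU⟩
  -- distinct conjugates meet trivially
  have hdisj : ∀ c ∈ Cj ρ D.U, ∀ d ∈ Cj ρ D.U, ∀ v ∈ c, v ∈ d → v ≠ 0 → c = d := by
    rintro _ ⟨g, rfl⟩ _ ⟨h, rfl⟩ v hvc hvd hv
    exact D.same_of_fixed (hB g).1 (hB h).1 hv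
      (le_fx_of_le_fixer ρ (D.fix (hB g).1 ⟨g, rfl⟩ (hB g).2) hvc)
      (le_fx_of_le_fixer ρ (D.fix (hB h).1 ⟨h, rfl⟩ (hB h).2) hvd) ⟨g, rfl⟩ ⟨h, rfl⟩ (hB g).2 (hB h).2
  have hdim : ∀ c ∈ Cj ρ D.U, finrank (ZMod 2) c = finrank (ZMod 2) D.U := by
    rintro _ ⟨g, rfl⟩
    exact LinearEquiv.finrank_map_eq (ρ g) D.U
  have hUA : D.U ≤ fx ρ A := le_fx_of_le_fixer ρ (D.fixes A hA hAS)
  have hoff := hA.off.2.2
  -- the orbit of another conjugate
  have horb : ∀ c ∈ Cj ρ D.U, c ≠ D.U → fx ρ A ⊓ c = ⊥ ∧ A ⊓ stab ρ c ≤ fixer ρ c ∧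
      finrank (ZMod 2) c + dA (A ⊓ stab ρ c) ≤ dA A ∧
      (finrank (ZMod 2) c = dA A → A ⊓ stab ρ c = ⊥ ∧
        finrank (ZMod 2) V = dA A + finrank (ZMod 2) (fx ρ A)) := by
    intro c hc hcU
    have h0 : fx ρ A ⊓ c = ⊥ := by
      obtain ⟨g, hg⟩ := hc
      refine (Submodule.eq_bot_iff _).2 fun v hv => ?_
      by_contra hv0
      refine hcU ((D.same_of_fixed hA (hB g).1 hv0 hv.1 ?_ (mem_Cj_self ρ D.U) ⟨g, hg⟩ hAU
        (hg ▸ (hB g).2)).symm)
      exact le_fx_of_le_fixer ρ (D.fix (hB g).1 ⟨g, hg⟩ (hg ▸ (hB g).2)) hv.2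
    have h1 : A ⊓ stab ρ c ≤ fixer ρ c := by
      intro k hk y hy
      have h2 : ρ k y + y ∈ fx ρ A ⊓ c :=
        ⟨fun a ha => hA.quad hk.1 ha y, c.add_mem (apply_mem_of_stab ρ hk.2 hy) hy⟩
      rw [h0, Submodule.mem_bot] at h2
      rw [← add_left_inj y, h2, add_self]
    have h2 : fx ρ A ⊔ c ≤ fx ρ (A ⊓ stab ρ c) :=
      sup_le (fx_anti ρ inf_le_left) (le_fx_of_le_fixer ρ h1)
    have h3 := Submodule.finrank_mono h2
    have h4 := Submodule.finrank_sup_add_finrank_inf_eq (fx ρ A) c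
    rw [h0, finrank_bot] at h4
    have h5 := Submodule.finrank_le (fx ρ A ⊔ c)
    rcases eq_or_ne (A ⊓ stab ρ c) ⊥ with hK | hK
    · have : dA (A ⊓ stab ρ c) = 0 := by rw [hK]; simp [dA]
      exact ⟨h0, h1, by omega, fun h => ⟨hK, by omega⟩⟩
    · have hKA : A ⊓ stab ρ c ≠ A := fun h =>
        hcU (D.uniq_class A hA c hc D.U (mem_Cj_self ρ D.U) (h.symm.le.trans inf_le_right) hAU)
      have := hA.min _ inf_le_left hK hKA
      exact ⟨h0, h1, by omega, fun h => by omega⟩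
  -- the tight case is impossible
  have hstrict : ∀ c ∈ Cj ρ D.U, c ≠ D.U → finrank (ZMod 2) c + dA (A ⊓ stab ρ c) < dA A := by
    intro c hc hcU
    obtain ⟨h0, h1, hle, heq⟩ := horb c hc hcU
    refine lt_of_le_of_ne hle fun he => ?_
    have hu : finrank (ZMod 2) c = dA A := by
      rcases eq_or_ne (A ⊓ stab ρ c) ⊥ with hK | hK
      · have : dA (A ⊓ stab ρ c) = 0 := by rw [hK]; simp [dA]
        omega
      · have hKA : A ⊓ stab ρ c ≠ A := fun h =>
          hcU (D.uniq_class A hA c hc D.U (mem_Cj_self ρ D.U) (h.symm.le.trans inf_le_right) hAU)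
        have h2 := hA.min _ inf_le_left hK hKA
        have h3 := Submodule.finrank_mono (show fx ρ A ⊔ c ≤ fx ρ (A ⊓ stab ρ c) from
          sup_le (fx_anti ρ inf_le_left) (le_fx_of_le_fixer ρ h1))
        have h4 := Submodule.finrank_sup_add_finrank_inf_eq (fx ρ A) c
        rw [h0, finrank_bot] at h4
        omega
    obtain ⟨hK, hV⟩ := heq hu
    obtain ⟨g, hg⟩ := id hc
    set B := cjS g A with hBdef
    have hBc : B ≤ stab ρ c := hg ▸ (hB g).2
    have hcB : c ≤ fx ρ B := le_fx_of_le_fixer ρ (D.fix (hB g).1 hc hBc)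
    have hAB : fx ρ A ⊓ fx ρ B = ⊥ := by
      refine (Submodule.eq_bot_iff _).2 fun v hv => ?_
      by_contra hv0
      exact hcU (D.same_of_fixed hA (hB g).1 hv0 hv.1 hv.2 (mem_Cj_self ρ D.U) hc hAU hBc).symm
    have h6 := Submodule.finrank_sup_add_finrank_inf_eq (fx ρ A) (fx ρ B)
    rw [hAB, finrank_bot, hBdef, finrank_fx_cjS] at h6
    have h7 := Submodule.finrank_le (fx ρ A ⊔ fx ρ (cjS g A))
    have hdc := hdim c hc
    have hfA : D.U = fx ρ A := Submodule.eq_of_le_of_finrank_le hUA (by omega)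
    have hfB : c = fx ρ B := Submodule.eq_of_le_of_finrank_le hcB (by
      rw [hBdef, finrank_fx_cjS, hdc, hfA])
    -- the stabilizer of `U` in `B`
    have hKB : B ⊓ stab ρ D.U = ⊥ := by
      set c' := D.U.map (ρ g⁻¹).toLinearMap with hc'
      have hc'U : c' ≠ D.U := fun h => hcU (by
        rw [← hg]
        change D.U.map (ρ g).toLinearMap = D.U
        conv_lhs => rw [← h, hc']
        rw [map_map_apply, mul_inv_cancel, map_one]
        exact Submodule.map_id D.U)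
      have hK' := ((horb c' ⟨g⁻¹, rfl⟩ hc'U).2.2.2 (by rw [hdim c' ⟨g⁻¹, rfl⟩, ← hdc, hu])).1
      refine (Subgroup.eq_bot_iff_forall _).2 fun b hb => ?_
      have hb' : g⁻¹ * b * g ∈ A ⊓ stab ρ c' :=
        ⟨mem_cjS.1 hb.1, by rw [hc']; exact (mem_stab_map ρ).2 (by simpa [mul_assoc] using hb.2)⟩
      rw [hK', Subgroup.mem_bot] at hb'
      calc b = g * (g⁻¹ * b * g) * g⁻¹ := by group
        _ = 1 := by rw [hb']; group
    obtain ⟨w, hw, hw0⟩ := Submodule.exists_mem_ne_zero_of_ne_bot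
      (show c ≠ ⊥ from fun h => hA.off.1.dA_pos hA.off.2.1 |>.ne' (by rw [← hu, h, finrank_bot]))
    -- an element of `A` moving `w`, and its partner
    have hfixA : ∀ a ∈ A, ∀ y ∈ c, y ≠ 0 → ρ a y = y → a = 1 := by
      intro a ha y hy hy0 hay
      have : a ∈ A ⊓ stab ρ c := ⟨ha, by
        have h := hdisj _ (map_mem_Cj ρ hc a) c hc y ⟨y, hy, hay⟩ hy hy0
        exact h⟩
      rwa [hK, Subgroup.mem_bot] at this
    have hfixB : ∀ b ∈ B, ∀ x ∈ D.U, x ≠ 0 → ρ b x = x → b = 1 := by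
      intro b hb x hx hx0 hbx
      have : b ∈ B ⊓ stab ρ D.U := ⟨hb, by
        have h := hdisj _ (map_mem_Cj ρ (mem_Cj_self ρ D.U) b) D.U (mem_Cj_self ρ D.U) x
          ⟨x, hx, hbx⟩ hx hx0
        exact h⟩
      rwa [hKB, Subgroup.mem_bot] at this
    obtain ⟨a, ha, ha1⟩ := (Subgroup.ne_bot_iff_exists_ne_one.1 hA.off.2.1)
      |> fun ⟨⟨a, ha⟩, h⟩ => (⟨a, ha, fun h' => h (Subtype.ext h')⟩ : ∃ a ∈ A, a ≠ 1)
    set x := ρ a w + w with hx
    have hxU : x ∈ D.U := hfA.symm.le fun b hb => hA.quad ha hb w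
    have hx0 : x ≠ 0 := fun h => ha1 (hfixA a ha w hw hw0 (by rw [← add_left_inj w, ← hx, h, add_self]))
    have hBtight := (hB g).1
    let F : B → c := fun b => ⟨ρ (b : X) x + x, hfB.symm.le fun b' hb' => hBtight.quad b.2 hb' x⟩
    have hFinj : Function.Injective F := by
      intro b₁ b₂ h
      have h' : ρ (b₁ : X) x = ρ (b₂ : X) x := add_right_cancel (congrArg Subtype.val h)
      have h8 := congrArg (ρ (b₁ : X)⁻¹) h'
      rw [apply_inv_apply, ← apply_mul] at h8
      have := hfixB _ (B.mul_mem (B.inv_mem b₁.2) b₂.2) x hxU hx0 h8.symm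
      exact Subtype.ext (inv_mul_eq_one.1 this)
    obtain ⟨⟨b, hb⟩, hbw⟩ := (Function.Injective.bijective_of_nat_card_le hFinj (by
      rw [Module.natCard_eq_pow_finrank (K := ZMod 2), Nat.card_zmod, hBtight.off.1.card,
        dA_cjS, hu])).2 ⟨w, hw⟩
    have hbx : ρ b x = x + w := by
      have h : ρ b x + x = w := congrArg Subtype.val hbw
      rw [← h, add_comm x, add_assoc, add_self, add_zero]
    have hax : ρ a x = x := (hfA.le hxU) a ha
    have haw : ρ a w = w + x := by rw [hx, add_comm (ρ a w) w, ← add_assoc, add_self, zero_add]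
    have hbw' : ρ b w = w := (hfB.le hw) b hb
    obtain ⟨p, hp⟩ : ∃ p, p = a * b := ⟨_, rfl⟩
    have hp1 : ρ p w = w + x := by rw [hp, apply_mul, hbw', haw]
    have hp2 : ρ p x = w := by
      rw [hp, apply_mul, hbx, map_add, hax, haw, add_comm w x, ← add_assoc, add_self, zero_add]
    have hp3 : ρ (p ^ 3) w = w := by
      rw [pow_succ', pow_two, apply_mul, apply_mul, hp1, map_add, hp1, hp2, map_add, map_add, hp1, hp2]
      rw [show w + x + w + (w + x) = w + (w + w) + (x + x) by abel, add_self, add_self, add_zero,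
        add_zero]
    have h5 : 3 ∣ orderOf p := by
      by_contra h
      obtain ⟨m, hm⟩ := exists_pow_eq_self_of_coprime
        ((Nat.Prime.coprime_iff_not_dvd Nat.prime_three).2 h) (x := p)
      have h6 : p ^ 3 ∈ fixer ρ (Submodule.span (ZMod 2) {w}) := fun v hv => by
        obtain ⟨k, rfl⟩ := Submodule.mem_span_singleton.1 hv
        rw [map_smul, hp3]
      have h7 : p ∈ fixer ρ (Submodule.span (ZMod 2) {w}) := hm ▸ Subgroup.pow_mem _ h6 m
      have h8 := h7 w (Submodule.mem_span_singleton_self w)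
      rw [hp1, add_eq_left] at h8
      exact hx0 h8
    have ha' : a⁻¹ = a := inv_eq_of_mul_eq_one_right (hEl a ha)
    have hb' : b⁻¹ = b := inv_eq_of_mul_eq_one_right (hBtight.off.1 b hb)
    have ho : orderOf (p ^ (orderOf p / 3)) = 3 := orderOf_pow_orderOf_div (orderOf_pos p).ne' h5
    have h3 := D.h3 a (p ^ (orderOf p / 3)) ⟨1, by rw [pow_one, pow_two]; exact hEl a ha⟩
      (by conv_lhs => arg 2; rw [← ho]
          exact pow_orderOf_eq_one _)
      (by
        have h7 : a * p * a⁻¹ = p⁻¹ := by rw [hp, mul_inv_rev, ha', hb', ← mul_assoc, hEl a ha, one_mul]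
        rw [← conj_pow, h7, inv_pow])
    rw [h3, orderOf_one] at ho
    omega
  -- parity
  let T : Module.Dual (ZMod 2) V → Submodule (ZMod 2) V → Set X := fun φ c =>
    {a | a ∈ A ∧ ∀ y ∈ c, φ (ρ a y + y) = 0}
  have hpar : ∀ φ : Module.Dual (ZMod 2) V, ∀ c ∈ Cj ρ D.U, c ≠ D.U →
      ∃ a ∈ T φ c, a ∉ A ⊓ stab ρ c := by
    intro φ c hc hcU
    by_contra hno
    push Not at hno
    have hadd : ∀ a ∈ A, ∀ b ∈ A, ∀ y : V, ρ (a * b) y + y = (ρ a y + y) + (ρ b y + y) := by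
      intro a ha b hb y
      have h := hA.quad hb ha y
      rw [map_add] at h
      rw [apply_mul, ← h, show ρ a y + y + (ρ a (ρ b y) + ρ a y) =
        ρ a (ρ b y) + y + (ρ a y + ρ a y) by abel, add_self, add_zero]
    let f : A → Module.Dual (ZMod 2) c := fun a =>
      φ.comp (((ρ (a : X)).toLinearMap + LinearMap.id).comp c.subtype)
    have hfib : ∀ a b : A, f a = f b → (a : X)⁻¹ * b ∈ A ⊓ stab ρ c := by
      intro a b hab
      refine hno _ ⟨A.mul_mem (A.inv_mem a.2) b.2, fun y hy => ?_⟩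
      have h1 : φ (ρ (a : X) y + y) = φ (ρ (b : X) y + y) := LinearMap.congr_fun hab ⟨y, hy⟩
      rw [inv_eq_of_mul_eq_one_right (hEl a a.2), hadd _ a.2 _ b.2 y, map_add, h1]
      exact (by decide : ∀ z : ZMod 2, z + z = 0) _
    haveI : Finite (Module.Dual (ZMod 2) c) :=
      Finite.of_injective (fun f => (f : c → ZMod 2)) DFunLike.coe_injective
    rcases isEmpty_or_nonempty A with hA0 | hA0
    · exact hA0.false 1
    have hinj : Function.Injective (fun a : A => ((f a,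
        ⟨((Function.invFun f (f a) : A) : X)⁻¹ * (a : X), hfib _ _ (Function.invFun_eq ⟨a, rfl⟩)⟩) :
          Module.Dual (ZMod 2) c × ↥(A ⊓ stab ρ c))) := by
      intro a b hab
      obtain ⟨h1, h2⟩ := Prod.ext_iff.1 hab
      have h2' := congrArg Subtype.val h2
      simp only at h1 h2'
      rw [h1] at h2'
      exact Subtype.ext (mul_left_cancel h2')
    have hcard := Nat.card_le_card_of_injective _ hinj
    rw [Nat.card_prod, hEl.card, (hEl.mono inf_le_left).card,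
      Module.natCard_eq_pow_finrank (K := ZMod 2), Nat.card_zmod, Subspace.dual_finrank_eq,
      ← pow_add, Nat.pow_le_pow_iff_right (by norm_num)] at hcard
    have := hstrict c hc hcU
    omega
  let P : Set X → Subgroup X → X := fun T K =>
    if h : ∃ a ∈ T, a ∉ K then h.choose else 1
  let J : Module.Dual (ZMod 2) V → Submodule (ZMod 2) V → X := fun φ c => P (T φ c) (A ⊓ stab ρ c)
  haveI : Fintype (Submodule (ZMod 2) V) := Fintype.ofFinite _
  have hcount : ∀ φ : Module.Dual (ZMod 2) V,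
      ((Finset.univ.filter fun c => c ∈ Cj ρ D.U ∧ c ≤ LinearMap.ker φ).sum fun _ => (1 : ZMod 2)) =
        if D.U ≤ LinearMap.ker φ then 1 else 0 := by
    intro φ
    set Ω := Finset.univ.filter fun c => c ∈ Cj ρ D.U ∧ c ≤ LinearMap.ker φ with hΩ
    have hzero : ((Ω.erase D.U).sum fun _ => (1 : ZMod 2)) = 0 := by
      have hJ : ∀ c ∈ Ω.erase D.U, J φ c ∈ T φ c ∧ J φ c ∉ A ⊓ stab ρ c ∧
          J φ (c.map (ρ (J φ c)).toLinearMap) = J φ c ∧ c.map (ρ (J φ c)).toLinearMap ∈ Ω.erase D.U := by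
        intro c hc
        simp only [hΩ, Finset.mem_erase, Finset.mem_filter, Finset.mem_univ, true_and] at hc ⊢
        obtain ⟨hcU, hcC, hcφ⟩ := hc
        have hex := hpar φ c hcC hcU
        have hspec : J φ c ∈ T φ c ∧ J φ c ∉ A ⊓ stab ρ c := by
          simp only [J, P, dif_pos hex]
          exact hex.choose_spec
        obtain ⟨hT, hK⟩ := hspec
        set a := J φ c with ha
        have hT' : T φ (c.map (ρ a).toLinearMap) = T φ c := by
          have hcomm : ∀ t ∈ A, ∀ y : V, ρ t (ρ a y) + ρ a y = ρ t y + y := fun t ht y => by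
            rw [← apply_mul, hEl.comm ht hT.1, apply_mul, ← map_add, hA.quad ht hT.1 y]
          ext t
          constructor
          · rintro ⟨ht, h⟩
            exact ⟨ht, fun y hy => by rw [← hcomm t ht y]; exact h _ ⟨y, hy, rfl⟩⟩
          · rintro ⟨ht, h⟩
            refine ⟨ht, ?_⟩
            rintro _ ⟨y, hy, rfl⟩
            change φ (ρ t (ρ a y) + ρ a y) = 0
            rw [hcomm t ht y]
            exact h y hy
        have hK' : A ⊓ stab ρ (c.map (ρ a).toLinearMap) = A ⊓ stab ρ c := by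
          ext t
          simp only [Subgroup.mem_inf, mem_stab_map]
          constructor <;> rintro ⟨ht, h⟩ <;> refine ⟨ht, ?_⟩
          · rwa [mul_assoc, hEl.comm ht hT.1, inv_mul_cancel_left] at h
          · rwa [mul_assoc, hEl.comm ht hT.1, inv_mul_cancel_left]
        refine ⟨hT, hK, by simp only [J, hT', hK']; rfl, ?_, map_mem_Cj ρ hcC a, ?_⟩
        · intro hU'
          refine hcU ?_
          have h := congrArg (fun d => d.map (ρ a⁻¹).toLinearMap) hU'
          simp only [map_inv_map] at h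
          rw [h]
          exact (mem_stab ρ).1 ((stab ρ D.U).inv_mem (hAU hT.1))
        · rintro _ ⟨y, hy, rfl⟩
          have h1 := hT.2 y hy
          have h2 : φ y = 0 := hcφ hy
          rw [map_add, h2, add_zero] at h1
          exact h1
      refine Finset.sum_involution (fun c _ => c.map (ρ (J φ c)).toLinearMap)
        (fun c _ => (by decide : (1 : ZMod 2) + 1 = 0))
        (fun c hc _ h => (hJ c hc).2.1 ⟨(hJ c hc).1.1, h⟩)
        (fun c hc => (hJ c hc).2.2.2) fun c hc => ?_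
      rw [(hJ c hc).2.2.1, map_map_apply, hEl _ (hJ c hc).1.1, map_one]
      exact Submodule.map_id c
    by_cases hU : D.U ≤ LinearMap.ker φ
    · have hmem : D.U ∈ Ω := by
        simp only [hΩ, Finset.mem_filter, Finset.mem_univ, true_and]
        exact ⟨mem_Cj_self ρ D.U, hU⟩
      rw [if_pos hU, ← Finset.add_sum_erase Ω _ hmem, hzero, add_zero]
    · rw [if_neg hU, ← hzero, Finset.erase_eq_of_notMem]
      simp only [hΩ, Finset.mem_filter, Finset.mem_univ, true_and]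
      exact fun h => hU h.2
  refine D.proper (eq_top_iff.2 fun g _ => ?_)
  have hiff : ∀ φ : Module.Dual (ZMod 2) V,
      D.U ≤ LinearMap.ker φ ↔ D.U.map (ρ g).toLinearMap ≤ LinearMap.ker φ := by
    intro φ
    set ψ := φ.comp (ρ g).toLinearMap with hψ
    have hψker : ∀ c : Submodule (ZMod 2) V,
        c ≤ LinearMap.ker ψ ↔ c.map (ρ g).toLinearMap ≤ LinearMap.ker φ := fun c => by
      rw [Submodule.map_le_iff_le_comap, hψ, LinearMap.ker_comp]
    have hsum : ((Finset.univ.filter fun c => c ∈ Cj ρ D.U ∧ c ≤ LinearMap.ker ψ).sum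
          fun _ => (1 : ZMod 2)) =
        (Finset.univ.filter fun c => c ∈ Cj ρ D.U ∧ c ≤ LinearMap.ker φ).sum fun _ => (1 : ZMod 2) := by
      refine Finset.sum_bij' (fun c _ => c.map (ρ g).toLinearMap) (fun c _ => c.map (ρ g⁻¹).toLinearMap)
        (fun c hc => ?_) (fun c hc => ?_) (fun c _ => map_inv_map ρ c g) (fun c _ => ?_) (fun _ _ => rfl)
      · simp only [Finset.mem_filter, Finset.mem_univ, true_and] at hc ⊢
        exact ⟨map_mem_Cj ρ hc.1 g, (hψker c).1 hc.2⟩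
      · simp only [Finset.mem_filter, Finset.mem_univ, true_and] at hc ⊢
        refine ⟨map_mem_Cj ρ hc.1 _, (hψker _).2 ?_⟩
        rw [map_map_apply, mul_inv_cancel, map_one]
        exact (Submodule.map_id c).le.trans hc.2
      · have h := map_inv_map ρ c g⁻¹
        rwa [inv_inv] at h
    rw [hcount, hcount] at hsum
    rw [← hψker D.U]
    split_ifs at hsum with h1 h2 h2
    · exact iff_of_true h2 h1
    · exact absurd hsum one_ne_zero
    · exact absurd hsum zero_ne_one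
    · exact iff_of_false h2 h1
  have hann : D.U.dualAnnihilator = (D.U.map (ρ g).toLinearMap).dualAnnihilator := by
    ext φ
    have h : ∀ c : Submodule (ZMod 2) V, φ ∈ c.dualAnnihilator ↔ c ≤ LinearMap.ker φ := fun c => by
      rw [Submodule.mem_dualAnnihilator]
      exact ⟨fun h v hv => h v hv, fun h v hv => h hv⟩
    rw [h, h]
    exact hiff φ
  exact (Subspace.dualAnnihilator_inj.1 hann).symm

variable (ρ)

/-- No offender on an irreducible module. -/
theorem no_off_irreducible {n : ℕ} (hn : FFBelow.{u} n) (h3 : NoS3 X)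
    (hXn : Nat.card X + finrank (ZMod 2) V ≤ n) (inj : Function.Injective ρ) (h2 : NoTwo X)
    (irr : ∀ T : Submodule (ZMod 2) V, (∀ g, ∀ v ∈ T, ρ g v ∈ T) → T = ⊥ ∨ T = ⊤)
    {A : Subgroup X} (hA : Tight ρ A) : False := by
  obtain ⟨S, hAS⟩ := hA.off.1.isPGroup.exists_le_sylow
  set E := tgen ρ (S : Subgroup X) with hE
  have hAE : A ≤ E := le_tgen ρ hA hAS
  have hE0 : E ≠ ⊥ := fun h => hA.off.2.1 (le_bot_iff.1 (hAE.trans h.le))
  have hE2 : IsPGroup 2 E := S.2.to_le (tgen_le ρ _)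
  have hfE : ∃ T : Submodule (ZMod 2) V, T ≤ fx ρ E ∧ T ≠ ⊥ ∧
      Subgroup.normalizer (E : Set X) ≤ stab ρ T := by
    refine ⟨fx ρ E, le_rfl, fun hb => ?_, fun g hg => mem_stab_of_mem ρ fun v hv e he => ?_⟩
    · have hV : (⊤ : Submodule (ZMod 2) V) ≠ ⊥ := fun h => hA.off.2.1 ((Subgroup.eq_bot_iff_forall _).2
        fun a _ => inj (LinearEquiv.ext fun v => by
          have hv : ∀ w : V, w = 0 := fun w => (Submodule.mem_bot _).1 (h ▸ Submodule.mem_top)
          rw [hv (ρ a v), hv (ρ 1 v)]))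
      obtain ⟨v, -, hv0, hvf⟩ := exists_fixed ρ hE2 hV fun g _ => mem_stab_of_mem ρ fun _ _ =>
        Submodule.mem_top
      rw [hb, Submodule.mem_bot] at hvf
      exact hv0 hvf
    · have h1 := hv _ ((Subgroup.mem_normalizer_iff''.1 hg e).1 he)
      rw [apply_mul, apply_mul] at h1
      have h2 := congrArg (ρ g) h1
      rwa [apply_apply_inv] at h2
  obtain ⟨U, ⟨hUle, hU0, hNU⟩, hUmin⟩ := Set.Finite.exists_minimal
    (Set.toFinite {T : Submodule (ZMod 2) V | T ≤ fx ρ E ∧ T ≠ ⊥ ∧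
      Subgroup.normalizer (E : Set X) ≤ stab ρ T}) hfE
  refine MainData.false (ρ := ρ) (n := n)
    { hn := hn, h3 := h3, hXn := hXn, inj := inj, noTwo := h2, irr := irr, S := S, U := U
      Sle := le_trans (fun s hs => tgen_normalized ρ (Subgroup.le_normalizer hs)) hNU
      fixes := fun B hB hBS => le_fixer_of_le_fx ρ (hUle.trans (fx_anti ρ (le_tgen ρ hB hBS)))
      norm := hNU
      hI := ⟨le_rfl, hU0, fun T hT hTi => (eq_or_ne T ⊥).imp id fun h0 =>
        le_antisymm hT (hUmin ⟨hT.trans hUle, h0, hNU.trans hTi⟩ hT)⟩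
      proper := fun h => ?_ } hA hAS
  rcases irr U (fun g v hv => apply_mem_of_stab ρ (h ▸ Subgroup.mem_top g) hv) with hU | hU
  · exact hU0 hU
  · refine hE0 ((Subgroup.eq_bot_iff_forall _).2 fun e he => inj (LinearEquiv.ext fun v => ?_))
    rw [(hUle (hU ▸ Submodule.mem_top : v ∈ U)) e he, map_one]
    rfl

/-- **No offenders.** -/
theorem ffBelow : ∀ n, FFBelow.{u} n := by
  intro n
  induction n with
  | zero => intro Y _ _ W _ _ _ σ _ _ _ h; exact absurd h (Nat.not_lt_zero _)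
  | succ n hn =>
    intro Y _ _ W _ _ _ σ inj h2 h3 hlt A₀ hA₀
    obtain ⟨A, -, hA⟩ := exists_tight σ hA₀
    by_cases hirr : ∀ T : Submodule (ZMod 2) W, (∀ g, ∀ v ∈ T, σ g v ∈ T) → T = ⊥ ∨ T = ⊤
    · exact no_off_irreducible σ hn h3 (by omega) inj h2 hirr hA
    push Not at hirr
    obtain ⟨T₁, hT₁, hT₁0, hT₁t⟩ := hirr
    obtain ⟨T, ⟨hT, hT0, hTt⟩, hTmin⟩ := Set.Finite.exists_minimal
      (Set.toFinite {T : Submodule (ZMod 2) W | (∀ g, ∀ v ∈ T, σ g v ∈ T) ∧ T ≠ ⊥ ∧ T ≠ ⊤})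
      ⟨T₁, hT₁, hT₁0, hT₁t⟩
    have hTlt : finrank (ZMod 2) T < finrank (ZMod 2) W :=
      Submodule.finrank_lt hTt
    have hI : IrrOn σ ⊤ T := ⟨fun g _ => mem_stab_of_mem σ (hT g), hT0, fun T' hT' hst =>
      (eq_or_ne T' ⊥).imp id fun h0 => le_antisymm hT' (hTmin ⟨fun g v hv =>
        apply_mem_of_stab σ (hst (Subgroup.mem_top g)) hv, h0, fun h => hTt (top_le_iff.1 (h ▸ hT'))⟩ hT')⟩
    have hall : ∀ B, Tight σ B → B ≤ fixer σ T := by
      intro B hB
      by_contra hne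
      have h1 := hn.bound h3 hI (by rw [Subgroup.card_top]; omega) le_top hB.off.1 hne
      have h4 := hB.best T
      omega
    set K : Subgroup Y := tgen σ ⊤ with hK
    have hKn : K.Normal := Subgroup.normalizer_eq_top_iff.1 (eq_top_iff.2 fun g _ =>
      tgen_normalized σ (mem_normalizer_iff_cjS.2 (eq_top_iff.2 fun y _ => mem_cjS.2 (Subgroup.mem_top _))))
    haveI := hKn
    have hKT : K ≤ fixer σ T := sSup_le fun B hB => hall B hB.1
    set τ : K →* ((W ⧸ T) ≃ₗ[ZMod 2] (W ⧸ T)) :=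
      quo σ K T (fun g _ => mem_stab_of_mem σ (hT g)) with hτ
    have hτinj : Function.Injective τ := by
      refine (injective_iff_map_eq_one τ).2 fun k hk => ?_
      set N : Subgroup Y := K ⊓ secKer σ T ⊤ hT (fun g v _ => Submodule.mem_top) with hN
      haveI : (secKer σ T ⊤ hT (fun g v _ => Submodule.mem_top)).Normal := secKer_normal _ _ _ _ _
      have hN2 : IsPGroup 2 N := fun x => ⟨1, Subtype.ext (inj (LinearEquiv.ext fun v => by
        rw [pow_one, pow_two, Subgroup.coe_mul, apply_mul, Subgroup.coe_one, map_one]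
        change _ = v
        have h1 := hKT x.2.1 _ (x.2.2 v Submodule.mem_top)
        rw [map_add] at h1
        rw [← add_left_inj (σ (x : Y) v), h1, add_comm]))⟩
      have hNb := h2 N inferInstance hN2
      have hkN : (k : Y) ∈ N := ⟨k.2, fun v _ => by
        have h1 := LinearEquiv.congr_fun hk (Submodule.Quotient.mk v)
        rw [hτ, quo_mk] at h1
        have h1' : (Submodule.Quotient.mk (σ (k : Y) v) : W ⧸ T) = Submodule.Quotient.mk v := h1
        rw [Submodule.Quotient.eq, sub_eq_add] at h1'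
        exact h1'⟩
      rw [hNb, Subgroup.mem_bot] at hkN
      exact Subtype.ext hkN
    have h2K : NoTwo K := by
      intro N hN hN2
      obtain ⟨R, hRn, hR2, hRmax⟩ := exists_max_normal_two K
      have hR : R.map K.subtype = ⊥ := by
        refine h2 _ ⟨?_⟩ (hR2.map _)
        rintro _ ⟨r, hr, rfl⟩ g
        refine ⟨MulAut.conjNormal g r, ?_, by simp [MulAut.conjNormal_apply]⟩
        exact hRmax (R.map (MulAut.conjNormal g : K ≃* K).toMonoidHom)
          (hRn.map _ (MulAut.conjNormal g : K ≃* K).surjective) (hR2.map _) ⟨r, hr, rfl⟩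
      refine le_bot_iff.1 fun k hk => Subgroup.mem_bot.2 ?_
      have h5 : (k : Y) ∈ R.map K.subtype := ⟨k, hRmax N hN hN2 hk, rfl⟩
      rw [hR, Subgroup.mem_bot] at h5
      exact Subtype.ext h5
    have hAK : A ≤ K := le_tgen σ hA le_top
    haveI : Finite (W ⧸ T) := Quotient.finite _
    have hcard := Subgroup.card_le_card_group K
    have hq := T.finrank_quotient_add_finrank
    have h1T : 1 ≤ finrank (ZMod 2) T := Submodule.one_le_finrank_iff.2 hT0
    refine hn K (W ⧸ T) τ hτinj h2K (h3.subgroup K) (by omega) (A.subgroupOf K) ⟨?_, ?_, ?_⟩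
    · exact fun a ha => Subtype.ext (hA.off.1 _ ha)
    · intro h
      refine hA.off.2.1 (le_bot_iff.1 fun a ha => ?_)
      have h' : (⟨a, hAK ha⟩ : K) ∈ (⊥ : Subgroup K) :=
        h.le (show (⟨a, hAK ha⟩ : K) ∈ A.subgroupOf K from ha)
      exact Subgroup.mem_bot.2 (congrArg Subtype.val (Subgroup.mem_bot.1 h'))
    · have hd : dA (A.subgroupOf K) = dA A := by
        rw [dA, dA, Nat.card_congr (Subgroup.subgroupOfEquivOfLe hAK).toEquiv]
      have hle : (fx σ A).map T.mkQ ≤ fx τ (A.subgroupOf K) := by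
        rintro _ ⟨v, hv, rfl⟩ a ha
        rw [Submodule.mkQ_apply, hτ, quo_mk, show σ (a : Y) v = v from hv _ ha]
      have h6 := Submodule.finrank_mono hle
      have h7 := LinearMap.finrank_range_add_finrank_ker (T.mkQ.comp (fx σ A).subtype)
      rw [LinearMap.range_comp, Submodule.range_subtype, LinearMap.ker_comp, Submodule.ker_mkQ] at h7
      have h8 : finrank (ZMod 2) (T.comap (fx σ A).subtype) ≤ finrank (ZMod 2) T :=
        LinearMap.finrank_le_finrank_of_injective (f := ((fx σ A).subtype.restrict fun v hv => hv))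
          fun a b h => Subtype.ext (Subtype.ext (congrArg Subtype.val h :))
      have := hA.off.2.2
      omega

/-- **No offenders on faithful modules.** -/
theorem no_offender {Y : Type u} [Group Y] [Finite Y] {W : Type u} [AddCommGroup W]
    [Module (ZMod 2) W] [Finite W] (σ : Y →* (W ≃ₗ[ZMod 2] W)) (inj : Function.Injective σ)
    (h2 : NoTwo Y) (h3 : NoS3 Y) (A : Subgroup Y) : ¬ Off σ A :=
  ffBelow (Nat.card Y + finrank (ZMod 2) W + 1) Y W σ inj h2 h3 (Nat.lt_succ_self _) A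

end Cfsg.Agent.S3Free
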