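/-
In groups without sections isomorphic to the symmetric group of degree four, the centre and the
Thompson subgroup together control strong `2`-fusion.
-/
import Cfsg.Agent.Lib.S3Free.Main
import Cfsg.Agent.Lib.Functors.SectionApps
import Cfsg.Agent.Lib.PLocal.Thompson
import Cfsg.Agent.Lib.Solvable.SFourFree
import Cfsg.Agent.Lib.PStable.FusionControl
import Cfsg.Agent.Lib.Functors.WeakClosureElem

set_option autoImplicit false
set_option linter.unusedSectionVars false
set_option linter.style.haveILetI false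
set_option maxHeartbeats 1000000

namespace Cfsg.Agent.S3Free

open Module Cfsg

universe u

/-- The centre, as a functor. -/
def centreFun : ∀ (Q : Type u) [Group Q], Subgroup Q := fun Q _ => Subgroup.center Q

/-- The Thompson subgroup, as a functor. -/
def thompsonFun : ∀ (Q : Type u) [Group Q], Subgroup Q := fun Q _ => Cfsg.thompsonSubgroup 2 Q

theorem inducedFunctor_centreFun {G : Type u} [Group G] (P : Subgroup G) :
    inducedFunctor centreFun P = P ⊓ Subgroup.centralizer (P : Set G) := by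
  ext x
  constructor
  · rintro ⟨z, hz, rfl⟩
    exact ⟨z.2, fun y hy => congrArg Subtype.val (Subgroup.mem_center_iff.1 hz ⟨y, hy⟩)⟩
  · rintro ⟨hx, hc⟩
    exact ⟨⟨x, hx⟩, Subgroup.mem_center_iff.2 fun y => Subtype.ext (hc y y.2), rfl⟩

theorem inducedFunctor_thompsonFun {G : Type u} [Group G] (P : Subgroup G) :
    inducedFunctor thompsonFun P = Cfsg.thompsonSubgroupOf 2 P := rfl

theorem isCharPFunctor_centreFun : IsCharPFunctor.{u} 2 centreFun := by
  refine ⟨fun Q _ _ hQ hn => ?_, fun Q R _ _ _ _ φ => ?_⟩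
  · haveI := hn
    haveI : Nontrivial (Subgroup.center Q) := hQ.center_nontrivial
    exact (Subgroup.nontrivial_iff_ne_bot (Subgroup.center Q)).1 inferInstance
  · ext y
    change y ∈ (Subgroup.center Q).map φ.toMonoidHom ↔ y ∈ Subgroup.center R
    constructor
    · rintro ⟨z, hz, rfl⟩
      refine Subgroup.mem_center_iff.2 fun r => ?_
      obtain ⟨q, rfl⟩ := φ.surjective r
      exact (map_mul φ q z).symm.trans ((congrArg φ (Subgroup.mem_center_iff.1 hz q)).trans (map_mul φ z q))
    · intro hy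
      refine ⟨φ.symm y, Subgroup.mem_center_iff.2 fun q => φ.injective ?_, φ.apply_symm_apply y⟩
      rw [map_mul, map_mul, φ.apply_symm_apply]
      exact Subgroup.mem_center_iff.1 hy _

theorem isCharPFunctor_thompsonFun : IsCharPFunctor.{u} 2 thompsonFun := by
  refine ⟨fun Q _ _ hQ hn => ?_, fun Q R _ _ _ _ φ => Thompson.thompsonSubgroup_map_equiv φ⟩
  haveI := hn
  haveI : Fact (Nat.Prime 2) := ⟨Nat.prime_two⟩
  intro h
  refine Thompson.thompsonSubgroupOf_ne_bot (p := 2) (S := (⊤ : Subgroup Q))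
    (by
      rw [Subgroup.card_top]
      obtain ⟨k, hk, hQc⟩ := hQ.nontrivial_iff_card.1 hn
      exact hQc ▸ dvd_pow_self 2 hk.ne') ?_
  rw [Thompson.thompsonSubgroupOf_top]
  exact h

/-- The family. -/
def zjPair : Set (∀ (Q : Type u) [Group Q], Subgroup Q) := {centreFun, thompsonFun}

theorem zjPair_char : ∀ W ∈ zjPair.{u}, IsCharPFunctor.{u} 2 W := by
  rintro W (rfl | rfl)
  · exact isCharPFunctor_centreFun
  · exact isCharPFunctor_thompsonFun

/-- In an `S₄`-free group acting on an elementary abelian normal `2`-subgroup, the group induced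
has no element of order three inverted by a `2`-element. -/
theorem noS3_of_not_involves {G : Type u} [Group G] [Finite G]
    (h4 : ¬ Involves (Equiv.Perm (Fin 4)) G) {V : Subgroup G} [V.Normal]
    (hab : ∀ x ∈ V, ∀ y ∈ V, x * y = y * x) (hsq : ∀ x ∈ V, x * x = 1) :
    NoS3 (G ⧸ Subgroup.centralizer (V : Set G)) := by
  set C := Subgroup.centralizer (V : Set G) with hC
  intro b₀ y₀ hb hy hby
  obtain ⟨n, hn⟩ := hb
  by_contra hne
  obtain ⟨b, rfl⟩ := QuotientGroup.mk'_surjective C b₀
  obtain ⟨y, rfl⟩ := QuotientGroup.mk'_surjective C y₀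
  rw [← map_pow] at hn hy
  rw [← map_inv, ← map_inv, ← map_mul, ← map_mul] at hby
  have hker : ∀ g : G, QuotientGroup.mk' C g = 1 ↔ g ∈ C := fun g => QuotientGroup.eq_one_iff g
  have hfix : ∀ c ∈ C, ∀ v ∈ V, c * v * c⁻¹ = v := fun c hc v hv =>
    mul_inv_eq_iff_eq_mul.2 (Subgroup.mem_centralizer_iff.1 hc v hv).symm
  have hyC : y ∉ C := fun h => hne ((hker y).2 h)
  have hy3 : y ^ 3 ∈ C := (hker _).1 hy
  have hbC : b ^ 2 ^ n ∈ C := (hker _).1 hn
  have hbyC : b * y * b⁻¹ * y ∈ C := (hker _).1 (by rw [map_mul, hby, ← map_mul, inv_mul_cancel, map_one])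
  have hVn : ∀ g v, v ∈ V → g * v * g⁻¹ ∈ V := fun g v hv => Subgroup.Normal.conj_mem ‹_› v hv g
  obtain ⟨τ, hτ⟩ : ∃ τ : G → G, τ = fun v => v * (y * v * y⁻¹) * (y * (y * v * y⁻¹) * y⁻¹) := ⟨_, rfl⟩
  let W : Subgroup G :=
    { carrier := {v | v ∈ V ∧ τ v = 1}
      one_mem' := ⟨V.one_mem, by rw [hτ]; group⟩
      mul_mem' := fun {a c} ha hc => ⟨V.mul_mem ha.1 hc.1, by
        have h1 := ha.2
        have h2 := hc.2
        simp only [hτ] at h1 h2 ⊢
        have e : ∀ p ∈ V, ∀ q ∈ V, ∀ r ∈ V, ∀ p' ∈ V, ∀ q' ∈ V, ∀ r' ∈ V,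
            (p * p') * (q * q') * (r * r') = (p * q * r) * (p' * q' * r') := by
          intro p hp q hq r hr p' hp' q' hq' r' hr'
          calc (p * p') * (q * q') * (r * r') = p * (p' * q) * (q' * r) * r' := by group
            _ = p * (q * p') * (r * q') * r' := by rw [hab p' hp' q hq, hab q' hq' r hr]
            _ = p * q * (p' * r) * q' * r' := by group
            _ = p * q * (r * p') * q' * r' := by rw [hab p' hp' r hr]
            _ = _ := by group
        calc a * c * (y * (a * c) * y⁻¹) * (y * (y * (a * c) * y⁻¹) * y⁻¹)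
            = a * c * ((y * a * y⁻¹) * (y * c * y⁻¹)) *
              ((y * (y * a * y⁻¹) * y⁻¹) * (y * (y * c * y⁻¹) * y⁻¹)) := by group
          _ = (a * (y * a * y⁻¹) * (y * (y * a * y⁻¹) * y⁻¹)) *
              (c * (y * c * y⁻¹) * (y * (y * c * y⁻¹) * y⁻¹)) :=
            e a ha.1 _ (hVn _ _ ha.1) _ (hVn _ _ (hVn _ _ ha.1)) c hc.1 _ (hVn _ _ hc.1) _
              (hVn _ _ (hVn _ _ hc.1))
          _ = 1 := by rw [h1, h2, one_mul]⟩
      inv_mem' := fun {a} ha => by
        have : a⁻¹ = a := inv_eq_of_mul_eq_one_right (hsq a ha.1)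
        rwa [this] }
  -- `W` is normalized by `b`
  have hWb : ∀ v ∈ W, b * v * b⁻¹ ∈ W := by
    rintro v ⟨hv, hv1⟩
    refine ⟨hVn b v hv, ?_⟩
    simp only [hτ] at hv1 ⊢
    set v' := b * v * b⁻¹ with hv'
    have hv'V : v' ∈ V := hVn b v hv
    set p := y * v' * y⁻¹ with hp
    set q := y * p * y⁻¹ with hq
    have hpV : p ∈ V := hVn y _ hv'V
    have hqV : q ∈ V := hVn y _ hpV
    -- conjugating the relation by `b`
    have h1 : v' * q * p = 1 := by
      have e1 : b * (y * v * y⁻¹) * b⁻¹ = q := by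
        calc b * (y * v * y⁻¹) * b⁻¹ = (b * y * b⁻¹ * y) * (y⁻¹ * v' * y) * (b * y * b⁻¹ * y)⁻¹ := by
              rw [hv']; group
          _ = y⁻¹ * v' * y := hfix _ hbyC _ (by simpa using hVn y⁻¹ _ hv'V)
          _ = q := by
            rw [← hfix _ hy3 _ (by simpa using hVn y⁻¹ _ hv'V : y⁻¹ * v' * y ∈ V), hq, hp]
            simp only [pow_succ, pow_zero, one_mul]
            group
      have e2 : b * (y * (y * v * y⁻¹) * y⁻¹) * b⁻¹ = p := by
        calc b * (y * (y * v * y⁻¹) * y⁻¹) * b⁻¹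
            = (b * y * b⁻¹ * y) * (y⁻¹ * (b * (y * v * y⁻¹) * b⁻¹) * y) * (b * y * b⁻¹ * y)⁻¹ := by group
          _ = y⁻¹ * q * y := by
            rw [e1]; exact hfix _ hbyC _ (by simpa using hVn y⁻¹ _ hqV)
          _ = p := by rw [hq]; group
      calc v' * q * p = b * (v * (y * v * y⁻¹) * (y * (y * v * y⁻¹) * y⁻¹)) * b⁻¹ := by
            rw [hv', ← e1, ← e2]; group
        _ = 1 := by rw [hv1]; group
    calc v' * p * q = v' * q * p := by rw [mul_assoc, hab p hpV q hqV, ← mul_assoc]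
      _ = 1 := h1
  have hWne : ∃ v ∈ W, v ≠ 1 := by
    obtain ⟨v, hv, hvy⟩ : ∃ v ∈ V, y * v * y⁻¹ ≠ v := by
      by_contra hcon
      push Not at hcon
      exact hyC (Subgroup.mem_centralizer_iff.2 fun v hv => (mul_inv_eq_iff_eq_mul.1 (hcon v hv)).symm)
    refine ⟨y * v * y⁻¹ * v, ⟨V.mul_mem (hVn _ _ hv) hv, ?_⟩, fun h => hvy ?_⟩
    · simp only [hτ]
      set p := y * v * y⁻¹ with hp
      set q := y * p * y⁻¹ with hq
      have hpV : p ∈ V := hVn y _ hv
      have hqV : q ∈ V := hVn y _ hpV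
      have hy3v : y * q * y⁻¹ = v := by
        have h2 := hfix _ hy3 v hv
        rw [← h2, hq, hp]
        simp only [pow_succ, pow_zero, one_mul]
        group
      calc p * v * (y * (p * v) * y⁻¹) * (y * (y * (p * v) * y⁻¹) * y⁻¹)
          = p * v * (q * p) * (y * (q * p) * y⁻¹) := by rw [hq, hp]; group
        _ = p * v * (q * p) * (v * q) := by
          rw [show y * (q * p) * y⁻¹ = (y * q * y⁻¹) * (y * p * y⁻¹) by group, hy3v, ← hq]
        _ = p * (v * q) * (p * v) * q := by group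
        _ = p * (q * v) * (v * p) * q := by rw [hab v hv q hqV, hab p hpV v hv]
        _ = p * q * (v * v) * p * q := by group
        _ = p * (q * p) * q := by rw [hsq v hv]; group
        _ = (p * p) * (q * q) := by rw [hab q hqV p hpV]; group
        _ = 1 := by rw [hsq p hpV, hsq q hqV, one_mul]
    · calc y * v * y⁻¹ = y * v * y⁻¹ * (v * v) := by rw [hsq v hv, mul_one]
        _ = (y * v * y⁻¹ * v) * v := by group
        _ = v := by rw [h, one_mul]
  -- a vector fixed by `b`
  obtain ⟨u, hu, hu1, hub⟩ : ∃ u ∈ W, u ≠ 1 ∧ b * u * b⁻¹ = u := by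
    have hstep : ∀ k, ∃ u ∈ W, u ≠ 1 ∧ (b ^ 2 ^ (n - k)) * u * (b ^ 2 ^ (n - k))⁻¹ = u := by
      intro k
      induction k with
      | zero =>
        obtain ⟨v, hv, hv1⟩ := hWne
        exact ⟨v, hv, hv1, by rw [Nat.sub_zero]; exact hfix _ hbC v hv.1⟩
      | succ k ih =>
        obtain ⟨v, hv, hv1, hvf⟩ := ih
        rcases Nat.lt_or_ge k n with hk | hk
        · set d := b ^ 2 ^ (n - (k + 1)) with hd
          have hdd : b ^ 2 ^ (n - k) = d * d := by
            rw [hd, ← pow_add, ← two_mul, ← pow_succ', show n - (k + 1) + 1 = n - k by omega]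
          have hdW : ∀ (m : ℕ), ∀ w ∈ W, b ^ m * w * (b ^ m)⁻¹ ∈ W := by
            intro m
            induction m with
            | zero => intro w hw; simpa using hw
            | succ m ihm =>
              intro w hw
              have := hWb _ (ihm w hw)
              rw [pow_succ']
              simpa [mul_assoc] using this
          by_cases hdv : d * v * d⁻¹ = v
          · exact ⟨v, hv, hv1, hdv⟩
          · have hdvW : d * v * d⁻¹ ∈ W := hdW _ v hv
            refine ⟨v * (d * v * d⁻¹), W.mul_mem hv hdvW, fun h => hdv ?_, ?_⟩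
            · calc d * v * d⁻¹ = (v * v) * (d * v * d⁻¹) := by rw [hsq v hv.1, one_mul]
                _ = v * (v * (d * v * d⁻¹)) := by group
                _ = v := by rw [h, mul_one]
            · calc d * (v * (d * v * d⁻¹)) * d⁻¹ = (d * v * d⁻¹) * ((d * d) * v * (d * d)⁻¹) := by group
                _ = (d * v * d⁻¹) * v := by rw [← hdd, hvf]
                _ = v * (d * v * d⁻¹) := hab _ hdvW.1 _ hv.1
        · rw [Nat.sub_eq_zero_of_le hk] at hvf
          exact ⟨v, hv, hv1, by rw [Nat.sub_eq_zero_of_le (by omega)]; exact hvf⟩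
    obtain ⟨u, hu, hu1, huf⟩ := hstep n
    exact ⟨u, hu, hu1, by simpa using huf⟩
  obtain ⟨huV, huτ⟩ := hu
  simp only [hτ] at huτ
  set p := y * u * y⁻¹ with hp
  set q := y * p * y⁻¹ with hq
  have hpV : p ∈ V := hVn y _ huV
  have hqV : q ∈ V := hVn y _ hpV
  have hy3u : y * q * y⁻¹ = u := by
    have h2 := hfix _ hy3 u huV
    rw [hq, hp]
    conv_rhs => rw [← h2]
    simp only [pow_succ, pow_zero, one_mul]
    group
  have hup : u ≠ p := fun h => hu1 (by
    have : q = u := by rw [hq, ← h]; exact h.symm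
    rw [this, ← h, hsq u huV, one_mul] at huτ
    exact huτ)
  have hq' : q = u * p := by
    calc q = (u * p) * (u * p * q) := by
          rw [← mul_assoc, hsq _ (V.mul_mem huV hpV), one_mul]
      _ = u * p := by rw [huτ, mul_one]
  have hp1 : p ≠ 1 := fun h => hu1 (by
    rw [hp] at h
    calc u = y⁻¹ * (y * u * y⁻¹) * y := by group
      _ = 1 := by rw [h]; group)
  let U : Subgroup G :=
    { carrier := {1, u, p, u * p}
      one_mem' := Or.inl rfl
      mul_mem' := by
        have e1 : p * u = u * p := hab p hpV u huV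
        have e2 : u * (u * p) = p := by rw [← mul_assoc, hsq u huV, one_mul]
        have e3 : p * (u * p) = u := by rw [← mul_assoc, e1, mul_assoc, hsq p hpV, mul_one]
        have e4 : u * p * u = p := by rw [mul_assoc, e1, e2]
        have e5 : u * p * p = u := by rw [mul_assoc, hsq p hpV, mul_one]
        intro a c ha hc
        rcases ha with h | h | h | h <;> rcases hc with h' | h' | h' | h' <;> rw [h, h'] <;>
          simp [hsq u huV, hsq p hpV, hsq _ (V.mul_mem huV hpV), e1, e2, e3, e4, e5]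
      inv_mem' := by
        intro a ha
        have : a ∈ V := by
          rcases ha with rfl | rfl | rfl | rfl
          exacts [V.one_mem, huV, hpV, V.mul_mem huV hpV]
        rwa [inv_eq_of_mul_eq_one_right (hsq a this)] }
  have hUV : ∀ a ∈ U, a ∈ V := by
    intro a ha
    rcases ha with rfl | rfl | rfl | rfl
    exacts [V.one_mem, huV, hpV, V.mul_mem huV hpV]
  have hup1 : u * p ≠ 1 := fun h => hup (by
    calc u = u * (p * p) := by rw [hsq p hpV, mul_one]
      _ = (u * p) * p := by group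
      _ = p := by rw [h, one_mul])
  have hcard : Nat.card U = 4 := by
    rw [← SetLike.coe_sort_coe, Nat.card_coe_set_eq]
    change ({1, u, p, u * p} : Set G).ncard = 4
    rw [Set.ncard_insert_of_notMem (by simp [Ne.symm hu1, Ne.symm hp1, Ne.symm hup1]),
      Set.ncard_insert_of_notMem (by simp [hup, hp1]),
      Set.ncard_pair (fun h => hu1 (by
        calc u = (u * p) * p := by rw [mul_assoc, hsq p hpV, mul_one]
          _ = 1 := by rw [← h, hsq p hpV]))]
  have hnorm : ∀ g : G, (g * u * g⁻¹ ∈ U) → (g * p * g⁻¹ ∈ U) →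
      g ∈ Subgroup.normalizer (U : Set G) := by
    intro g h1 h2
    refine Subgroup.mem_normalizer_fintype fun a ha => ?_
    rcases ha with rfl | rfl | rfl | rfl
    · simp
    · exact h1
    · exact h2
    · rw [show g * (u * p) * g⁻¹ = (g * u * g⁻¹) * (g * p * g⁻¹) by group]
      exact U.mul_mem h1 h2
  have hbp : b * p * b⁻¹ = q := by
    have h2 := hfix _ (C.inv_mem hy3) _ (hVn y _ (hVn y _ huV))
    calc b * p * b⁻¹ = (b * y * b⁻¹ * y) * (y⁻¹ * (b * u * b⁻¹) * y) * (b * y * b⁻¹ * y)⁻¹ := by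
          rw [hp]; group
      _ = y⁻¹ * u * y := by
        rw [hub]; exact hfix _ hbyC _ (by simpa using hVn y⁻¹ _ huV)
      _ = q := by rw [← hy3u]; group
  have huU : u ∈ U := Or.inr (Or.inl rfl)
  have hpU : p ∈ U := Or.inr (Or.inr (Or.inl rfl))
  have hqU : q ∈ U := hq' ▸ U.mul_mem huU hpU
  refine h4 (SFourFree.involves_of_four hcard (fun a ha => by rw [pow_two]; exact hsq a (hUV a ha))
    (a := b) (y := y) (hnorm b (by rw [hub]; exact huU) (by rw [hbp]; exact hqU))
    (hnorm y hpU hqU) (fun h => hup ?_) ?_ ?_ ?_)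
  · rw [hp]
    exact ((mul_inv_eq_iff_eq_mul.2 (Subgroup.mem_centralizer_iff.1 h u huU).symm)).symm
  · exact Subgroup.mem_centralizer_iff.2 fun a ha => Subgroup.mem_centralizer_iff.1 hy3 a (hUV a ha)
  · have hbq : b * q * b⁻¹ = p := by
      rw [hq', show b * (u * p) * b⁻¹ = (b * u * b⁻¹) * (b * p * b⁻¹) by group, hub, hbp, hq',
        ← mul_assoc, hsq u huV, one_mul]
    refine Subgroup.mem_centralizer_iff.2 fun a ha => ?_
    refine (mul_inv_eq_iff_eq_mul.1 ?_).symm
    rw [pow_two, show b * b * a * (b * b)⁻¹ = b * (b * a * b⁻¹) * b⁻¹ by group]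
    rcases ha with rfl | rfl | rfl | rfl
    · group
    · rw [hub, hub]
    · rw [hbp, hbq]
    · rw [← hq', hbq, hbp]
  · exact Subgroup.mem_centralizer_iff.2 fun a ha => Subgroup.mem_centralizer_iff.1 hbyC a (hUV a ha)

section Offender

variable {G : Type u} [Group G] [Finite G]

/-- An elementary abelian subgroup of largest order of a `2`-group containing `V` centralizes `V`. -/
theorem le_centralizer_of_max (h4 : ¬ Involves (Equiv.Perm (Fin 4)) G) {V : Subgroup G} [hVn : V.Normal]
    (hab : ∀ x ∈ V, ∀ y ∈ V, x * y = y * x) (hsq : ∀ x ∈ V, x * x = 1)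
    (hno : NoTwo (G ⧸ Subgroup.centralizer (V : Set G))) {S A : Subgroup G} (hVS : V ≤ S)
    (hA : Thompson.IsMaxEAIn 2 S A) : A ≤ Subgroup.centralizer (V : Set G) := by
  classical
  by_contra hne
  set C := Subgroup.centralizer (V : Set G) with hC
  obtain ⟨hAS, hAe, hmax⟩ := hA
  letI : CommGroup V :=
    { (inferInstance : Group V) with mul_comm := fun a b => Subtype.ext (hab a a.2 b b.2) }
  letI : Module (ZMod 2) (Additive V) := AddCommGroup.zmodModule (n := 2) fun v => by
    rw [two_nsmul]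
    exact Additive.toMul.injective (Subtype.ext (hsq _ (Additive.toMul v : V).2))
  let ρ₀ : G →* (Additive V ≃ₗ[ZMod 2] Additive V) :=
    { toFun := fun g =>
        { (MulAut.conjNormal g : V ≃* V).toAdditive with
          map_smul' := fun c v => ZMod.map_smul ((MulAut.conjNormal g : V ≃* V).toAdditive).toAddMonoidHom c v }
      map_one' := LinearEquiv.ext fun v => Subtype.ext (show
        ((MulAut.conjNormal (1 : G) (Additive.toMul v) : V) : G) = _ by rw [map_one]; rfl)
      map_mul' := fun g h => LinearEquiv.ext fun v => Subtype.ext (show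
        ((MulAut.conjNormal (g * h) (Additive.toMul v) : V) : G) =
          ((MulAut.conjNormal g (MulAut.conjNormal h (Additive.toMul v)) : V) : G) by
        rw [map_mul]; rfl) }
  have hρ₀ : ∀ (g : G) (v : Additive V),
      ((Additive.toMul (ρ₀ g v) : V) : G) = g * (Additive.toMul v : V) * g⁻¹ := fun g v =>
    MulAut.conjNormal_apply g (Additive.toMul v)
  have hker : ∀ g : G, ρ₀ g = 1 ↔ g ∈ C := by
    intro g
    constructor
    · intro h
      refine Subgroup.mem_centralizer_iff.2 fun v hv => (mul_inv_eq_iff_eq_mul.1 ?_).symm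
      have := hρ₀ g (Additive.ofMul ⟨v, hv⟩)
      rw [h] at this
      exact this.symm
    · intro h
      refine LinearEquiv.ext fun v => Additive.toMul.injective (Subtype.ext ?_)
      rw [hρ₀]
      exact mul_inv_eq_iff_eq_mul.2 (Subgroup.mem_centralizer_iff.1 h _ (Additive.toMul v : V).2).symm
  have hCle : C ≤ ρ₀.ker := fun g hg => (hker g).2 hg
  let ρ := QuotientGroup.lift C ρ₀ hCle
  have hinj : Function.Injective ρ := by
    refine (injective_iff_map_eq_one ρ).2 fun q hq => ?_
    induction q using QuotientGroup.induction_on with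
    | _ g => exact (QuotientGroup.eq_one_iff g).2 ((hker g).1 hq)
  set Ā := A.map (QuotientGroup.mk' C) with hĀ
  have hsqA : ∀ a ∈ A, a * a = 1 := fun a ha => by rw [← pow_two]; exact hAe.2 a ha
  have hcommA : ∀ a ∈ A, ∀ b ∈ A, a * b = b * a := fun a ha b hb =>
    Thompson.commute_of_isElementaryAbelian hAe ha hb
  have hEl : El Ā := by
    rintro _ ⟨a, ha, rfl⟩
    rw [← map_mul, hsqA a ha, map_one]
  refine no_offender ρ hinj hno (noS3_of_not_involves h4 hab hsq) Ā ⟨hEl, fun hb => hne fun a ha => ?_, ?_⟩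
  · exact (QuotientGroup.eq_one_iff a).1 (Subgroup.mem_bot.1 (hb ▸ ⟨a, ha, rfl⟩))
  -- the counting
  set A₀ := A ⊓ C with hA₀
  set B := A₀ ⊔ V with hB
  have hBe : Cfsg.IsElementaryAbelian 2 B := by
    have hmem : ∀ x ∈ B, ∃ v ∈ V, ∃ a ∈ A₀, x = v * a := by
      intro x hx
      rw [hB, sup_comm] at hx
      exact (SolvBasic.mem_sup_iff_of_le_normalizer
        (le_top.trans_eq (Subgroup.normalizer_eq_top (H := V)).symm)).1 hx
    have hca : ∀ v ∈ V, ∀ a ∈ A₀, v * a = a * v := fun v hv a ha =>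
      Subgroup.mem_centralizer_iff.1 ha.2 v hv
    have hmul : ∀ v ∈ V, ∀ a ∈ A₀, ∀ w ∈ V, ∀ c ∈ A₀, (v * a) * (w * c) = (v * w) * (a * c) := by
      intro v _ a ha w hw c _
      calc (v * a) * (w * c) = v * (a * w) * c := by group
        _ = v * (w * a) * c := by rw [hca w hw a ha]
        _ = _ := by group
    refine ⟨⟨⟨fun x y => ?_⟩⟩, fun x hx => ?_⟩
    · obtain ⟨v, hv, a, ha, hxe⟩ := hmem x x.2
      obtain ⟨w, hw, c, hc, hye⟩ := hmem y y.2
      refine Subtype.ext ?_
      change (x : G) * y = y * x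
      rw [hxe, hye, hmul v hv a ha w hw c hc, hmul w hw c hc v hv a ha, hab v hv w hw,
        hcommA a ha.1 c hc.1]
    · obtain ⟨v, hv, a, ha, rfl⟩ := hmem x hx
      rw [pow_two, hmul v hv a ha v hv a ha, hsq v hv, hsqA a ha.1, one_mul]
  have hle := hmax B (sup_le (inf_le_left.trans hAS) hVS) hBe
  have h1 := SolvBasic.card_sup_mul_card_inf (N := V) (H := A₀)
    (le_top.trans_eq (Subgroup.normalizer_eq_top (H := V)).symm)
  rw [sup_comm, ← hB] at h1
  have h2 : Nat.card A = Nat.card A₀ * 2 ^ dA Ā := by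
    rw [← hEl.card]
    set φ := (QuotientGroup.mk' C).comp A.subtype with hφ
    have hr : φ.range = Ā := by
      rw [hφ, MonoidHom.range_comp, Subgroup.range_subtype]
    have hk : Nat.card φ.ker = Nat.card A₀ := by
      have hk' : φ.ker = A₀.subgroupOf A := by
        ext a
        rw [MonoidHom.mem_ker, Subgroup.mem_subgroupOf]
        exact ⟨fun h => ⟨a.2, (QuotientGroup.eq_one_iff _).1 h⟩,
          fun h => (QuotientGroup.eq_one_iff _).2 h.2⟩
      rw [hk', Nat.card_congr (Subgroup.subgroupOfEquivOfLe (inf_le_left : A₀ ≤ A)).toEquiv]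
    rw [← φ.ker.card_mul_index, Subgroup.index_ker, hr, hk]
  have h3 : Nat.card ↥(V ⊓ A₀) ≤ 2 ^ finrank (ZMod 2) (fx ρ Ā) := by
    haveI : Finite (Additive V) := inferInstanceAs (Finite V)
    rw [show 2 ^ finrank (ZMod 2) (fx ρ Ā) = Nat.card (fx ρ Ā) by
      rw [Module.natCard_eq_pow_finrank (K := ZMod 2), Nat.card_zmod]]
    refine Nat.card_le_card_of_injective
      (fun v : ↥(V ⊓ A₀) => (⟨Additive.ofMul ⟨(v : G), v.2.1⟩, ?_⟩ : fx ρ Ā)) fun v w h => ?_
    · rintro _ ⟨a, ha, rfl⟩
      refine Additive.toMul.injective (Subtype.ext ?_)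
      change ((Additive.toMul (ρ₀ a _) : V) : G) = _
      rw [hρ₀]
      exact mul_inv_eq_iff_eq_mul.2 (hcommA a ha _ v.2.2.1)
    · exact Subtype.ext (congrArg (fun z : fx ρ Ā => ((Additive.toMul (z : Additive V) : V) : G)) h)
  have h4' : Nat.card V = 2 ^ finrank (ZMod 2) (Additive V) := by
    haveI : Finite (Additive V) := inferInstanceAs (Finite V)
    rw [Nat.card_congr (Additive.ofMul (α := V)), Module.natCard_eq_pow_finrank (K := ZMod 2), Nat.card_zmod]
  rw [← Nat.pow_le_pow_iff_right (a := 2) (by norm_num), pow_add, ← h4']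
  refine Nat.le_of_mul_le_mul_left
    (show Nat.card A₀ * Nat.card V ≤ Nat.card A₀ * (2 ^ dA Ā * 2 ^ finrank (ZMod 2) (fx ρ Ā)) from ?_)
    Nat.card_pos
  calc Nat.card A₀ * Nat.card V = Nat.card B * Nat.card ↥(V ⊓ A₀) := by rw [h1, mul_comm]
    _ ≤ Nat.card A * 2 ^ finrank (ZMod 2) (fx ρ Ā) := Nat.mul_le_mul hle h3
    _ = _ := by rw [h2, mul_assoc]

end Offender

section Level

variable {Y : Type u} [Group Y] [Finite Y]

/-- The constrained case. -/
theorem ctlSF_constrained (h4 : ¬ Involves (Equiv.Perm (Fin 4)) Y)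
    (hC : Functors.PConstr 2 Y)
    (hsub : ∀ H : Subgroup Y, H ≠ ⊤ → Functors.CtlSF 2 zjPair.{u} ↥H) :
    Functors.CtlSF 2 zjPair.{u} Y := by
  classical
  obtain ⟨S⟩ : Nonempty (Sylow 2 Y) := inferInstance
  set Q := Cfsg.pCore 2 Y with hQ
  haveI hQn : Q.Normal := Cfsg.pCore_normal 2 Y
  have hQS : Q ≤ (S : Subgroup Y) := PBasic.pCore_le_sylow S
  set ZQ := Q ⊓ Subgroup.centralizer (Q : Set Y) with hZQ
  haveI hZQn : ZQ.Normal := Subgroup.normal_inf_normal _ _
  have hZQc : ∀ x ∈ ZQ, ∀ y ∈ ZQ, x * y = y * x := fun x hx y hy =>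
    Subgroup.mem_centralizer_iff.1 hy.2 x hx.1
  let V : Subgroup Y :=
    { carrier := {x | x ∈ ZQ ∧ x * x = 1}
      one_mem' := ⟨ZQ.one_mem, one_mul 1⟩
      mul_mem' := fun {a b} ha hb => ⟨ZQ.mul_mem ha.1 hb.1, by
        rw [show a * b * (a * b) = a * (b * a) * b by group, hZQc b hb.1 a ha.1,
          show a * (a * b) * b = (a * a) * (b * b) by group, ha.2, hb.2, one_mul]⟩
      inv_mem' := fun {a} ha => ⟨ZQ.inv_mem ha.1, by rw [← mul_inv_rev, ha.2, inv_one]⟩ }
  haveI hVn : V.Normal := ⟨fun v hv g => ⟨hZQn.conj_mem v hv.1 g, by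
    rw [show g * v * g⁻¹ * (g * v * g⁻¹) = g * (v * v) * g⁻¹ by group, hv.2]; group⟩⟩
  have hab : ∀ x ∈ V, ∀ y ∈ V, x * y = y * x := fun x hx y hy => hZQc x hx.1 y hy.1
  have hVS : V ≤ (S : Subgroup Y) := fun x hx => hQS hx.1.1
  set CV := Subgroup.centralizer (V : Set Y) with hCV
  set CZ := Subgroup.centralizer (ZQ : Set Y) with hCZ
  have hCZV : CZ ≤ CV := Subgroup.centralizer_le fun x hx => hx.1
  -- `C(V) / C(Z(Q))` is a `2`-group
  have hkill : ∀ g ∈ CV, ∃ k, g ^ 2 ^ k ∈ CZ := by
    have key : ∀ m, ∀ g ∈ CV, ∀ z ∈ ZQ, z ^ 2 ^ m = 1 → ∃ k, g ^ 2 ^ k * z * (g ^ 2 ^ k)⁻¹ = z := by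
      intro m
      induction m with
      | zero => intro g _ z _ hz; rw [pow_zero, pow_one] at hz; exact ⟨0, by rw [hz]; group⟩
      | succ m ih =>
        intro g hg z hz hzm
        obtain ⟨k, hk⟩ := ih g hg (z * z) (ZQ.mul_mem hz hz)
          (by rw [← pow_two, ← pow_mul, ← pow_succ']; exact hzm)
        refine ⟨k + 1, ?_⟩
        set h := g ^ 2 ^ k with hh
        have hhV : h ∈ CV := CV.pow_mem hg _
        set w := z⁻¹ * (h * z * h⁻¹) with hw
        have hzc : h * z * h⁻¹ ∈ ZQ := hZQn.conj_mem z hz h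
        have hwZ : w ∈ ZQ := ZQ.mul_mem (ZQ.inv_mem hz) hzc
        have hwV : w ∈ V := by
          refine ⟨hwZ, ?_⟩
          have hc : Commute z⁻¹ (h * z * h⁻¹) := hZQc _ (ZQ.inv_mem hz) _ hzc
          rw [hw, hc.symm.mul_mul_mul_comm, show h * z * h⁻¹ * (h * z * h⁻¹) = h * (z * z) * h⁻¹ by group, hk]
          group
        have hhw : h * w * h⁻¹ = w :=
          mul_inv_eq_iff_eq_mul.2 (Subgroup.mem_centralizer_iff.1 hhV w hwV).symm
        rw [pow_succ, pow_mul, ← hh, pow_two]
        calc h * h * z * (h * h)⁻¹ = h * (z * w) * h⁻¹ := by rw [hw]; group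
          _ = (h * z * h⁻¹) * (h * w * h⁻¹) := by group
          _ = (z * w) * w := by rw [hhw, hw]; group
          _ = z := by rw [mul_assoc, hwV.2, mul_one]
    intro g hg
    have hZ2 : IsPGroup 2 ZQ := (PBasic.pCore_isPGroup 2 Y).to_le inf_le_left
    have hall : ∀ z : ZQ, ∃ k, g ^ 2 ^ k * z * (g ^ 2 ^ k)⁻¹ = (z : Y) := fun z => by
      obtain ⟨m, hm⟩ := hZ2 z
      exact key m g hg z z.2 (congrArg Subtype.val hm)
    choose k hk using hall
    haveI : Fintype ZQ := Fintype.ofFinite _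
    refine ⟨Finset.univ.sum k, Subgroup.mem_centralizer_iff.2 fun z hz => ?_⟩
    have hle : k ⟨z, hz⟩ ≤ Finset.univ.sum k := Finset.single_le_sum (fun _ _ => Nat.zero_le _) (Finset.mem_univ _)
    obtain ⟨j, hj⟩ := Nat.le.dest hle
    rw [← hj, pow_add, pow_mul]
    have hmem : g ^ 2 ^ k ⟨z, hz⟩ ∈ Subgroup.centralizer ({z} : Set Y) :=
      Functors.mem_centralizer_singleton.2 (hk ⟨z, hz⟩)
    exact Subgroup.mem_centralizer_iff.1 (Subgroup.pow_mem _ hmem _) z rfl
  -- the preimage of `O₂(Y / C(V))`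
  set π := QuotientGroup.mk' CV with hπ
  haveI : (Cfsg.pCore 2 (Y ⧸ CV)).Normal := Cfsg.pCore_normal 2 _
  set R := (Cfsg.pCore 2 (Y ⧸ CV)).comap π with hR
  haveI : R.Normal := Subgroup.Normal.comap inferInstance π
  obtain ⟨P, hP⟩ := PBasic.exists_sylow_subgroupOf S R
  set T := (S : Subgroup Y) ⊓ R with hT
  have hPmap : (P : Subgroup ↥R).map R.subtype = T := by rw [hP, Subgroup.subgroupOf_map_subtype]
  haveI : CZ.Normal := inferInstance
  haveI : (CZ.subgroupOf R).Normal := Subgroup.normal_subgroupOf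
  have hquo : IsPGroup 2 (↥R ⧸ CZ.subgroupOf R) := fun q => by
    induction q using QuotientGroup.induction_on with
    | _ r =>
      obtain ⟨k, hk⟩ := PBasic.pCore_isPGroup 2 (Y ⧸ CV) ⟨π r, r.2⟩
      have hrk : ((r : Y) ^ 2 ^ k) ∈ CV := by
        rw [← QuotientGroup.eq_one_iff (N := CV), ← QuotientGroup.mk'_apply, map_pow]
        exact congrArg Subtype.val hk
      obtain ⟨j, hj⟩ := hkill _ hrk
      refine ⟨k + j, ?_⟩
      rw [← QuotientGroup.mk_pow, QuotientGroup.eq_one_iff, Subgroup.mem_subgroupOf,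
        SubmonoidClass.coe_pow, pow_add, pow_mul]
      exact hj
  have hCVR : CV ≤ R := by
    intro c hc
    rw [hR, Subgroup.mem_comap, hπ, QuotientGroup.mk'_apply, (QuotientGroup.eq_one_iff c).2 hc]
    exact Subgroup.one_mem _
  have hRsup : R ≤ T ⊔ CZ := by
    have h := congrArg (Subgroup.map R.subtype) (PBasic.sylow_sup_eq_top P hquo)
    rw [Subgroup.map_sup, hPmap, ← MonoidHom.range_eq_map, Subgroup.range_subtype] at h
    exact h.ge.trans (sup_le_sup le_rfl (Subgroup.map_comap_le _ _))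
  have hfr := Sylow.normalizer_sup_eq_top P
  rw [hPmap] at hfr
  have hgen : ∀ g : Y, ∃ c ∈ CZ, ∃ l ∈ Subgroup.normalizer (T : Set Y), g = c * l := by
    intro g
    have h1 : CZ ⊔ Subgroup.normalizer (T : Set Y) = ⊤ := eq_top_iff.2 (hfr.ge.trans
      (sup_le le_sup_right (hRsup.trans (sup_le (Subgroup.le_normalizer.trans le_sup_right) le_sup_left))))
    exact (SolvBasic.mem_sup_iff_of_le_normalizer
      (le_top.trans_eq (Subgroup.normalizer_eq_top (H := CZ)).symm)).1 (h1 ▸ Subgroup.mem_top g)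
  -- `C(Z(Q))` normalizes `Z(S)`
  set Z1 := (inducedFunctor centreFun (S : Subgroup Y) : Subgroup Y) with hZ1
  have hCZZ : CZ ≤ Subgroup.normalizer (Z1 : Set Y) := by
    have hle : Z1 ≤ ZQ := by
      rw [hZ1, inducedFunctor_centreFun]
      intro z hz
      have hzC : z ∈ Subgroup.centralizer (Q : Set Y) := Subgroup.centralizer_le hQS hz.2
      exact ⟨hC hzC, hzC⟩
    exact (Subgroup.centralizer_le hle).trans (Subgroup.centralizer_le_normalizer _)
  have hSZ : (S : Subgroup Y) ≤ Subgroup.normalizer (Z1 : Set Y) :=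
    Functors.le_normalizer_conjFunctor
      (Functors.inducedFunctor_isConjugacyFunctor isCharPFunctor_centreFun) S.isPGroup'
  have hSL : (S : Subgroup Y) ≤ Subgroup.normalizer (T : Set Y) := by
    intro s hs
    refine Subgroup.mem_normalizer_fintype fun t ht =>
      ⟨(S : Subgroup Y).mul_mem ((S : Subgroup Y).mul_mem hs ht.1) ((S : Subgroup Y).inv_mem hs), Subgroup.Normal.conj_mem ‹R.Normal› t ht.2 s⟩
  refine Functors.familySF_top_of_reach (S := S) fun A g hA hgA => ?_
  have hBS : Subgroup.closure A ≤ (S : Subgroup Y) := (Subgroup.closure_le _).2 hA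
  have hgB : (Subgroup.closure A).map (Functors.cj g) ≤ (S : Subgroup Y) := by
    rw [MonoidHom.map_closure, Subgroup.closure_le]; exact hgA
  obtain ⟨c, hc, l, hl, rfl⟩ := hgen g
  obtain ⟨m', hm', l', hl', he, hle⟩ :=
    Functors.conj_le_intermediate S hSZ hSL hBS (hCZZ hc) hl hgB
  rw [he] at hgB ⊢
  refine Functors.Reach.mono ?_ Subgroup.subset_closure
  have r1 : Functors.Reach (S : Subgroup Y) (Functors.stepSet zjPair.{u} (S : Subgroup Y))
      ((Subgroup.closure A : Subgroup Y) : Set Y) l' := by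
    have himg : Functors.cj l' '' ((Subgroup.closure A : Subgroup Y) : Set Y) ⊆ (S : Subgroup Y) := by
      rw [Functors.cj_image_coe]; exact hle
    by_cases hTV : T ≤ CV
    · -- `Y / C(V)` is reduced
      have hno : NoTwo (Y ⧸ CV) := by
        intro N hN hN2
        refine le_bot_iff.1 ((PBasic.le_pCore hN hN2).trans ?_)
        rw [← Subgroup.map_comap_eq_self_of_surjective (QuotientGroup.mk'_surjective CV)
          (Cfsg.pCore 2 (Y ⧸ CV)), ← hπ, ← hR]
        refine (Subgroup.map_mono (hRsup.trans (sup_le hTV hCZV))).trans ?_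
        rw [hπ, QuotientGroup.map_mk'_self]
      have hJT : Cfsg.thompsonSubgroupOf 2 (S : Subgroup Y) ≤ T := by
        refine le_inf (Thompson.thompsonSubgroupOf_le 2 _) ?_
        rw [Thompson.thompsonSubgroupOf_eq]
        exact sSup_le fun A hA =>
          (le_centralizer_of_max h4 hab (fun x hx => hx.2) hno hVS hA).trans hCVR
      have hJ : Cfsg.thompsonSubgroupOf 2 T = Cfsg.thompsonSubgroupOf 2 (S : Subgroup Y) :=
        Thompson.thompsonSubgroupOf_eq_of_le hJT inf_le_left
      refine Functors.Reach.single hBS ⟨_, ⟨_, ⟨thompsonFun, Or.inr rfl, rfl⟩, rfl⟩, ?_⟩ himg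
      change l' ∈ Subgroup.normalizer ((inducedFunctor thompsonFun (S : Subgroup Y) : Subgroup Y) : Set Y)
      rw [inducedFunctor_thompsonFun, ← hJ]
      refine Functors.map_cj_eq_iff.1 ?_
      rw [← Thompson.thompsonSubgroupOf_map_of_injective _ _ (Functors.cj_injective l'),
        Functors.map_cj_eq_iff.2 hl']
    · have hne : Subgroup.normalizer (T : Set Y) ≠ ⊤ := by
        intro h
        haveI := Subgroup.normalizer_eq_top_iff.1 h
        have hTQ : T ≤ Q := PBasic.le_pCore ‹T.Normal› (S.isPGroup'.to_le inf_le_left)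
        exact hTV fun t ht => hCZV (Subgroup.mem_centralizer_iff.2 fun z hz =>
          (Subgroup.mem_centralizer_iff.1 hz.2 t (hTQ ht)).symm)
      exact Functors.reach_of_ctl_subgroup zjPair_char S hSL (hsub _ hne) hl' hBS himg
  refine r1.trans ?_
  rw [Functors.cj_image_coe]
  exact Functors.Reach.single hle ⟨_, ⟨_, ⟨centreFun, Or.inl rfl, rfl⟩, rfl⟩, hm'⟩
    (by rw [Functors.cj_image_coe, Functors.map_map_cj]; exact hgB)

theorem card_section_le {G : Type u} [Group G] [Finite G] {Z : Type u} [Group Z]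
    (h : Functors.IsSectionOf G Z) : Nat.card Z ≤ Nat.card G := by
  obtain ⟨K, f, hf⟩ := h
  exact (Nat.card_le_card_of_surjective f hf).trans (Subgroup.card_le_card_group K)

/-- **`Z` and `J` control strong fusion in `S₄`-free groups.** -/
theorem ctlSF_zjPair {G : Type u} [Group G] [Finite G] (h4 : ¬ Involves (Equiv.Perm (Fin 4)) G) :
    Functors.CtlSF 2 zjPair.{u} G := by
  suffices key : ∀ n : ℕ, ∀ (Y : Type u) [Group Y] [Finite Y], Nat.card Y ≤ n →
      ¬ Involves (Equiv.Perm (Fin 4)) Y → Functors.CtlSF 2 zjPair.{u} Y from key _ G le_rfl h4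
  intro n
  induction n with
  | zero => intro Y _ _ h _; exact absurd h (by have := Nat.card_pos (α := Y); omega)
  | succ n ih =>
    intro Y _ _ hY h4
    refine Functors.ctlSF_of_sections zjPair_char Y fun Z _ _ hZ hC => ?_
    have h4Z : ¬ Involves (Equiv.Perm (Fin 4)) Z := PStable.not_involves_section h4 hZ
    refine ctlSF_constrained h4Z hC fun H hH =>
      ih H ?_ fun h => h4Z (SFourFree.involves_mono H.subtype H.subtype_injective h)
    have := Functors.card_lt_of_ne_top hH
    have := card_section_le hZ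
    omega

end Level

end Cfsg.Agent.S3Free
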