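/-
`Qd(p)`-free and `S₄`-free groups: control of fusion by functors in all sections.
-/
import Cfsg.Agent.Lib.S3Free.Level
import Cfsg.Agent.Lib.Qd.SectionFree
import Cfsg.Agent.S2761

set_option autoImplicit false
set_option linter.unusedSectionVars false
set_option linter.style.haveILetI false

namespace Cfsg.Agent.S3Free

open Cfsg

universe u

variable {G : Type u} [Group G]

theorem involves_congr {H H' : Type} [Group H] [Group H'] (e : H ≃* H') (h : Involves H G) :
    Involves H' G := by
  obtain ⟨K, R, hR, ⟨f⟩⟩ := h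
  exact ⟨K, R, hR, ⟨f.trans e⟩⟩

theorem involves_qd_two_iff :
    Involves ↥(Cfsg.qd 2) G ↔ Involves (Equiv.Perm (Fin 4)) G :=
  ⟨involves_congr (Classical.choice Cfsg.Agent.S2761.result),
    involves_congr (Classical.choice Cfsg.Agent.S2761.result).symm⟩

variable [Finite G]

theorem ctlSF_zjPair_sections (h : ¬ Involves (Equiv.Perm (Fin 4)) G) (K R : Subgroup G)
    [(R.subgroupOf K).Normal] : Functors.CtlSF 2 zjPair.{u} (↥K ⧸ R.subgroupOf K) :=
  ctlSF_zjPair (PStable.not_involves_section h (Functors.isSectionOf_quotient K R))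

theorem image_zjPair {Y : Type u} [Group Y] :
    (fun W => inducedFunctor (G := Y) W) '' zjPair.{u} =
      ({fun P : Subgroup Y => P ⊓ Subgroup.centralizer (P : Set Y),
        fun P : Subgroup Y => Cfsg.thompsonSubgroupOf 2 P} : Set (Subgroup Y → Subgroup Y)) := by
  rw [zjPair, Set.image_pair]
  congr 1
  exact funext inducedFunctor_centreFun

end Cfsg.Agent.S3Free
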