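/-
The factorization by the centralizer of the central involutions and the normalizer of the Thompson
subgroup in constrained groups without sections isomorphic to the symmetric group of degree four.
-/
import Cfsg.Agent.Lib.S3Free.Level

set_option autoImplicit false
set_option linter.unusedSectionVars false
set_option linter.style.haveILetI false

namespace Cfsg.Agent.S3Free

open Cfsg

universe u

variable {G : Type u} [Group G] [Finite G]

/-- An involution of `S` centralizing an elementary abelian subgroup of largest order lies in it. -/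
theorem mem_of_max_of_commute {S E : Subgroup G} (hE : Thompson.IsMaxEAIn 2 S E) {z : G} (hzS : z ∈ S)
    (hz : z * z = 1) (hc : ∀ e ∈ E, e * z = z * e) : z ∈ E := by
  obtain ⟨hES, hEe, hmax⟩ := hE
  set B := E ⊔ Subgroup.zpowers z with hB
  have hBc : B ≤ Subgroup.centralizer (B : Set G) := by
    have h1 : B ≤ Subgroup.centralizer ({z} : Set G) := sup_le
      (fun e he => Subgroup.mem_centralizer_singleton_iff.2 (hc e he))
      (Subgroup.zpowers_le.2 (Subgroup.mem_centralizer_singleton_iff.2 rfl))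
    have h2 : B ≤ Subgroup.centralizer (E : Set G) := sup_le
      (fun a ha => Subgroup.mem_centralizer_iff.2 fun b hb => Thompson.commute_of_isElementaryAbelian hEe hb ha)
      (Subgroup.zpowers_le.2 (Subgroup.mem_centralizer_iff.2 fun e he => hc e he))
    refine sup_le (Subgroup.le_centralizer_iff.1 h2) (Subgroup.zpowers_le.2 ?_)
    exact Subgroup.mem_centralizer_iff.2 fun b hb => Subgroup.mem_centralizer_singleton_iff.1 (h1 hb)
  have hcomm : ∀ a ∈ B, ∀ b ∈ B, a * b = b * a := fun a ha b hb =>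
    Subgroup.mem_centralizer_iff.1 (hBc hb) a ha
  let K : Subgroup G :=
    { carrier := {x | x ∈ B ∧ x * x = 1}
      one_mem' := ⟨B.one_mem, one_mul 1⟩
      mul_mem' := fun {a b} ha hb => ⟨B.mul_mem ha.1 hb.1, by
        rw [show a * b * (a * b) = a * (b * a) * b by group, hcomm b hb.1 a ha.1,
          show a * (a * b) * b = (a * a) * (b * b) by group, ha.2, hb.2, one_mul]⟩
      inv_mem' := fun {a} ha => ⟨B.inv_mem ha.1, by rw [← mul_inv_rev, ha.2, inv_one]⟩ }
  have hBK : B ≤ K := sup_le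
    (fun e he => ⟨Subgroup.mem_sup_left he, by rw [← pow_two]; exact hEe.2 e he⟩)
    (Subgroup.zpowers_le.2 ⟨Subgroup.mem_sup_right (Subgroup.mem_zpowers z), hz⟩)
  have hBe : Cfsg.IsElementaryAbelian 2 B :=
    ⟨⟨⟨fun x y => Subtype.ext (hcomm x x.2 y y.2)⟩⟩, fun x hx => by rw [pow_two]; exact (hBK hx).2⟩
  have hle := hmax B (sup_le hES (Subgroup.zpowers_le.2 hzS)) hBe
  rw [Subgroup.eq_of_le_of_card_ge (le_sup_left : E ≤ B) hle]
  exact Subgroup.mem_sup_right (Subgroup.mem_zpowers z)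

/-- A central involution of `S` lies in the Thompson subgroup. -/
theorem mem_thompson_of_central {S : Subgroup G} {z : G} (hzS : z ∈ S) (hz : z * z = 1)
    (hc : z ∈ Subgroup.centralizer (S : Set G)) : z ∈ Cfsg.thompsonSubgroupOf 2 S := by
  obtain ⟨E, hE⟩ := Thompson.exists_isMaxEAIn 2 S
  exact Thompson.le_thompsonSubgroupOf hE
    (mem_of_max_of_commute hE hzS hz fun e he => Subgroup.mem_centralizer_iff.1 hc e (hE.1 he))

/-- The factorization. -/
theorem exists_factor (h4 : ¬ Involves (Equiv.Perm (Fin 4)) G)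
    (hC : Subgroup.centralizer (Cfsg.pCore 2 G : Set G) ≤ Cfsg.pCore 2 G) (P : Sylow 2 G) (g : G) :
    ∃ n ∈ Subgroup.normalizer (Cfsg.thompsonSubgroupOf 2 (P : Subgroup G) : Set G), ∃ c : G,
      (∀ z ∈ (P : Subgroup G), z * z = 1 → z ∈ Subgroup.centralizer ((P : Subgroup G) : Set G) →
        c * z * c⁻¹ = z) ∧ g = n * c := by
  classical
  haveI : Fact (Nat.Prime 2) := ⟨Nat.prime_two⟩
  set Q := Cfsg.pCore 2 G with hQ
  haveI hQn : Q.Normal := Cfsg.pCore_normal 2 G
  have hQP : Q ≤ (P : Subgroup G) := PBasic.pCore_le_sylow P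
  set ZQ := Q ⊓ Subgroup.centralizer (Q : Set G) with hZQ
  haveI hZQn : ZQ.Normal := Subgroup.normal_inf_normal _ _
  have hZQc : ∀ x ∈ ZQ, ∀ y ∈ ZQ, x * y = y * x := fun x hx y hy =>
    Subgroup.mem_centralizer_iff.1 hy.2 x hx.1
  let W0 : Subgroup G :=
    { carrier := {x | x ∈ ZQ ∧ x * x = 1}
      one_mem' := ⟨ZQ.one_mem, one_mul 1⟩
      mul_mem' := fun {a b} ha hb => ⟨ZQ.mul_mem ha.1 hb.1, by
        rw [show a * b * (a * b) = a * (b * a) * b by group, hZQc b hb.1 a ha.1,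
          show a * (a * b) * b = (a * a) * (b * b) by group, ha.2, hb.2, one_mul]⟩
      inv_mem' := fun {a} ha => ⟨ZQ.inv_mem ha.1, by rw [← mul_inv_rev, ha.2, inv_one]⟩ }
  haveI : W0.Normal := ⟨fun v hv g => ⟨hZQn.conj_mem v hv.1 g, by
    rw [show g * v * g⁻¹ * (g * v * g⁻¹) = g * (v * v) * g⁻¹ by group, hv.2]; group⟩⟩
  set Zs : Set G := {z | z ∈ (P : Subgroup G) ∧ z * z = 1 ∧ z ∈ Subgroup.centralizer ((P : Subgroup G) : Set G)}
    with hZs
  set V := Subgroup.normalClosure Zs with hV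
  have hVW : V ≤ W0 := Subgroup.normalClosure_le_normal fun z hz => by
    have h := Subgroup.centralizer_le hQP hz.2.2
    exact ⟨⟨hC h, h⟩, hz.2.1⟩
  have hVP : V ≤ (P : Subgroup G) := fun x hx => hQP (hVW hx).1.1
  have hab : ∀ x ∈ V, ∀ y ∈ V, x * y = y * x := fun x hx y hy => hZQc x (hVW hx).1 y (hVW hy).1
  have hsq : ∀ x ∈ V, x * x = 1 := fun x hx => (hVW hx).2
  set C := Subgroup.centralizer (V : Set G) with hCdef
  set π := QuotientGroup.mk' C with hπ
  haveI : (Cfsg.pCore 2 (G ⧸ C)).Normal := Cfsg.pCore_normal 2 _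
  set R := (Cfsg.pCore 2 (G ⧸ C)).comap π with hR
  haveI : R.Normal := Subgroup.Normal.comap inferInstance π
  obtain ⟨P₁, hP₁⟩ := PBasic.exists_sylow_subgroupOf P R
  set T := (P : Subgroup G) ⊓ R with hT
  have hmap : (P₁ : Subgroup ↥R).map R.subtype = T := by rw [hP₁, Subgroup.subgroupOf_map_subtype]
  haveI : (C.subgroupOf R).Normal := Subgroup.normal_subgroupOf
  have hquo : IsPGroup 2 (↥R ⧸ C.subgroupOf R) := fun q => by
    induction q using QuotientGroup.induction_on with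
    | _ r =>
      obtain ⟨k, hk⟩ := PBasic.pCore_isPGroup 2 (G ⧸ C) ⟨π r, r.2⟩
      refine ⟨k, ?_⟩
      rw [← QuotientGroup.mk_pow, QuotientGroup.eq_one_iff, Subgroup.mem_subgroupOf,
        SubmonoidClass.coe_pow, ← QuotientGroup.eq_one_iff (N := C), ← QuotientGroup.mk'_apply, map_pow]
      exact congrArg Subtype.val hk
  have hRsup : R ≤ T ⊔ C := by
    have h := congrArg (Subgroup.map R.subtype) (PBasic.sylow_sup_eq_top P₁ hquo)
    rw [Subgroup.map_sup, hmap, ← MonoidHom.range_eq_map, Subgroup.range_subtype] at h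
    exact h.ge.trans (sup_le_sup le_rfl (Subgroup.map_comap_le _ _))
  have hfr := Sylow.normalizer_sup_eq_top P₁
  rw [hmap] at hfr
  have hgen : ∀ g : G, ∃ n ∈ Subgroup.normalizer (T : Set G), ∃ c ∈ C, g = n * c := by
    intro g
    have h1 : C ⊔ Subgroup.normalizer (T : Set G) = ⊤ := eq_top_iff.2 (hfr.ge.trans
      (sup_le le_sup_right (hRsup.trans (sup_le (Subgroup.le_normalizer.trans le_sup_right) le_sup_left))))
    obtain ⟨c, hc, n, hn, he⟩ := (SolvBasic.mem_sup_iff_of_le_normalizer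
      (le_top.trans_eq (Subgroup.normalizer_eq_top (H := C)).symm)).1 (h1 ▸ Subgroup.mem_top g⁻¹)
    exact ⟨n⁻¹, inv_mem hn, c⁻¹, inv_mem hc, by rw [← mul_inv_rev, ← he, inv_inv]⟩
  have hfix : ∀ c ∈ C, ∀ z ∈ Zs, c * z * c⁻¹ = z := fun c hc z hz => mul_inv_eq_iff_eq_mul.2
    (Subgroup.mem_centralizer_iff.1 hc z (Subgroup.subset_normalClosure hz)).symm
  have hTC : T ≤ C := by
    refine Subgroup.le_centralizer_iff.1 ?_
    rw [hV, Subgroup.normalClosure, Subgroup.closure_le]
    rintro x hx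
    obtain ⟨z, hz, hconj⟩ := Group.mem_conjugatesOfSet_iff.1 hx
    obtain ⟨g, rfl⟩ := isConj_iff.1 hconj
    obtain ⟨n, hn, c, hc, rfl⟩ := hgen g
    refine Subgroup.mem_centralizer_iff.2 fun t ht => ?_
    have ht' : n⁻¹ * t * n ∈ T := by
      simpa using (Subgroup.mem_normalizer_iff.1 (inv_mem hn) t).1 ht
    have h := Subgroup.mem_centralizer_iff.1 hz.2.2 _ ht'.1
    have e : (n * c) * z * (n * c)⁻¹ = n * z * n⁻¹ := by
      rw [show (n * c) * z * (n * c)⁻¹ = n * (c * z * c⁻¹) * n⁻¹ by group, hfix c hc z hz]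
    rw [e]
    calc t * (n * z * n⁻¹) = n * (n⁻¹ * t * n * z) * n⁻¹ := by group
      _ = n * (z * (n⁻¹ * t * n)) * n⁻¹ := by rw [h]
      _ = n * z * n⁻¹ * t := by group
  have hno : NoTwo (G ⧸ C) := by
    intro N hN hN2
    refine le_bot_iff.1 ((PBasic.le_pCore hN hN2).trans ?_)
    rw [← Subgroup.map_comap_eq_self_of_surjective (QuotientGroup.mk'_surjective C)
      (Cfsg.pCore 2 (G ⧸ C)), ← hπ, ← hR]
    refine (Subgroup.map_mono (hRsup.trans (sup_le hTC le_rfl))).trans ?_
    rw [hπ, QuotientGroup.map_mk'_self]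
  have hCR : C ≤ R := by
    intro c hc
    rw [hR, Subgroup.mem_comap, hπ, QuotientGroup.mk'_apply, (QuotientGroup.eq_one_iff c).2 hc]
    exact Subgroup.one_mem _
  have hJT : Cfsg.thompsonSubgroupOf 2 (P : Subgroup G) ≤ T := by
    refine le_inf (Thompson.thompsonSubgroupOf_le 2 _) ?_
    rw [Thompson.thompsonSubgroupOf_eq]
    exact sSup_le fun A hA => (le_centralizer_of_max h4 hab hsq hno hVP hA).trans hCR
  have hJ : Cfsg.thompsonSubgroupOf 2 T = Cfsg.thompsonSubgroupOf 2 (P : Subgroup G) :=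
    Thompson.thompsonSubgroupOf_eq_of_le hJT inf_le_left
  obtain ⟨n, hn, c, hc, rfl⟩ := hgen g
  refine ⟨n, ?_, c, fun z hz hz2 hzc => hfix c hc z ⟨hz, hz2, hzc⟩, rfl⟩
  rw [← hJ]
  exact Thompson.normalizer_le_normalizer_thompsonSubgroupOf 2 T hn

end Cfsg.Agent.S3Free
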